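import Mathlib

/-!
A group of order `2880` on 16 points with a regular normal elementary subgroup and an element of order 3
central in a point stabiliser is the group of affine transformations of the plane over the field with four
elements.
-/

set_option autoImplicit false
set_option linter.unusedSectionVars false
set_option linter.style.haveILetI false

namespace CfsgLib.TwoTransAFour.AffineModel

open MulAction

theorem four_elements {F : Type} [Field F] [Fintype F] (h : Fintype.card F = 4) :
    (∀ x : F, x + x = 0) ∧ ∃ o : F, o ≠ 0 ∧ o ≠ 1 ∧ o * o = o + 1 ∧ ∀ x : F, x = 0 ∨ x = 1 ∨ x = o ∨ x = o + 1 := by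
  classical
  have h4 : (4 : F) = 0 := by
    have := Nat.cast_card_eq_zero F
    rw [h] at this
    exact_mod_cast this
  have h2' : (2 : F) = 0 := by
    have : (2 : F) * 2 = 0 := by rw [← h4]; norm_num
    exact (mul_self_eq_zero).1 this
  have h2 : ∀ x : F, x + x = 0 := fun x => by rw [← two_mul, h2', zero_mul]
  obtain ⟨o, ho⟩ : ∃ o : F, o ∉ ({0, 1} : Finset F) := by
    by_contra hall
    have := Finset.card_le_card (fun x _ => not_not.1 (not_exists.1 hall x) :
      (Finset.univ : Finset F) ⊆ {0, 1})
    rw [Finset.card_univ, h] at this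
    have := this.trans Finset.card_le_two
    omega
  simp only [Finset.mem_insert, Finset.mem_singleton, not_or] at ho
  obtain ⟨ho0, ho1⟩ := ho
  have hne1 : o + 1 ≠ 0 := fun e => ho1 (by
    calc o = o + 1 + 1 := by rw [add_assoc, h2, add_zero]
      _ = 1 := by rw [e, zero_add])
  have hne2 : o + 1 ≠ 1 := fun e => ho0 (by simpa using e)
  have hne3 : o + 1 ≠ o := fun e => one_ne_zero (α := F) (by simpa using e)
  have hall : ∀ x : F, x = 0 ∨ x = 1 ∨ x = o ∨ x = o + 1 := by
    have hc : ({0, 1, o, o + 1} : Finset F) = Finset.univ := by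
      refine Finset.eq_univ_of_card _ ?_
      rw [h, Finset.card_insert_of_notMem, Finset.card_insert_of_notMem, Finset.card_insert_of_notMem,
        Finset.card_singleton]
      · simpa using hne3.symm
      · simp [Ne.symm ho1, hne2.symm]
      · simp [Ne.symm ho0, hne1.symm]
    intro x
    have := Finset.mem_univ x
    rw [← hc] at this
    simpa using this
  refine ⟨h2, o, ho0, ho1, ?_, hall⟩
  rcases hall (o * o) with e | e | e | e
  · exact absurd (mul_self_eq_zero.1 e) ho0
  · refine absurd ?_ hne1
    have : (o + 1) * (o + 1) = 0 := by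
      calc (o + 1) * (o + 1) = o * o + (o + o) + 1 := by ring
        _ = 0 := by rw [e, h2, add_zero, h2]
    exact mul_self_eq_zero.1 this
  · exact absurd (mul_right_cancel₀ ho0 (e.trans (one_mul o).symm)) ho1
  · exact e

/-- An additive automorphism `T` with `T² + T + 1 = 0` on a group of exponent two gives a structure of
vector space over the field with four elements. -/
theorem exists_module {V : Type*} [AddCommGroup V] (hV : ∀ v : V, v + v = 0) (T : V → V)
    (hT : ∀ u v, T (u + v) = T u + T v) (hrel : ∀ v, T (T v) + T v + v = 0) {F : Type} [Field F]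
    [Fintype F] (hF : Fintype.card F = 4) :
    ∃ (_ : Module F V), ∀ (x : F) (f : V →+ V), (∀ v, f (T v) = T (f v)) →
      ∀ v, f (x • v) = x • f v := by
  classical
  obtain ⟨hch, o, ho0, ho1, hoo, hall⟩ := four_elements hF
  have hn1 : o + 1 ≠ 0 := fun e => ho1 (by
    calc o = o + 1 + 1 := by rw [add_assoc, hch, add_zero]
      _ = 1 := by rw [e, zero_add])
  have hn2 : o + 1 ≠ 1 := fun e => ho0 (by simpa using e)
  have hn3 : o + 1 ≠ o := fun e => one_ne_zero (α := F) (by simpa using e)
  let act : F → V → V := fun x v => if x = 0 then 0 else if x = 1 then v else if x = o then T v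
    else T v + v
  have a0 : ∀ v, act 0 v = 0 := fun v => by simp [act]
  have a1 : ∀ v, act 1 v = v := fun v => by simp [act]
  have ao : ∀ v, act o v = T v := fun v => by simp [act, ho0, ho1]
  have ap : ∀ v, act (o + 1) v = T v + v := fun v => by simp [act, hn1, hn2, hn3]
  have hT2 : ∀ v, T (T v) = T v + v := fun v => by
    calc T (T v) = T (T v) + T v + v + (T v + v) := by
          have h1 := hV (T v)
          have h2 := hV v
          calc T (T v) = T (T v) + (T v + T v) + (v + v) := by rw [h1, h2, add_zero, add_zero]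
            _ = _ := by abel
      _ = T v + v := by rw [hrel, zero_add]
  have hT0 : T 0 = 0 := by simpa using (hT 0 0)
  have c1 : ∀ x : F, (1 : F) + (x + 1) = x := fun x => by
    rw [add_left_comm, hch, add_zero]
  have c2 : ∀ x : F, x + 1 + 1 = x := fun x => by rw [add_assoc, hch, add_zero]
  have c3 : o + (o + 1) = 1 := by rw [← add_assoc, hch, zero_add]
  have c4 : o + 1 + o = 1 := by rw [add_comm, c3]
  have c5 : (1 : F) + 1 = 0 := hch 1
  have c6 : (1 : F) + o = o + 1 := add_comm _ _
  have d1 : o * (o + 1) = 1 := by rw [mul_add, hoo, mul_one, add_right_comm, hch, zero_add]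
  have d2 : (o + 1) * o = 1 := by rw [mul_comm, d1]
  have d3 : (o + 1) * (o + 1) = o := by rw [add_mul, d1, one_mul, c1]
  have hv2 : ∀ u v : V, u + (u + v) = v := fun u v => by rw [← add_assoc, hV, zero_add]
  have hv3 : ∀ u v : V, u + v + v = u := fun u v => by rw [add_assoc, hV, add_zero]
  have hv4 : ∀ u v : V, u + v + u = v := fun u v => by rw [add_comm u v, hv3]
  have hv5 : ∀ u v : V, u + (v + u) = v := fun u v => by rw [add_comm v u, hv2]
  have hadd : ∀ (x y : F) v, act (x + y) v = act x v + act y v := by
    intro x y v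
    rcases hall x with rfl | rfl | rfl | rfl <;> rcases hall y with rfl | rfl | rfl | rfl <;>
      simp [a0, a1, ao, ap, hch, c1, c2, c3, c4, c5, c6, hV, hv2, hv3, hv4, hv5, add_comm (T v) v]
  have hmul : ∀ (x y : F) v, act (x * y) v = act x (act y v) := by
    intro x y v
    rcases hall x with rfl | rfl | rfl | rfl <;> rcases hall y with rfl | rfl | rfl | rfl <;>
      simp [a0, a1, ao, ap, hoo, d1, d2, d3, hT0, hT, hT2, hV, hv2, hv3, hv4, hv5]
  have hsadd : ∀ (x : F) u v, act x (u + v) = act x u + act x v := by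
    intro x u v
    rcases hall x with rfl | rfl | rfl | rfl <;> simp [a0, a1, ao, ap, hT]
    abel
  have hszero : ∀ x : F, act x 0 = 0 := by
    intro x
    rcases hall x with rfl | rfl | rfl | rfl <;> simp [a0, a1, ao, ap, hT0]
  refine ⟨{ smul := act, one_smul := a1, mul_smul := hmul, smul_zero := hszero, smul_add := hsadd,
            add_smul := hadd, zero_smul := a0 }, fun x f hf v => ?_⟩
  show f (act x v) = act x (f v)
  rcases hall x with rfl | rfl | rfl | rfl <;> simp [a0, a1, ao, ap, hf]

theorem card_affineEquiv_le {F : Type} [Field F] [Fintype F] (hF : Fintype.card F = 4) :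
    Finite ((Fin 2 → F) ≃ᵃ[F] (Fin 2 → F)) ∧
      Nat.card ((Fin 2 → F) ≃ᵃ[F] (Fin 2 → F)) ≤ 2880 := by
  classical
  let L := ((Fin 2 → F) ≃ₗ[F] (Fin 2 → F))
  have e : Matrix.GeneralLinearGroup (Fin 2) F ≃* L :=
    Matrix.GeneralLinearGroup.toLin.trans (LinearMap.GeneralLinearGroup.generalLinearEquiv F _)
  haveI : Finite L := Finite.of_equiv _ e.toEquiv
  have hL : Nat.card L = 180 := by
    rw [← Nat.card_congr e.toEquiv, Matrix.card_GL_field, hF]
    decide
  let ι : ((Fin 2 → F) ≃ᵃ[F] (Fin 2 → F)) → (Fin 2 → F) × L := fun A => (A 0, A.linear)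
  have hι : Function.Injective ι := by
    intro A B h
    simp only [ι, Prod.mk.injEq] at h
    refine AffineEquiv.ext fun v => ?_
    have hA := A.map_vadd 0 v
    have hB := B.map_vadd 0 v
    simp only [vadd_eq_add, add_zero] at hA hB
    rw [hA, hB, h.1, h.2]
  haveI := Finite.of_injective ι hι
  refine ⟨inferInstance, (Nat.card_le_card_of_injective ι hι).trans ?_⟩
  rw [Nat.card_prod, hL, Nat.card_eq_fintype_card, Fintype.card_fun, Fintype.card_fin, hF]
  norm_num

theorem exists_iso {G : Type*} [Group G] [Finite G] {Ω : Type*} [Finite Ω] [MulAction G Ω]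
    (faithful : ∀ g : G, (∀ x : Ω, g • x = x) → g = 1) (hΩ : Nat.card Ω = 16) (hG : Nat.card G = 2880)
    (N : Subgroup G) [hN : N.Normal] (hsq : ∀ t ∈ N, t * t = 1) (a : Ω)
    (hreg : Function.Bijective fun t : N => (t : G) • a) {w : G} (hwa : w • a = a) (hw3 : w * w * w = 1)
    (hwc : ∀ k : G, k • a = a → k * w = w * k) (hwfix : ∀ x : Ω, w • x = x → x = a) :
    ∃ (F : Type) (_ : Field F) (_ : Fintype F), Fintype.card F = 4 ∧
      Nonempty (G ≃* ((Fin 2 → F) ≃ᵃ[F] (Fin 2 → F))) := by
  classical
  haveI : Fact (Nat.Prime 2) := ⟨Nat.prime_two⟩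
  let F := GaloisField 2 2
  letI : Fintype F := Fintype.ofFinite F
  have hF : Fintype.card F = 4 := by
    rw [← Nat.card_eq_fintype_card, GaloisField.card 2 2 (by norm_num)]
    norm_num
  refine ⟨F, inferInstance, inferInstance, hF, ?_⟩
  letI : CommGroup N :=
    { (inferInstance : Group N) with
      mul_comm := fun x y => Subtype.ext (by
        have h1 := hsq _ (mul_mem x.2 y.2)
        show (x : G) * y = y * x
        calc (x : G) * y = x * y * ((y : G) * y) * ((x : G) * x) * 1 := by
              rw [hsq _ x.2, hsq _ y.2, mul_one, mul_one, mul_one]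
          _ = x * y * ((y : G) * y) * ((x : G) * x) * (((y : G) * x) * ((y : G) * x)) := by
              rw [hsq _ (mul_mem y.2 x.2)]
          _ = (x : G) * (y * y) * ((y : G) * x * x) * (y * x * (y * x)) := by group
          _ = ((x : G) * x) * (y : G) * x := by
              rw [hsq _ y.2, mul_one, mul_assoc (y : G) x x, hsq _ x.2, mul_one]
              group
              simp [mul_assoc, pow_two, hsq _ x.2, hsq _ y.2]
          _ = (y : G) * x := by rw [hsq _ x.2, one_mul]) }
  let V := Additive N
  have hV : ∀ v : V, v + v = 0 := fun v => Subtype.ext (hsq _ (Additive.toMul v).2)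
  let conjH : ∀ g : G, V →+ V := fun g =>
    MonoidHom.toAdditive (MulAut.conjNormal g : N ≃* N).toMonoidHom
  have hconj : ∀ (g : G) (v : V), ((Additive.toMul (conjH g v) : N) : G) = g * (Additive.toMul v : N) * g⁻¹ :=
    fun g v => MulAut.conjNormal_apply g (Additive.toMul v)
  let T : V → V := conjH w
  have hrel : ∀ v, T (T v) + T v + v = 0 := by
    intro v
    set t : N := Additive.toMul v
    have e : ((Additive.toMul (T (T v) + T v + v) : N) : G) = w * (w * t * w⁻¹) * w⁻¹ * (w * t * w⁻¹) * t := by
      show ((Additive.toMul (conjH w (conjH w v)) : N) : G) *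
        ((Additive.toMul (conjH w v) : N) : G) * (t : G) = _
      rw [hconj, hconj]
    set u : N := Additive.toMul (T (T v) + T v + v)
    have hfix : w • (u : G) • a = (u : G) • a := by
      have hw' : w⁻¹ • a = a := inv_smul_eq_iff.2 hwa.symm
      have hu : w * (u : G) * w⁻¹ = u := by
        have hi : w⁻¹ = w * w := inv_eq_of_mul_eq_one_right (by rw [← mul_assoc, hw3])
        have hcomm : ∀ p q : N, (p : G) * q = q * p := fun p q => congrArg Subtype.val (mul_comm p q)
        rw [e]
        calc w * (w * (w * t * w⁻¹) * w⁻¹ * (w * t * w⁻¹) * t) * w⁻¹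
            = (w * w * w) * (t : G) * (w * w * w)⁻¹ * ((w * (w * t * w⁻¹) * w⁻¹) * (w * t * w⁻¹)) := by
              group
          _ = (t : G) * ((w * (w * t * w⁻¹) * w⁻¹) * (w * t * w⁻¹)) := by
              rw [hw3]; group
          _ = w * (w * t * w⁻¹) * w⁻¹ * (w * t * w⁻¹) * t :=
              hcomm t ⟨_, mul_mem (hN.conj_mem _ (hN.conj_mem _ t.2 w) w) (hN.conj_mem _ t.2 w)⟩
      calc w • (u : G) • a = (w * u * w⁻¹) • a := by rw [mul_smul, mul_smul, hw']
        _ = (u : G) • a := by rw [hu]
    have h1 : (u : G) • a = ((1 : N) : G) • a := by rw [hwfix _ hfix]; exact (one_smul G a).symm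
    exact congrArg Additive.ofMul (hreg.1 h1)
  obtain ⟨mod, hlin⟩ := exists_module hV T (conjH w).map_add hrel hF
  letI := mod
  let eN : N ≃ Ω := Equiv.ofBijective _ hreg
  haveI : Finite V := Finite.of_equiv N Additive.ofMul
  letI : Fintype V := Fintype.ofFinite V
  have hcardV : Fintype.card V = 16 := by
    rw [← Nat.card_eq_fintype_card, Nat.card_congr (Additive.toMul : V ≃ N), Nat.card_congr eN, hΩ]
  have hrank : Module.finrank F V = 2 := by
    have h := Module.card_eq_pow_finrank (K := F) (V := V)
    rw [hF, hcardV] at h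
    exact (Nat.pow_right_injective (le_refl 2 |>.trans (by norm_num)) (h.symm.trans (by norm_num : 16 = 4 ^ 2)))
  let b : V ≃ₗ[F] (Fin 2 → F) := (Module.finBasisOfFinrankEq F V hrank).equivFun
  let e : (Fin 2 → F) ≃ Ω := b.symm.toEquiv.trans ((Additive.toMul : V ≃ N).trans eN)
  have he : ∀ v, e v = ((Additive.toMul (b.symm v) : N) : G) • a := fun v => rfl
  have hex : ∀ g : G, ∃ A : (Fin 2 → F) ≃ᵃ[F] (Fin 2 → F), ∀ v, e (A v) = g • e v := by
    intro g
    let t : N := eN.symm (g • a)
    have ht : (t : G) • a = g • a := eN.apply_symm_apply (g • a)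
    let k : G := (t : G)⁻¹ * g
    have hk : k • a = a := by rw [mul_smul, ← ht, inv_smul_smul]
    let Lk : V ≃ₗ[F] V :=
      { conjH k with
        map_smul' := fun x v => hlin x (conjH k) (fun v => Additive.toMul.injective (Subtype.ext (by
          show ((Additive.toMul (conjH k (conjH w v)) : N) : G) =
            ((Additive.toMul (conjH w (conjH k v)) : N) : G)
          rw [hconj, hconj, hconj, hconj,
            show k * (w * (Additive.toMul v : N) * w⁻¹) * k⁻¹ =
              (k * w) * (Additive.toMul v : N) * (k * w)⁻¹ by group, hwc k hk]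
          group))) v
        invFun := conjH k⁻¹
        left_inv := fun v => Additive.toMul.injective (Subtype.ext (by
          show ((Additive.toMul (conjH k⁻¹ (conjH k v)) : N) : G) = _
          rw [hconj, hconj]; group))
        right_inv := fun v => Additive.toMul.injective (Subtype.ext (by
          show ((Additive.toMul (conjH k (conjH k⁻¹ v)) : N) : G) = _
          rw [hconj, hconj]; group)) }
    let A0 : (Fin 2 → F) ≃ₗ[F] (Fin 2 → F) := b.symm.trans (Lk.trans b)
    refine ⟨A0.toAffineEquiv.trans (AffineEquiv.constVAdd F _ (b (Additive.ofMul t))), fun v => ?_⟩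
    rw [he, he]
    have hA : b.symm ((A0.toAffineEquiv.trans (AffineEquiv.constVAdd F _ (b (Additive.ofMul t)))) v) =
        Additive.ofMul t + conjH k (b.symm v) := by
      simp [A0, vadd_eq_add]
      rfl
    rw [hA]
    show ((t : G) * ((Additive.toMul (conjH k (b.symm v)) : N) : G)) • a = _
    have hk' : k⁻¹ • a = a := inv_smul_eq_iff.2 hk.symm
    rw [hconj, mul_smul, mul_smul, mul_smul, hk', ← mul_smul (t : G), mul_inv_cancel_left]
  choose Φ hΦ using hex
  let ψ : G →* ((Fin 2 → F) ≃ᵃ[F] (Fin 2 → F)) :=
    MonoidHom.mk' Φ fun g h => AffineEquiv.ext fun v => e.injective (by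
      show e (Φ (g * h) v) = e (Φ g (Φ h v))
      rw [hΦ, hΦ, hΦ, mul_smul])
  have hinj : Function.Injective ψ := by
    rw [← MonoidHom.ker_eq_bot_iff, eq_bot_iff]
    intro g hg
    refine Subgroup.mem_bot.2 (faithful g fun x => ?_)
    have := hΦ g (e.symm x)
    rw [show Φ g = 1 from MonoidHom.mem_ker.1 hg, Equiv.apply_symm_apply] at this
    exact this.symm.trans (e.apply_symm_apply x)
  obtain ⟨hfin, hle⟩ := card_affineEquiv_le hF
  exact ⟨MulEquiv.ofBijective ψ
    ((Nat.bijective_iff_injective_and_card _).2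
      ⟨hinj, le_antisymm (Nat.card_le_card_of_injective ψ hinj) (hG ▸ hle)⟩)⟩

end CfsgLib.TwoTransAFour.AffineModel
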