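import Cfsg.Agent.Lib.TwoTransAFour.EvenCase
import Cfsg.Agent.Lib.TwoTransAFour.AffineModel

/-!
Sixteen points: the involutions without fixed points are the translations of an affine plane of order
four whose lines are the fixed point sets of the four-groups.
-/

set_option autoImplicit false
set_option linter.unusedSectionVars false
set_option linter.style.haveILetI false

namespace CfsgLib.TwoTransAFour

open MulAction Subgroup

universe u

/-- The input on point stabilisers of order 180. -/
def CentralThree : Prop :=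
  ∀ {K : Type u} [Group K] [Finite K] (H : Subgroup K) (_ : H ≃* alternatingGroup (Fin 4))
    (_ : Nat.card K = 180) {z : K} (_ : z ∈ H) (_ : orderOf z = 2)
    (_ : Nat.card ↥(centralizer ({z} : Set K)) = 12)
    (_ : ∀ x v : K, v ∈ H → v * v = 1 → x * z = z * x → x * v = v * x),
  ∃ w : K, orderOf w = 3 ∧ w ∈ center K

variable {G : Type u} [Group G] [Finite G] {Ω : Type*} [Finite Ω] [MulAction G Ω]

namespace Par

variable (P : Par G Ω)

/-- The line through two points. -/
def line {x y : Ω} (h : x ≠ y) : Set Ω := P.hyp.fixFour h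

theorem line_eq {x y p q : Ω} (h : x ≠ y) (h' : p ≠ q) (hp : p ∈ P.line h) (hq : q ∈ P.line h) :
    P.line h' = P.line h := by
  simp only [line, Hyp.fixFour, P.hyp.four_eq h h' hp hq]

theorem left_mem {x y : Ω} (h : x ≠ y) : x ∈ P.line h := P.hyp.left_mem_fixFour h
theorem right_mem {x y : Ω} (h : x ≠ y) : y ∈ P.line h := P.hyp.right_mem_fixFour h

theorem smul_line {x y : Ω} (h : x ≠ y) {g : G} {p q : Ω} (h' : p ≠ q) (hp : g • x = p) (hq : g • y = q)
    {w : Ω} (hw : w ∈ P.line h) : g • w ∈ P.line h' := by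
  intro v hv
  have hu : g⁻¹ * v * g ∈ P.hyp.four h :=
    (P.hyp.conj_four h h' hp hq).1 (by simpa [mul_assoc] using hv)
  have := hw _ hu
  rw [mul_smul, mul_smul, inv_smul_eq_iff] at this
  exact this

theorem swap_line {x y : Ω} (h : x ≠ y) {t : G} (ht : t ∈ swapSet G x y) {w : Ω} (hw : w ∈ P.line h) :
    t • w ∈ P.line h := by
  rw [← P.line_eq h h.symm (P.right_mem h) (P.left_mem h)]
  exact P.smul_line h h.symm ht.2 (smul_right_of_swap ht) hw

/-- Lines through a point, pairwise different, cover disjoint sets. -/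
theorem lines_le (w : Ω) (T : Finset Ω) (hw : ∀ x ∈ T, w ≠ x)
    (hd : ∀ x, ∀ hx : x ∈ T, ∀ x' ∈ T, x' ∈ P.line (hw x hx) → x' = x) :
    T.card * (P.s - 1) ≤ P.n - 1 := by
  classical
  haveI := Fintype.ofFinite Ω
  let B : Ω → Finset Ω := fun x => if hx : w ≠ x then (P.line hx).toFinset.erase w else ∅
  have hB : ∀ x ∈ T, (B x).card = P.s - 1 := by
    intro x hx
    simp only [B, dif_pos (hw x hx)]
    rw [Finset.card_erase_of_mem (Set.mem_toFinset.2 (P.left_mem _)), ← Set.ncard_eq_toFinset_card',
      line, P.hs]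
  have hdis : (T : Set Ω).PairwiseDisjoint B := by
    intro x hx x' hx' hne
    simp only [Function.onFun, B, dif_pos (hw x hx), dif_pos (hw x' hx'), Finset.disjoint_left,
      Finset.mem_erase, Set.mem_toFinset]
    rintro p ⟨hpw, hp⟩ ⟨-, hp'⟩
    have e1 := P.line_eq (hw x hx) hpw.symm (P.left_mem _) hp
    have e2 := P.line_eq (hw x' hx') hpw.symm (P.left_mem _) hp'
    refine hne (hd x hx x' hx' ?_).symm
    rw [← e1, e2]
    exact P.right_mem _
  calc T.card * (P.s - 1) = (T.biUnion B).card := by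
        rw [Finset.card_biUnion hdis, Finset.sum_const_nat hB]
    _ ≤ (Finset.univ.erase w).card := Finset.card_le_card fun p hp => by
        obtain ⟨x, hx, hp⟩ := Finset.mem_biUnion.1 hp
        simp only [B, dif_pos (hw x hx)] at hp
        exact Finset.mem_erase.2 ⟨(Finset.mem_erase.1 hp).1, Finset.mem_univ _⟩
    _ = P.n - 1 := by
        rw [Finset.card_erase_of_mem (Finset.mem_univ w), Finset.card_univ, P.n_eq,
          Nat.card_eq_fintype_card]

/-- Two lines through `w` missing a given line are equal. -/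
theorem parallel (hs : P.s = 4) (hn : P.n = 16) {x y : Ω} (h : x ≠ y) {w p q : Ω} (hw : w ∉ P.line h)
    (hp : w ≠ p) (hq : w ≠ q) (hpd : ∀ r ∈ P.line hp, r ∉ P.line h) (hqd : ∀ r ∈ P.line hq, r ∉ P.line h) :
    P.line hq = P.line hp := by
  classical
  haveI := Fintype.ofFinite Ω
  by_contra hne
  let T : Finset Ω := insert p (insert q (P.line h).toFinset)
  have hqp : q ∉ P.line hp := fun e => hne (P.line_eq hp hq (P.left_mem _) e)
  have hpq : p ∉ P.line hq := fun e => hne (P.line_eq hq hp (P.left_mem _) e).symm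
  have hT : T.card = 6 := by
    have h1 : p ∉ P.line h := hpd p (P.right_mem _)
    have h2 : q ∉ P.line h := hqd q (P.right_mem _)
    simp only [T]
    rw [Finset.card_insert_of_notMem, Finset.card_insert_of_notMem, ← Set.ncard_eq_toFinset_card', line,
      P.hs, hs]
    · simpa using h2
    · simp only [Finset.mem_insert, Set.mem_toFinset, not_or]
      exact ⟨fun e => hpq (e ▸ P.right_mem hq), h1⟩
  have hwT : ∀ r ∈ T, w ≠ r := by
    intro r hr
    simp only [T, Finset.mem_insert, Set.mem_toFinset] at hr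
    rcases hr with rfl | rfl | hr
    · exact hp
    · exact hq
    · exact fun e => hw (e ▸ hr)
  have := P.lines_le w T hwT fun r hr r' hr' hmem => by
    by_contra hrr
    have e1 : P.line (hwT r' hr') = P.line (hwT r hr) := P.line_eq _ _ (P.left_mem _) hmem
    have hr0 := hr
    have hr0' := hr'
    simp only [T, Finset.mem_insert, Set.mem_toFinset] at hr0 hr0'
    rcases hr0 with e | e | e <;> rcases hr0' with e' | e' | e'
    · exact hrr (e'.trans e.symm)
    · subst e e'; exact hqp hmem
    · subst e; exact hpd r' hmem e'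
    · subst e e'; exact hpq hmem
    · exact hrr (e'.trans e.symm)
    · subst e; exact hqd r' hmem e'
    · subst e'
      refine hpd r ?_ e
      rw [e1]; exact P.right_mem _
    · subst e'
      refine hqd r ?_ e
      rw [e1]; exact P.right_mem _
    · refine hw ?_
      rw [← P.line_eq h (fun e2 => hrr e2.symm) e e', P.line_eq (hwT r hr) _ (P.right_mem _) hmem]
      exact P.left_mem _
  rw [hT, hs, hn] at this
  norm_num at this

/-- An involution with at most one fixed point. -/
def I1 (t : G) : Prop := t * t = 1 ∧ t ≠ 1 ∧ ¬ P.hyp.I0 t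

theorem I1.conj {P : Par G Ω} {t : G} (h : P.I1 t) (g : G) : P.I1 (g * t * g⁻¹) := by
  refine ⟨?_, fun e => h.2.1 (conj_eq_one_iff.1 e), fun e => h.2.2 (P.I0_conj_iff.1 e)⟩
  rw [show g * t * g⁻¹ * (g * t * g⁻¹) = g * (t * t) * g⁻¹ by group, h.1, mul_one, mul_inv_cancel]

theorem I1.no_fix {P : Par G Ω} (hn : Even P.n) {t : G} (h : P.I1 t) (x : Ω) : t • x ≠ x := by
  intro hx
  have h1 := ncard_moved (Set.univ : Set Ω) t
  have h2 : {w ∈ (Set.univ : Set Ω) | t • w = w} = {x} := by
    ext w
    simp only [Set.mem_univ, true_and, Set.mem_ofPred_eq, Set.mem_singleton_iff]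
    refine ⟨fun hw => ?_, fun e => e ▸ hx⟩
    by_contra hne
    exact h.2.2 ⟨h.2.1, h.1, w, x, hne, hw, hx⟩
  rw [h2, Set.ncard_singleton, ← P.n_eq_univ] at h1
  obtain ⟨r, hr⟩ := even_ncard_moved (Set.univ : Set Ω) h.1 fun _ _ => Set.mem_univ _
  obtain ⟨r', hr'⟩ := hn
  omega

variable {P} {j : ℕ}

theorem Kind.I1_unique (K : P.Kind j) (hj : j = 3) {x : Ω} {t t' : G} (ht : P.I1 t) (ht' : P.I1 t')
    (hx : t • x ≠ x) (he : t' • x = t • x) : t' = t := by
  obtain ⟨J, -, -, -, hu⟩ := K.exists_unique_J hj hx.symm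
  exact (hu t' ⟨ht'.1, he⟩ ht'.2.2).trans (hu t ⟨ht.1, rfl⟩ ht.2.2).symm

section Plane

variable (K : P.Kind j) (hj : j = 3) (hs : P.s = 4) (hn : P.n = 16)
include K hj hs hn

theorem Kind.even_n : Even P.n := ⟨8, by rw [hn]⟩

/-- For involutions `t, t'` the conjugate `t t' t` preserves the lines preserved by `t'`. -/
theorem Kind.conj_line {t t' : G} (ht : P.I1 t) (ht' : P.I1 t') {a : Ω} (h : a ≠ t' • a) {w : Ω}
    (hw : w ∈ P.line h) : (t * t' * t) • w ∈ P.line h := by
  have he := K.even_n hj hs hn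
  have hta : t • a ≠ t • t' • a := fun e => h (smul_left_cancel t e)
  have hM : t • w ∈ P.line hta := P.smul_line h hta rfl rfl hw
  have hback : ∀ r ∈ P.line hta, t • r ∈ P.line h := fun r hr =>
    P.smul_line hta h (by rw [← mul_smul, ht.1, one_smul]) (by rw [← mul_smul, ht.1, one_smul]) hr
  have hinv : ∀ r ∈ P.line h, t' • r ∈ P.line h := fun r hr => P.swap_line h ⟨ht'.1, rfl⟩ hr
  suffices hpres : t' • t • w ∈ P.line hta by
    rw [mul_smul, mul_smul]; exact hback _ hpres
  by_cases hmeet : ∃ p, p ∈ P.line hta ∧ p ∈ P.line h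
  · obtain ⟨p, hp, hp'⟩ := hmeet
    have e1 := P.line_eq h (Ne.symm (ht.no_fix he p) : p ≠ t • p) hp' (hback p hp)
    have e2 : t • p ∈ P.line hta := P.smul_line h hta rfl rfl hp'
    have e3 := P.line_eq hta (Ne.symm (ht.no_fix he p) : p ≠ t • p) hp e2
    have e4 : P.line hta = P.line h := e3.symm.trans e1
    rw [e4] at hM ⊢
    exact hinv _ hM
  · simp only [not_exists, not_and] at hmeet
    set m := t • w
    have hmn : m ≠ t' • m := Ne.symm (ht'.no_fix he m)
    have hwl : m ∉ P.line h := hmeet m hM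
    have hmd : ∀ r ∈ P.line hmn, r ∉ P.line h := by
      intro r hr hr'
      have e1 : t' • r ∈ P.line hmn := P.swap_line hmn ⟨ht'.1, rfl⟩ hr
      have e2 := P.line_eq hmn (Ne.symm (ht'.no_fix he r) : r ≠ t' • r) hr e1
      have e3 := P.line_eq h (Ne.symm (ht'.no_fix he r) : r ≠ t' • r) hr' (hinv r hr')
      exact hwl ((e2.symm.trans e3) ▸ P.left_mem hmn)
    obtain ⟨q, hq, hmq⟩ : ∃ q ∈ P.line hta, m ≠ q := by
      by_cases e : m = t • a
      · exact ⟨t • t' • a, P.right_mem _, fun e' => hta (e.symm.trans e')⟩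
      · exact ⟨t • a, P.left_mem _, e⟩
    have e5 := P.line_eq hta hmq hM hq
    have e6 := P.parallel hs hn h hwl hmq hmn (fun r hr => hmeet r (e5 ▸ hr)) hmd
    rw [← e5, ← e6]
    exact P.right_mem hmn

theorem Kind.I1_comm {t t' : G} (ht : P.I1 t) (ht' : P.I1 t') (a : Ω) : t * t' = t' * t := by
  have he := K.even_n hj hs hn
  rcases eq_or_ne t t' with rfl | htt
  · rfl
  have htc : P.I1 (t' * t * t') := by have := ht.conj t'; rwa [inv_of_sq ht'.1] at this
  have ht'c : P.I1 (t * t' * t) := by have := ht'.conj t; rwa [inv_of_sq ht.1] at this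
  suffices h : t * t' * t = t' by
    calc t * t' = t * t' * t * t := by rw [mul_assoc _ t t, ht.1, mul_one]
      _ = t' * t := by rw [h]
  have hb : a ≠ t • a := (ht.no_fix he a).symm
  have hc : a ≠ t' • a := (ht'.no_fix he a).symm
  have hbc : t • a ≠ t' • a := fun e => htt (K.I1_unique hj ht ht' hb.symm e.symm).symm
  by_cases hL : t' • a ∈ P.line hb
  · have hL' := P.line_eq hb hc (P.left_mem _) hL
    have h1 : t • t' • a ∈ P.line hb := P.swap_line hb ⟨ht.1, rfl⟩ hL
    have h2 : t' • t • a ∈ P.line hb := by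
      rw [← hL']; exact P.swap_line hc ⟨ht'.1, rfl⟩ (hL'.symm ▸ P.right_mem hb)
    have e : t • t' • a = t' • t • a := by
      classical
      haveI := Fintype.ofFinite Ω
      by_contra hne
      have hsub : ({a, t • a, t' • a, t • t' • a, t' • t • a} : Finset Ω) ⊆ (P.line hb).toFinset := by
        intro r hr
        simp only [Finset.mem_insert, Finset.mem_singleton] at hr
        rw [Set.mem_toFinset]
        rcases hr with rfl | rfl | rfl | rfl | rfl
        exacts [P.left_mem _, P.right_mem _, hL, h1, h2]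
      have h5 := Finset.card_le_card hsub
      rw [← Set.ncard_eq_toFinset_card', line, P.hs, hs] at h5
      have q1 : a ≠ t • t' • a := fun e => hbc (by
        have := congrArg (t • ·) e
        simpa only [← mul_smul, ← mul_assoc, ht.1, one_mul, one_smul] using this)
      have q2 : a ≠ t' • t • a := fun e => hbc (by
        have := congrArg (t' • ·) e
        simpa only [← mul_smul, ← mul_assoc, ht'.1, one_mul, one_smul] using this.symm)
      have q3 : t • a ≠ t • t' • a := fun e => hc (smul_left_cancel t e)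
      have q4 : t • a ≠ t' • t • a := fun e => ht'.no_fix he _ e.symm
      have q5 : t' • a ≠ t • t' • a := fun e => ht.no_fix he _ e.symm
      have q6 : t' • a ≠ t' • t • a := fun e => hb (smul_left_cancel t' e)
      simp [hb, hc, hbc, q1, q2, q3, q4, q5, q6, hne] at h5
    have h3 : (t' * t * t') • (t' • a) = t • t' • a := by
      rw [mul_smul, mul_smul, ← mul_smul t' t', ht'.1, one_smul, e]
    have h4 := K.I1_unique hj ht htc (x := t' • a) (ht.no_fix he _) h3
    calc t * t' * t = t' * t * t' * t' * t := by rw [h4]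
      _ = t' * (t * (t' * t')) * t := by group
      _ = t' := by rw [ht'.1, mul_one, mul_assoc, ht.1, mul_one]
  · have h1 : (t * t' * t) • (t' • a) ∈ P.line hc := K.conj_line hj hs hn ht ht' hc (P.right_mem hc)
    have h2 : (t' * t * t') • a ∈ P.line hb := K.conj_line hj hs hn ht' ht hb (P.left_mem hb)
    have h3 : (t * t' * t) • (t' • a) ∈ P.line hb := by
      rw [← mul_smul, show t * t' * t * t' = t * (t' * t * t') by group, mul_smul]
      exact P.swap_line hb ⟨ht.1, rfl⟩ h2
    have h4 : (t * t' * t) • (t' • a) = a := by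
      by_contra hne
      have e1 := P.line_eq hc (Ne.symm hne) (P.left_mem _) h1
      have e2 := P.line_eq hb (Ne.symm hne) (P.left_mem _) h3
      exact hL (e2.symm.trans e1 ▸ P.right_mem hc)
    refine K.I1_unique hj ht' ht'c (x := t' • a) (fun e => hc ?_) ?_
    · rwa [← mul_smul, ht'.1, one_smul] at e
    · rw [h4, ← mul_smul, ht'.1, one_smul]

theorem Kind.I1_bij (a : Ω) : ∀ x : Ω, x ≠ a → ∃! t : G, P.I1 t ∧ t • a = x := by
  intro x hx
  obtain ⟨J, hJ, hJ0, -, hu⟩ := K.exists_unique_J hj hx.symm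
  exact ⟨J, ⟨⟨hJ.1, ne_one_of_swap hx.symm hJ, hJ0⟩, hJ.2⟩, fun t ⟨ht, hta⟩ => hu t ⟨ht.1, hta⟩ ht.2.2⟩

/-- Sixteen points: the affine group. -/
theorem Kind.iso_affine (hf : P.f = 4) (hC : CentralThree.{u}) {a b : Ω} (hab : a ≠ b) :
    ∃ (F : Type) (_ : Field F) (_ : Fintype F), Fintype.card F = 4 ∧
      Nonempty (G ≃* ((Fin 2 → F) ≃ᵃ[F] (Fin 2 → F))) := by
  have he := K.even_n hj hs hn
  let N : Subgroup G :=
    { carrier := {g | g = 1 ∨ P.I1 g}
      one_mem' := Or.inl rfl
      mul_mem' := fun {g k} hg hk => by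
        rcases hg with rfl | hg
        · rwa [one_mul]
        rcases hk with rfl | hk
        · rw [mul_one]; exact Or.inr hg
        rcases eq_or_ne g k with rfl | hne
        · exact Or.inl hg.1
        refine Or.inr ⟨?_, fun e => hne ?_, ?_⟩
        · rw [show g * k * (g * k) = g * (k * g) * k by group, ← K.I1_comm hj hs hn hg hk a,
            ← mul_assoc, hg.1, one_mul, hk.1]
        · rw [← inv_of_sq hk.1]; exact (inv_eq_of_mul_eq_one_left e).symm
        · rintro ⟨-, -, x, -, -, hx, -⟩
          rw [mul_smul] at hx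
          have : k • x = g • x := by
            conv_rhs => rw [← hx]
            rw [← mul_smul g g, hg.1, one_smul]
          exact hne (K.I1_unique hj hg hk (hg.no_fix he x) this).symm
      inv_mem' := fun {g} hg => by
        rcases hg with rfl | hg
        · exact Or.inl inv_one
        · rw [inv_of_sq hg.1]; exact Or.inr hg }
  haveI : N.Normal := ⟨fun g hg k => by
    rcases hg with rfl | hg
    · exact Or.inl (by group)
    · exact Or.inr (hg.conj k)⟩
  have hreg : Function.Bijective fun t : N => (t : G) • a := by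
    constructor
    · rintro ⟨g, hg⟩ ⟨k, hk⟩ e
      refine Subtype.ext ?_
      change g • a = k • a at e
      rcases hg with rfl | hg
      · rcases hk with rfl | hk
        · rfl
        · rw [one_smul] at e; exact absurd e.symm (hk.no_fix he a)
      · rcases hk with rfl | hk
        · rw [one_smul] at e; exact absurd e (hg.no_fix he a)
        · exact (K.I1_unique hj hg hk (hg.no_fix he a) e.symm).symm
    · intro x
      rcases eq_or_ne x a with rfl | hx
      · exact ⟨1, one_smul G _⟩
      · obtain ⟨t, ⟨ht, e⟩, -⟩ := K.I1_bij hj hs hn a x hx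
        exact ⟨⟨t, Or.inr ht⟩, e⟩
  obtain ⟨z, hz, hz1⟩ := P.hyp.exists_invol hab
  obtain ⟨e⟩ := P.hyp.iso a b hab
  set S := stabilizer G a with hS
  have hle : pst G a b ≤ S := inf_le_left
  have hS180 : Nat.card S = 180 := by rw [hS, P.card_stab hab, hn]
  have hc12 : Nat.card ↥(centralizer ({⟨z, hle hz.1⟩} : Set S)) = 12 := by
    rw [card_centralizer_sub, P.card_centStab hab hz hz1, hf]
  obtain ⟨⟨w, hwS⟩, hw3, hwc⟩ := hC (K := S) ((pst G a b).subgroupOf S)
    ((subgroupOfEquivOfLe hle).trans e) hS180 (z := ⟨z, hle hz.1⟩) (mem_subgroupOf.2 hz.1)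
    (orderOf_sub _ hz1 hz.2) hc12 (by
      rintro ⟨x, hx⟩ ⟨v, hvS⟩ hv hv2 hxz
      rw [mem_subgroupOf] at hv
      have hvf : v ∈ P.hyp.four hab := ⟨hv, congrArg Subtype.val hv2⟩
      have hxz' : x * z = z * x := congrArg Subtype.val hxz
      have hse : Even P.s := ⟨2, by rw [hs]⟩
      have hmem : x ∈ P.cn hab z ⊓ stabilizer G a := by
        have h1 := P.card_cnStab hab hz hz1
        have h2 := P.card_centStab hab hz hz1
        have hsub : P.cn hab z ⊓ stabilizer G a ≤ stabilizer G a ⊓ centralizer ({z} : Set G) :=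
          fun g hg => ⟨hg.2, hg.1.1⟩
        rw [Subgroup.eq_of_le_of_card_ge hsub (by rw [h1, h2, hs, hf])]
        exact ⟨hx, mem_centralizer_singleton_iff.2 hxz'⟩
      exact Subtype.ext (P.cnStab_cent hab hse hz hz1 hmem hvf))
  rw [← Subgroup.orderOf_coe] at hw3
  change orderOf w = 3 at hw3
  have hwc' : ∀ k : G, k • a = a → k * w = w * k := fun k hk =>
    congrArg Subtype.val (Subgroup.mem_center_iff.1 hwc ⟨k, hk⟩)
  refine AffineModel.exists_iso P.faithful (by rw [← P.n_eq, hn]) (by rw [P.card_G hab, hn]) N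
    (fun t ht => ?_) a hreg (w := w) hwS ?_ hwc' fun x hx => ?_
  · rcases ht with rfl | ht
    · exact one_mul 1
    · exact ht.1
  · have := pow_orderOf_eq_one w
    rw [hw3] at this
    simpa [pow_succ] using this
  · by_contra hxa
    have hw1 : w = 1 := P.faithful w fun y => by
      rcases eq_or_ne y a with rfl | hy
      · exact hwS
      · obtain ⟨k, hka, rfl⟩ := P.hyp.exists_map (Ne.symm hxa) (Ne.symm hy)
        rw [← mul_smul, ← hwc' k hka, mul_smul, hx]
    rw [hw1, orderOf_one] at hw3
    omega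

end Plane

end Par

end CfsgLib.TwoTransAFour
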