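import Mathlib

/-!
Doubly transitive groups whose two-point stabilisers are isomorphic to `A₄`: the four-group of a
pair, Witt transitivity on the fixed points of involutions and four-groups, basic counting.
-/

set_option autoImplicit false
set_option linter.unusedSectionVars false
set_option linter.style.haveILetI false

namespace CfsgLib.TwoTransAFour

open MulAction Subgroup

variable {G : Type*} [Group G] {Ω : Type*} [MulAction G Ω]

/-- The two-point stabiliser. -/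
abbrev pst (G : Type*) [Group G] {Ω : Type*} [MulAction G Ω] (x y : Ω) : Subgroup G :=
  stabilizer G x ⊓ stabilizer G y

/-- The standing hypothesis. -/
structure Hyp (G : Type*) [Group G] (Ω : Type*) [MulAction G Ω] : Prop where
  two : IsMultiplyPretransitive G Ω 2
  iso : ∀ x y : Ω, x ≠ y → Nonempty (↥(pst G x y) ≃* ↥(alternatingGroup (Fin 4)))

/-- The fixed points of an element. -/
abbrev fix (g : G) : Set Ω := fixedBy Ω g

theorem mem_fix {g : G} {x : Ω} : x ∈ fix g ↔ g • x = x := Iff.rfl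

theorem mem_pst {g : G} {x y : Ω} : g ∈ pst G x y ↔ g • x = x ∧ g • y = y := Iff.rfl

theorem smul_mem_fix_conj {g h : G} {x : Ω} : g • x ∈ fix (g * h * g⁻¹) ↔ x ∈ fix h := by
  simp [mul_smul]

theorem fix_of_commute {g h : G} (hc : g * h = h * g) {x : Ω} (hx : x ∈ fix h) :
    g • x ∈ fix h := by
  rw [mem_fix, ← mul_smul, ← hc, mul_smul, show h • x = x from hx]

/-- The hypothesis from a single pair. -/
theorem hyp_of_pair (h2 : IsMultiplyPretransitive G Ω 2) {a b : Ω} (hab : a ≠ b)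
    (e : ↥(pst G a b) ≃* ↥(alternatingGroup (Fin 4))) : Hyp G Ω := by
  refine ⟨h2, fun x y hxy => ?_⟩
  obtain ⟨g, hga, hgb⟩ := is_two_pretransitive_iff.mp h2 hab hxy
  have heq : (pst G a b).map (MulAut.conj g).toMonoidHom = pst G x y := by
    rw [Subgroup.map_inf_eq _ _ _ (MulAut.conj g).injective, ← stabilizer_smul_eq_stabilizer_map_conj,
      ← stabilizer_smul_eq_stabilizer_map_conj, hga, hgb]
  exact ⟨((MulEquiv.subgroupCongr heq).symm.trans
    ((pst G a b).equivMapOfInjective _ (MulAut.conj g).injective).symm).trans e⟩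

theorem afour_comm : ∀ g h : alternatingGroup (Fin 4), g * g = 1 → h * h = 1 → g * h = h * g ∧
    g * h * (g * h) = 1 := by decide

set_option synthInstance.maxSize 2000 in
theorem afour_cent : ∀ g h : alternatingGroup (Fin 4), g * g = 1 → g ≠ 1 → g * h = h * g →
    h * h = 1 := by decide

theorem afour_fuse : ∀ g h : alternatingGroup (Fin 4), g * g = 1 → h * h = 1 → g ≠ 1 → h ≠ 1 →
    ∃ c, c * g * c⁻¹ = h := by decide

theorem afour_cube : ∀ g : alternatingGroup (Fin 4), g * g ≠ 1 → g * g * g = 1 := by decide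

theorem afour_card : (Finset.univ.filter fun g : alternatingGroup (Fin 4) => g * g = 1).card = 4 := by
  decide

theorem afour_mem : ∀ g h : alternatingGroup (Fin 4), g * g ≠ 1 → h * h = 1 → h ≠ 1 →
    g * h * g⁻¹ ≠ h := by decide

theorem afour_inj {K : Type*} [Group K] {P : Subgroup K} (e : P ≃* alternatingGroup (Fin 4))
    {g : K} (hg : g ∈ P) : g * g = 1 ↔ e ⟨g, hg⟩ * e ⟨g, hg⟩ = 1 := by
  rw [← map_mul, EmbeddingLike.map_eq_one_iff, ← Subtype.coe_inj]
  rfl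

namespace Hyp

variable (hyp : Hyp G Ω)
include hyp

theorem exists_map {x y x' y' : Ω} (h : x ≠ y) (h' : x' ≠ y') :
    ∃ g : G, g • x = x' ∧ g • y = y' :=
  is_two_pretransitive_iff.mp hyp.two h h'

theorem card_pst {x y : Ω} (h : x ≠ y) : Nat.card (pst G x y) = 12 := by
  obtain ⟨e⟩ := hyp.iso x y h
  rw [Nat.card_congr e.toEquiv, Nat.card_eq_fintype_card]
  rfl

theorem pretransitive [Nontrivial Ω] : IsPretransitive G Ω := by
  refine ⟨fun x y => ?_⟩
  rcases eq_or_ne x y with rfl | h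
  · exact ⟨1, one_smul G x⟩
  · obtain ⟨g, hg, -⟩ := hyp.exists_map h h.symm
    exact ⟨g, hg⟩

theorem sq_mul {x y : Ω} (h : x ≠ y) {u v : G} (hu : u ∈ pst G x y) (hv : v ∈ pst G x y)
    (hu2 : u * u = 1) (hv2 : v * v = 1) : u * v = v * u ∧ u * v * (u * v) = 1 := by
  obtain ⟨e⟩ := hyp.iso x y h
  obtain ⟨h1, h2⟩ := afour_comm (e ⟨u, hu⟩) (e ⟨v, hv⟩) ((afour_inj e hu).1 hu2)
    ((afour_inj e hv).1 hv2)
  refine ⟨?_, (afour_inj e (mul_mem hu hv)).2 ?_⟩
  · rw [← map_mul, ← map_mul, e.injective.eq_iff] at h1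
    exact congrArg Subtype.val h1
  · rw [show (⟨u * v, mul_mem hu hv⟩ : pst G x y) = ⟨u, hu⟩ * ⟨v, hv⟩ from rfl, map_mul]
    exact h2

/-- The four-group of a pair. -/
def four {x y : Ω} (h : x ≠ y) : Subgroup G where
  carrier := {g | g ∈ pst G x y ∧ g * g = 1}
  one_mem' := ⟨one_mem _, one_mul 1⟩
  mul_mem' := fun {u v} hu hv => ⟨mul_mem hu.1 hv.1, (hyp.sq_mul h hu.1 hv.1 hu.2 hv.2).2⟩
  inv_mem' := fun {u} hu => ⟨inv_mem hu.1, by rw [← mul_inv_rev, hu.2, inv_one]⟩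

theorem mem_four {x y : Ω} (h : x ≠ y) {g : G} :
    g ∈ hyp.four h ↔ g ∈ pst G x y ∧ g * g = 1 := Iff.rfl

theorem four_comm {x y : Ω} (h : x ≠ y) {u v : G} (hu : u ∈ hyp.four h) (hv : v ∈ hyp.four h) :
    u * v = v * u :=
  (hyp.sq_mul h hu.1 hv.1 hu.2 hv.2).1

theorem card_four {x y : Ω} (h : x ≠ y) : Nat.card (hyp.four h) = 4 := by
  obtain ⟨e⟩ := hyp.iso x y h
  have e' : hyp.four h ≃ {g : alternatingGroup (Fin 4) // g * g = 1} :=
    { toFun := fun g => ⟨e ⟨g, g.2.1⟩, (afour_inj e g.2.1).1 g.2.2⟩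
      invFun := fun g => ⟨e.symm g, (e.symm g).2, by
        refine (afour_inj e (e.symm g.1).2).2 ?_
        simpa using g.2⟩
      left_inv := fun g => by simp
      right_inv := fun g => by simp }
  rw [Nat.card_congr e', Nat.card_eq_fintype_card, Fintype.card_subtype]
  exact afour_card

theorem cent_pst {x y : Ω} (h : x ≠ y) {z g : G} (hz : z ∈ hyp.four h) (hz1 : z ≠ 1)
    (hg : g ∈ pst G x y) (hc : z * g = g * z) : g ∈ hyp.four h := by
  obtain ⟨e⟩ := hyp.iso x y h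
  refine ⟨hg, (afour_inj e hg).2 (afour_cent (e ⟨z, hz.1⟩) (e ⟨g, hg⟩) ((afour_inj e hz.1).1 hz.2)
    (fun he => hz1 ?_) ?_)⟩
  · exact congrArg Subtype.val (EmbeddingLike.map_eq_one_iff.1 he)
  · rw [← map_mul, ← map_mul]
    exact congrArg e (Subtype.ext hc)

theorem fuse_pst {x y : Ω} (h : x ≠ y) {u v : G} (hu : u ∈ hyp.four h) (hv : v ∈ hyp.four h)
    (hu1 : u ≠ 1) (hv1 : v ≠ 1) : ∃ c ∈ pst G x y, c * u * c⁻¹ = v := by
  obtain ⟨e⟩ := hyp.iso x y h
  obtain ⟨c, hc⟩ := afour_fuse (e ⟨u, hu.1⟩) (e ⟨v, hv.1⟩) ((afour_inj e hu.1).1 hu.2)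
    ((afour_inj e hv.1).1 hv.2)
    (fun he => hu1 (congrArg Subtype.val (EmbeddingLike.map_eq_one_iff.1 he)))
    (fun he => hv1 (congrArg Subtype.val (EmbeddingLike.map_eq_one_iff.1 he)))
  refine ⟨e.symm c, (e.symm c).2, ?_⟩
  have := congrArg (fun w => ((e.symm w : pst G x y) : G)) hc
  simpa using this

theorem exists_three {x y : Ω} (h : x ≠ y) :
    ∃ p ∈ pst G x y, p * p ≠ 1 ∧ p * p * p = 1 ∧
      ∀ v ∈ hyp.four h, v ≠ 1 → p * v * p⁻¹ ≠ v := by
  obtain ⟨e⟩ := hyp.iso x y h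
  obtain ⟨c, hc⟩ : ∃ c : alternatingGroup (Fin 4), c * c ≠ 1 := by decide
  refine ⟨e.symm c, (e.symm c).2, fun hs => hc ?_, ?_, fun v hv hv1 he => ?_⟩
  · have := (afour_inj e (e.symm c).2).1 hs
    simpa using this
  · have := congrArg (fun w => ((e.symm w : pst G x y) : G)) (afour_cube c hc)
    simpa using this
  · refine afour_mem c (e ⟨v, hv.1⟩) hc ((afour_inj e hv.1).1 hv.2)
      (fun he => hv1 (congrArg Subtype.val (EmbeddingLike.map_eq_one_iff.1 he))) ?_
    apply e.symm.injective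
    refine Subtype.ext ?_
    simpa using he

theorem exists_invol {x y : Ω} (h : x ≠ y) : ∃ z ∈ hyp.four h, z ≠ 1 :=
  (hyp.four h).bot_or_exists_ne_one.resolve_left fun hb => by
    have := hyp.card_four h
    rw [hb, Subgroup.card_bot] at this
    norm_num at this

theorem conj_four {x y x' y' : Ω} (h : x ≠ y) (h' : x' ≠ y') {g : G} (hx : g • x = x')
    (hy : g • y = y') {v : G} : g * v * g⁻¹ ∈ hyp.four h' ↔ v ∈ hyp.four h := by
  subst hx hy
  simp only [mem_four, mem_pst]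
  rw [← mem_fix, smul_mem_fix_conj, ← mem_fix, smul_mem_fix_conj]
  refine and_congr Iff.rfl ?_
  rw [show g * v * g⁻¹ * (g * v * g⁻¹) = g * (v * v) * g⁻¹ by group, conj_eq_one_iff]

/-- An involution fixing two points. -/
def I0 (_ : Hyp G Ω) (z : G) : Prop :=
  z ≠ 1 ∧ z * z = 1 ∧ ∃ x y : Ω, x ≠ y ∧ z • x = x ∧ z • y = y

theorem I0_of_mem {x y : Ω} (h : x ≠ y) {z : G} (hz : z ∈ hyp.four h) (hz1 : z ≠ 1) : hyp.I0 z :=
  ⟨hz1, hz.2, x, y, h, hz.1.1, hz.1.2⟩

theorem mem_four_of_fix {x y : Ω} (h : x ≠ y) {z : G} (hz : z * z = 1) (hx : z • x = x)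
    (hy : z • y = y) : z ∈ hyp.four h :=
  ⟨⟨hx, hy⟩, hz⟩

theorem I0_conj {z : G} (hz : hyp.I0 z) (g : G) : hyp.I0 (g * z * g⁻¹) := by
  obtain ⟨h1, h2, x, y, hxy, hx, hy⟩ := hz
  refine ⟨fun h => h1 (conj_eq_one_iff.1 h), ?_, g • x, g • y, fun h => hxy (smul_left_cancel g h),
    smul_mem_fix_conj.2 hx, smul_mem_fix_conj.2 hy⟩
  rw [show g * z * g⁻¹ * (g * z * g⁻¹) = g * (z * z) * g⁻¹ by group, h2, mul_one, mul_inv_cancel]

/-- All involutions with two fixed points are conjugate, with control of the pairs. -/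
theorem exists_conj {z z' : G} (hz : hyp.I0 z) (hz' : hyp.I0 z') {x y x' y' : Ω} (h : x ≠ y)
    (h' : x' ≠ y') (hx : z • x = x) (hy : z • y = y) (hx' : z' • x' = x') (hy' : z' • y' = y') :
    ∃ g : G, g * z * g⁻¹ = z' ∧ g • x = x' ∧ g • y = y' := by
  obtain ⟨g, hgx, hgy⟩ := hyp.exists_map h h'
  have h1 : g * z * g⁻¹ ∈ hyp.four h' :=
    (hyp.conj_four h h' hgx hgy).2 (hyp.mem_four_of_fix h hz.2.1 hx hy)
  obtain ⟨c, hc, he⟩ := hyp.fuse_pst h' h1 (hyp.mem_four_of_fix h' hz'.2.1 hx' hy')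
    (hyp.I0_conj hz g).1 hz'.1
  refine ⟨c * g, ?_, by rw [mul_smul, hgx, hc.1], by rw [mul_smul, hgy, hc.2]⟩
  rw [← he]; group

theorem isConj_I0 {z z' : G} (hz : hyp.I0 z) (hz' : hyp.I0 z') :
    ∃ g : G, g * z * g⁻¹ = z' := by
  obtain ⟨x, y, h, hx, hy⟩ := hz.2.2
  obtain ⟨x', y', h', hx', hy'⟩ := hz'.2.2
  obtain ⟨g, hg, -⟩ := hyp.exists_conj hz hz' h h' hx hy hx' hy'
  exact ⟨g, hg⟩

/-- Witt: the centraliser is 2-transitive on the fixed points. -/
theorem exists_cent {z : G} (hz : hyp.I0 z) {x y x' y' : Ω} (h : x ≠ y) (h' : x' ≠ y')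
    (hx : z • x = x) (hy : z • y = y) (hx' : z • x' = x') (hy' : z • y' = y') :
    ∃ g : G, g * z = z * g ∧ g • x = x' ∧ g • y = y' := by
  obtain ⟨g, hg, h1, h2⟩ := hyp.exists_conj hz hz h h' hx hy hx' hy'
  exact ⟨g, mul_inv_eq_iff_eq_mul.1 hg, h1, h2⟩

/-- The fixed points of a four-group. -/
def fixFour {x y : Ω} (h : x ≠ y) : Set Ω := {w | ∀ v ∈ hyp.four h, v • w = w}

theorem left_mem_fixFour {x y : Ω} (h : x ≠ y) : x ∈ hyp.fixFour h := fun _ hv => hv.1.1

theorem right_mem_fixFour {x y : Ω} (h : x ≠ y) : y ∈ hyp.fixFour h := fun _ hv => hv.1.2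

theorem four_eq [Finite G] {x y x' y' : Ω} (h : x ≠ y) (h' : x' ≠ y') (hx : x' ∈ hyp.fixFour h)
    (hy : y' ∈ hyp.fixFour h) : hyp.four h' = hyp.four h :=
  (Subgroup.eq_of_le_of_card_ge (fun v (hv : v ∈ hyp.four h) =>
      (hyp.mem_four_of_fix h' hv.2 (hx v hv) (hy v hv) : v ∈ hyp.four h'))
    (by rw [hyp.card_four, hyp.card_four])).symm

/-- A four-group is determined by two of its elements. -/
theorem four_elems [Finite G] {x y : Ω} (h : x ≠ y) {u v g : G} (hu : u ∈ hyp.four h)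
    (hv : v ∈ hyp.four h) (hu1 : u ≠ 1) (hv1 : v ≠ 1) (huv : u ≠ v) (hg : g ∈ hyp.four h) :
    g = 1 ∨ g = u ∨ g = v ∨ g = u * v := by
  classical
  haveI := Fintype.ofFinite (hyp.four h)
  let S : Finset (hyp.four h) := {1, ⟨u, hu⟩, ⟨v, hv⟩, ⟨u * v, mul_mem hu hv⟩}
  have hS : S = Finset.univ := by
    refine Finset.eq_univ_of_card S ?_
    rw [← Nat.card_eq_fintype_card, hyp.card_four]
    simp only [S]
    rw [Finset.card_insert_of_notMem, Finset.card_insert_of_notMem, Finset.card_insert_of_notMem,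
      Finset.card_singleton]
    · simp only [Finset.mem_singleton, Subtype.mk.injEq]
      intro e
      exact hu1 (by simpa using e)
    · simp only [Finset.mem_insert, Finset.mem_singleton, Subtype.mk.injEq, not_or]
      exact ⟨huv, fun e => hv1 (by simpa using e)⟩
    · simp only [Finset.mem_insert, Finset.mem_singleton, not_or, ← Subtype.coe_inj,
        Subgroup.coe_one]
      refine ⟨hu1.symm, hv1.symm, fun e => huv ?_⟩
      calc u = u * (u * v) := by rw [← e, mul_one]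
        _ = v := by rw [← mul_assoc, hu.2, one_mul]
  have := Finset.mem_univ (⟨g, hg⟩ : hyp.four h)
  rw [← hS] at this
  simpa [S, Subtype.ext_iff] using this

theorem conj_mem_four [Finite G] {x y : Ω} (h : x ≠ y) {g : G}
    {x' y' : Ω} (h' : x' ≠ y') (hx : g • x = x') (hy : g • y = y')
    (hx' : x' ∈ hyp.fixFour h) (hy' : y' ∈ hyp.fixFour h) {v : G} (hv : v ∈ hyp.four h) :
    g * v * g⁻¹ ∈ hyp.four h := by
  rw [← hyp.four_eq h h' hx' hy']
  exact (hyp.conj_four h h' hx hy).2 hv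

theorem smul_fixFour [Finite G] {x y : Ω} (h : x ≠ y) {g : G}
    (hg : ∀ v ∈ hyp.four h, g * v * g⁻¹ ∈ hyp.four h) {w : Ω} (hw : w ∈ hyp.fixFour h) :
    g • w ∈ hyp.fixFour h := by
  intro v hv
  let f : hyp.four h → hyp.four h := fun u => ⟨g * u * g⁻¹, hg u u.2⟩
  have hf : Function.Surjective f := Finite.surjective_of_injective fun a b e =>
    Subtype.ext (mul_left_cancel (mul_right_cancel (congrArg Subtype.val e)))
  obtain ⟨u, hu⟩ := hf ⟨v, hv⟩
  rw [show v = g * u * g⁻¹ from (congrArg Subtype.val hu).symm]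
  exact smul_mem_fix_conj.2 (hw u u.2)

end Hyp

end CfsgLib.TwoTransAFour
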