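import Cfsg.Agent.Lib.TwoTransAFour.Swap

/-!
Counting: the order of the group, of centralisers of involutions, the number of moved points.
-/

set_option autoImplicit false
set_option linter.unusedSectionVars false
set_option linter.style.haveILetI false

namespace CfsgLib.TwoTransAFour

open MulAction Subgroup

variable {G : Type*} [Group G] [Finite G] {Ω : Type*} [Finite Ω] [MulAction G Ω]

/-- The ordered pairs of distinct points of a set. -/
def pairs (Δ : Set Ω) : Set (Ω × Ω) := {p | p.1 ∈ Δ ∧ p.2 ∈ Δ ∧ p.1 ≠ p.2}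

theorem ncard_pairs (Δ : Set Ω) : (pairs Δ).ncard = Δ.ncard * (Δ.ncard - 1) := by
  classical
  haveI := Fintype.ofFinite Ω
  rw [Set.ncard_eq_toFinset_card' (pairs Δ), Set.ncard_eq_toFinset_card' Δ]
  have : (pairs Δ).toFinset = Δ.toFinset.offDiag := by
    ext p; rw [Set.mem_toFinset, Finset.mem_offDiag, Set.mem_toFinset, Set.mem_toFinset]; rfl
  rw [this, Finset.offDiag_card, Nat.mul_sub, mul_one]

theorem ncard_pairs_pos {Δ : Set Ω} (h : 2 ≤ Δ.ncard) : 0 < (pairs Δ).ncard := by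
  rw [ncard_pairs]; exact Nat.mul_pos (by omega) (by omega)

/-- Double counting. -/
theorem double_count {α β : Type*} [Finite α] [Finite β] (T : Set α) (P : Set β) (R : α → β → Prop)
    {m j : ℕ} (hm : ∀ t ∈ T, {p ∈ P | R t p}.ncard = m) (hj : ∀ p ∈ P, {t ∈ T | R t p}.ncard = j) :
    T.ncard * m = P.ncard * j := by
  classical
  haveI := Fintype.ofFinite α
  haveI := Fintype.ofFinite β
  rw [Set.ncard_eq_toFinset_card' T, Set.ncard_eq_toFinset_card' P]
  refine Finset.card_mul_eq_card_mul R (fun t ht => ?_) (fun p hp => ?_)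
  · rw [← hm t (by simpa using ht), Set.ncard_eq_toFinset_card']
    congr 1; ext p; simp [Finset.bipartiteAbove]
  · rw [← hj p (by simpa using hp), Set.ncard_eq_toFinset_card']
    congr 1; ext t; simp [Finset.bipartiteBelow]

/-- A subgroup transitive on the ordered pairs of an invariant set. -/
theorem card_of_pairs (K : Subgroup G) (Δ : Set Ω) {a b : Ω} (hab : a ≠ b) (ha : a ∈ Δ) (hb : b ∈ Δ)
    (hinv : ∀ g ∈ K, ∀ x ∈ Δ, g • x ∈ Δ)
    (htr : ∀ x ∈ Δ, ∀ y ∈ Δ, x ≠ y → ∃ g ∈ K, g • a = x ∧ g • b = y) :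
    Nat.card K = Nat.card ↥(K ⊓ pst G a b) * (Δ.ncard * (Δ.ncard - 1)) := by
  rw [← ncard_pairs]
  have horb : MulAction.orbit K (a, b) = pairs Δ := by
    ext p
    constructor
    · rintro ⟨g, rfl⟩
      exact ⟨hinv g g.2 a ha, hinv g g.2 b hb, fun e => hab (smul_left_cancel (g : G) e)⟩
    · rintro ⟨h1, h2, h3⟩
      obtain ⟨g, hg, e1, e2⟩ := htr _ h1 _ h2 h3
      exact ⟨⟨g, hg⟩, Prod.ext e1 e2⟩
  have hst : stabilizer K (a, b) = (K ⊓ pst G a b).subgroupOf K := by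
    ext g
    simp only [mem_stabilizer_iff, mem_subgroupOf, mem_inf, SetLike.coe_mem, true_and, Prod.ext_iff,
      Prod.smul_fst, Prod.smul_snd, Subgroup.smul_def]
  rw [← (stabilizer K (a, b)).card_mul_index, MulAction.index_stabilizer, horb, hst,
    Nat.card_congr (subgroupOfEquivOfLe inf_le_left).toEquiv]

/-- The moved points of an involution come in pairs. -/
theorem even_ncard_moved (Δ : Set Ω) {t : G} (ht : t * t = 1) (hΔ : ∀ x ∈ Δ, t • x ∈ Δ) :
    Even {x ∈ Δ | t • x ≠ x}.ncard := by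
  classical
  haveI := Fintype.ofFinite Ω
  rw [Set.ncard_eq_toFinset_card']
  have key : ∀ k, ∀ S : Finset Ω, S.card = k → (∀ x ∈ S, t • x ∈ S ∧ t • x ≠ x) → Even S.card := by
    intro k
    induction k using Nat.strong_induction_on with
    | _ k ih =>
    intro S hS hinv
    rcases S.eq_empty_or_nonempty with rfl | ⟨x, hx⟩
    · simp
    obtain ⟨h1, h2⟩ := hinv x hx
    have hcard : ((S.erase x).erase (t • x)).card + 2 = S.card := by
      rw [Finset.card_erase_of_mem (Finset.mem_erase.2 ⟨h2, h1⟩), Finset.card_erase_of_mem hx]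
      have : 2 ≤ S.card := Finset.one_lt_card.2 ⟨x, hx, t • x, h1, h2.symm⟩
      omega
    obtain ⟨r, hr⟩ := ih _ (by omega) ((S.erase x).erase (t • x)) rfl (by
      intro y hy
      simp only [Finset.mem_erase] at hy ⊢
      obtain ⟨hy1, hy2, hy3⟩ := hy
      obtain ⟨h3, h4⟩ := hinv y hy3
      refine ⟨⟨fun e => hy2 (smul_left_cancel t e), fun e => hy1 ?_, h3⟩, h4⟩
      rw [← e, ← mul_smul, ht, one_smul])
    exact ⟨r + 1, by omega⟩
  refine key _ _ rfl fun x hx => ?_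
  simp only [Set.mem_toFinset, Set.mem_ofPred_eq] at hx ⊢
  refine ⟨⟨hΔ x hx.1, fun e => hx.2 (smul_left_cancel t e)⟩, hx.2⟩

theorem ncard_moved (Δ : Set Ω) (t : G) :
    {x ∈ Δ | t • x ≠ x}.ncard + {x ∈ Δ | t • x = x}.ncard = Δ.ncard := by
  rw [← Set.ncard_union_eq (by
    rw [Set.disjoint_left]; rintro x ⟨-, h1⟩ ⟨-, h2⟩; exact h1 h2)]
  congr 1
  ext x
  by_cases h : t • x = x <;> simp [h]

/-- The pairs moved by `t` inside `Δ`. -/
theorem ncard_swapped (Δ : Set Ω) {t : G} (hΔ : ∀ x ∈ Δ, t • x ∈ Δ) :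
    {p ∈ pairs Δ | t • p.1 = p.2}.ncard = {x ∈ Δ | t • x ≠ x}.ncard := by
  refine Set.ncard_congr (fun p _ => p.1) (fun p hp => ?_) (fun p q hp hq e => ?_) (fun x hx => ?_)
  · exact ⟨hp.1.1, fun e => hp.1.2.2 (e.symm.trans hp.2)⟩
  · exact Prod.ext e (by rw [← hp.2, ← hq.2, e])
  · exact ⟨(x, t • x), ⟨⟨hx.1, hΔ x hx.1, hx.2.symm⟩, rfl⟩, rfl⟩

/-- The hypothesis with the numbers of fixed points. -/
structure Par (G : Type*) [Group G] (Ω : Type*) [MulAction G Ω] where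
  hyp : Hyp G Ω
  faithful : ∀ g : G, (∀ x : Ω, g • x = x) → g = 1
  f : ℕ
  s : ℕ
  hf : ∀ z, hyp.I0 z → (fixedBy Ω z).ncard = f
  hs : ∀ x y : Ω, ∀ h : x ≠ y, (hyp.fixFour h).ncard = s

theorem exists_par (hyp : Hyp G Ω) (faithful : ∀ g : G, (∀ x : Ω, g • x = x) → g = 1) {a b : Ω}
    (hab : a ≠ b) : Nonempty (Par G Ω) := by
  obtain ⟨z, hz, hz1⟩ := hyp.exists_invol hab
  refine ⟨⟨hyp, faithful, (fixedBy Ω z).ncard, (hyp.fixFour hab).ncard, fun w hw => ?_, fun x y h => ?_⟩⟩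
  · obtain ⟨g, rfl⟩ := hyp.isConj_I0 (hyp.I0_of_mem hab hz hz1) hw
    refine (Set.ncard_congr (fun x _ => g • x) (fun x hx => smul_mem_fix_conj.2 hx)
      (fun x y _ _ e => smul_left_cancel g e) (fun x hx => ⟨g⁻¹ • x, ?_, smul_inv_smul g x⟩)).symm
    rw [← smul_mem_fix_conj (g := g), smul_inv_smul]; exact hx
  · obtain ⟨g, hga, hgb⟩ := hyp.exists_map hab h
    refine (Set.ncard_congr (fun x _ => g • x) ?_ (fun x y _ _ e => smul_left_cancel g e) ?_).symm
    · intro w hw v hv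
      have h1 := (hyp.conj_four hab h hga hgb (v := g⁻¹ * v * g)).1 (by simpa [mul_assoc] using hv)
      have := hw _ h1
      rw [mul_smul, mul_smul, inv_smul_eq_iff] at this
      exact this
    · intro w hw
      refine ⟨g⁻¹ • w, fun v hv => ?_, smul_inv_smul g w⟩
      have := hw _ ((hyp.conj_four hab h hga hgb).2 hv)
      rw [mul_smul, mul_smul, smul_eq_iff_eq_inv_smul] at this
      exact this

namespace Par

variable (P : Par G Ω)

/-- The number of points. -/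
noncomputable def n (_ : Par G Ω) : ℕ := Nat.card Ω

theorem n_eq : P.n = Nat.card Ω := rfl

theorem n_eq_univ : P.n = (Set.univ : Set Ω).ncard := (Set.ncard_univ Ω).symm

theorem two_le_f {a b : Ω} (hab : a ≠ b) : 2 ≤ P.f := by
  obtain ⟨z, hz, hz1⟩ := P.hyp.exists_invol hab
  rw [← P.hf z (P.hyp.I0_of_mem hab hz hz1), ← ncard_pair a b hab]
  exact Set.ncard_le_ncard (by rintro w (rfl | rfl); exacts [hz.1.1, hz.1.2])

theorem two_le_s {a b : Ω} (hab : a ≠ b) : 2 ≤ P.s := by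
  rw [← P.hs a b hab, ← ncard_pair a b hab]
  exact Set.ncard_le_ncard (by
    rintro w (rfl | rfl); exacts [P.hyp.left_mem_fixFour hab, P.hyp.right_mem_fixFour hab])

theorem fixFour_sub {x y : Ω} (h : x ≠ y) {z : G} (hz : z ∈ P.hyp.four h) :
    P.hyp.fixFour h ⊆ fix z := fun _ hw => hw z hz

theorem s_le_f {a b : Ω} (hab : a ≠ b) : P.s ≤ P.f := by
  obtain ⟨z, hz, hz1⟩ := P.hyp.exists_invol hab
  rw [← P.hf z (P.hyp.I0_of_mem hab hz hz1), ← P.hs a b hab]
  exact Set.ncard_le_ncard (P.fixFour_sub hab hz)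

theorem fixFour_eq_of_eq (hsf : P.s = P.f) {x y : Ω} (h : x ≠ y) {z : G} (hz : z ∈ P.hyp.four h)
    (hz1 : z ≠ 1) : P.hyp.fixFour h = fix z :=
  Set.eq_of_subset_of_ncard_le (P.fixFour_sub h hz)
    (by rw [P.hs x y h, P.hf z (P.hyp.I0_of_mem h hz hz1), hsf])

theorem f_lt_n {a b : Ω} (hab : a ≠ b) : P.f < P.n := by
  obtain ⟨z, hz, hz1⟩ := P.hyp.exists_invol hab
  rw [← P.hf z (P.hyp.I0_of_mem hab hz hz1), P.n_eq_univ]
  refine Set.ncard_lt_ncard ?_
  rw [Set.ssubset_univ_iff]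
  exact fun e => hz1 (P.faithful z fun x => Set.eq_univ_iff_forall.1 e x)

theorem card_G {a b : Ω} (hab : a ≠ b) : Nat.card G = 12 * (P.n * (P.n - 1)) := by
  have := card_of_pairs (⊤ : Subgroup G) (Set.univ : Set Ω) hab trivial trivial (fun _ _ _ _ => trivial)
    (fun x _ y _ h => (P.hyp.exists_map hab h).imp fun g hg => ⟨mem_top g, hg⟩)
  rwa [top_inf_eq, card_top, P.hyp.card_pst hab, ← P.n_eq_univ] at this

theorem cent_inf_pst {x y : Ω} (h : x ≠ y) {z : G} (hz : z ∈ P.hyp.four h) (hz1 : z ≠ 1) :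
    centralizer ({z} : Set G) ⊓ pst G x y = P.hyp.four h := by
  ext g
  rw [mem_inf, mem_centralizer_singleton_iff]
  exact ⟨fun hg => P.hyp.cent_pst h hz hz1 hg.2 hg.1.symm,
    fun hg => ⟨P.hyp.four_comm h hg hz, hg.1⟩⟩

theorem card_cent {z : G} (hz : P.hyp.I0 z) :
    Nat.card (centralizer ({z} : Set G)) = 4 * (P.f * (P.f - 1)) := by
  obtain ⟨x, y, h, hx, hy⟩ := hz.2.2
  have hzF := P.hyp.mem_four_of_fix h hz.2.1 hx hy
  have := card_of_pairs (centralizer ({z} : Set G)) (fix z) h hx hy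
    (fun g hg w hw => fix_of_commute (mem_centralizer_singleton_iff.1 hg) hw)
    (fun x' hx' y' hy' h' => by
      obtain ⟨g, hg, e1, e2⟩ := P.hyp.exists_cent hz h h' hx hy hx' hy'
      exact ⟨g, mem_centralizer_singleton_iff.2 hg, e1, e2⟩)
  rwa [P.cent_inf_pst h hzF hz.1, P.hyp.card_four, P.hf z hz] at this

/-- The elements of `C(z)` normalising the four-group of a pair. -/
def cn {x y : Ω} (h : x ≠ y) (z : G) : Subgroup G :=
  centralizer ({z} : Set G) ⊓ normalizer (P.hyp.four h : Set G)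

theorem mem_cn {x y : Ω} (h : x ≠ y) {z g : G} :
    g ∈ P.cn h z ↔ g * z = z * g ∧ ∀ v, v ∈ P.hyp.four h ↔ g * v * g⁻¹ ∈ P.hyp.four h := by
  rw [cn, mem_inf, mem_centralizer_singleton_iff]
  rfl

theorem smul_mem_fixFour {x y : Ω} (h : x ≠ y) {z g : G} (hg : g ∈ P.cn h z) {w : Ω}
    (hw : w ∈ P.hyp.fixFour h) : g • w ∈ P.hyp.fixFour h :=
  P.hyp.smul_fixFour h (fun v hv => (((P.mem_cn h).1 hg).2 v).1 hv) hw

theorem exists_cn {x y : Ω} (h : x ≠ y) {z : G} (hz : z ∈ P.hyp.four h) (hz1 : z ≠ 1) {x' y' : Ω}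
    (hx' : x' ∈ P.hyp.fixFour h) (hy' : y' ∈ P.hyp.fixFour h) (h' : x' ≠ y') :
    ∃ g ∈ P.cn h z, g • x = x' ∧ g • y = y' := by
  obtain ⟨g, hg, e1, e2⟩ := P.hyp.exists_cent (P.hyp.I0_of_mem h hz hz1) h h' hz.1.1 hz.1.2
    (hx' z hz) (hy' z hz)
  refine ⟨g, (P.mem_cn h).2 ⟨hg, fun v => ?_⟩, e1, e2⟩
  conv_rhs => rw [← P.hyp.four_eq h h' hx' hy']
  exact (P.hyp.conj_four h h' e1 e2).symm

theorem cn_inf_pst {x y : Ω} (h : x ≠ y) {z : G} (hz : z ∈ P.hyp.four h) (hz1 : z ≠ 1) :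
    P.cn h z ⊓ pst G x y = P.hyp.four h := by
  refine le_antisymm ?_ fun g hg => ⟨⟨?_, ?_⟩, hg.1⟩
  · rw [← P.cent_inf_pst h hz hz1]; exact inf_le_inf_right _ inf_le_left
  · exact mem_centralizer_singleton_iff.2 (P.hyp.four_comm h hg hz)
  · exact Subgroup.le_normalizer hg

theorem card_cn {x y : Ω} (h : x ≠ y) {z : G} (hz : z ∈ P.hyp.four h) (hz1 : z ≠ 1) :
    Nat.card (P.cn h z) = 4 * (P.s * (P.s - 1)) := by
  have := card_of_pairs (P.cn h z) (P.hyp.fixFour h) h (P.hyp.left_mem_fixFour h)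
    (P.hyp.right_mem_fixFour h) (fun g hg w hw => P.smul_mem_fixFour h hg hw)
    (fun x' hx' y' hy' h' => P.exists_cn h hz hz1 hx' hy' h')
  rwa [P.cn_inf_pst h hz hz1, P.hyp.card_four, P.hs] at this

/-- The number of involutions with two fixed points. -/
theorem card_I0 {a b : Ω} (_hab : a ≠ b) :
    {t : G | P.hyp.I0 t}.ncard * (P.f * (P.f - 1)) = P.n * (P.n - 1) * 3 := by
  rw [P.n_eq_univ, ← ncard_pairs (Set.univ : Set Ω)]
  refine double_count {t : G | P.hyp.I0 t} (pairs Set.univ) (fun t p => t • p.1 = p.1 ∧ t • p.2 = p.2)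
    (fun t ht => ?_) (fun p hp => ?_)
  · rw [← P.hf t ht, ← ncard_pairs]
    congr 1
    ext p
    exact ⟨fun hp => ⟨hp.2.1, hp.2.2, hp.1.2.2⟩, fun hp => ⟨⟨trivial, trivial, hp.2.2⟩, hp.1, hp.2.1⟩⟩
  · have e : {t ∈ {t : G | P.hyp.I0 t} | t • p.1 = p.1 ∧ t • p.2 = p.2} =
        (P.hyp.four hp.2.2 : Set G) \ {1} := by
      ext t
      constructor
      · rintro ⟨ht, h1, h2⟩
        exact ⟨P.hyp.mem_four_of_fix hp.2.2 ht.2.1 h1 h2, ht.1⟩
      · rintro ⟨ht, h1⟩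
        exact ⟨P.hyp.I0_of_mem hp.2.2 ht h1, ht.1.1, ht.1.2⟩
    rw [e, Set.ncard_sdiff_singleton_of_mem (one_mem _), ← Nat.card_coe_set_eq, SetLike.coe_sort_coe,
      P.hyp.card_four]

/-- If every pair has `j` swappers with two fixed points then `3 (n - f) = j f (f - 1)`. -/
theorem moved_eq {a b : Ω} (hab : a ≠ b) {j : ℕ}
    (hj : ∀ x y : Ω, x ≠ y → {t ∈ swapSet G x y | P.hyp.I0 t}.ncard = j) :
    3 * (P.n - P.f) = j * (P.f * (P.f - 1)) := by
  have h1 : {t : G | P.hyp.I0 t}.ncard * (P.n - P.f) = P.n * (P.n - 1) * j := by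
    rw [P.n_eq_univ, ← ncard_pairs (Set.univ : Set Ω)]
    refine double_count {t : G | P.hyp.I0 t} (pairs Set.univ) (fun t p => t • p.1 = p.2)
      (fun t ht => ?_) (fun p hp => ?_)
    · rw [ncard_swapped (Set.univ : Set Ω) (t := t) (fun _ _ => Set.mem_univ _)]
      have h2 := ncard_moved (Set.univ : Set Ω) t
      have h3 : {x ∈ (Set.univ : Set Ω) | t • x = x} = fix t := by ext; simp
      rw [h3, P.hf t ht] at h2
      omega
    · rw [← hj p.1 p.2 hp.2.2]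
      congr 1
      ext t
      exact ⟨fun ht => ⟨⟨ht.1.2.1, ht.2⟩, ht.1⟩, fun ht => ⟨ht.2, ht.1.2⟩⟩
  have h2 := P.card_I0 hab
  have hn : 0 < P.n * (P.n - 1) := by
    have := P.two_le_f hab
    have := P.f_lt_n hab
    exact Nat.mul_pos (by omega) (by omega)
  refine Nat.eq_of_mul_eq_mul_left hn ?_
  calc P.n * (P.n - 1) * (3 * (P.n - P.f)) = P.n * (P.n - 1) * 3 * (P.n - P.f) := by ring
    _ = {t : G | P.hyp.I0 t}.ncard * (P.n - P.f) * (P.f * (P.f - 1)) := by rw [← h2]; ring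
    _ = P.n * (P.n - 1) * (j * (P.f * (P.f - 1))) := by rw [h1]; ring

end Par

end CfsgLib.TwoTransAFour
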