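import Cfsg.Agent.Lib.GW.Done
import Cfsg.Agent.Lib.GW.Field
import Cfsg.Agent.Lib.GW.CaseOneSeven
import Cfsg.Agent.S0514

/-!
`S3219`: core-free groups with dihedral Sylow 2-subgroups and one class of involutions: the order
of the centraliser of an involution and its index.
-/

set_option autoImplicit false
set_option linter.style.haveILetI false

namespace CfsgLib.TwoTransAFour.DihedralOrder

open Subgroup CfsgLib.GW

universe u

variable {G : Type u} [Group G] [Finite G]

/-- In a simple `PSL₂(q)` or `A₇` with dihedral Sylow 2-subgroups all involutions are conjugate. -/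
theorem conj_invol {L : Type u} [Group L] [Finite L] (hI : IsPSLOrA7 L) (R : Sylow 2 L) {k : ℕ}
    (hk : 2 ≤ k) (e : (R : Subgroup L) ≃* DihedralGroup k) :
    ∀ x y : L, orderOf x = 2 → orderOf y = 2 → ∃ l : L, l * x * l⁻¹ = y := by
  obtain ⟨d⟩ := CfsgLib.DihProduct.nonempty_dih R.2 hk e
  let E : Setup L :=
    { S := R, d := d, m := k, two_le := hk, eS := ⟨e⟩, simple := (Main.isSimple_and_perfect hI).1,
      good := fun K _ => Main.good_of_dc Done.isPSLOrA7 _ K rfl
        ((Main.dc_of_sylow R (Or.inl ⟨e⟩)).subgroup K) }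
  intro x y hx hy
  obtain ⟨a, ha⟩ := E.exists_conj hx
  obtain ⟨b, hb⟩ := E.exists_conj hy
  exact ⟨b * a⁻¹, by rw [← ha, ← hb]; group⟩

/-- A dihedral 2-group lies in every normal subgroup containing all involutions. -/
theorem le_of_invol {S L : Subgroup G} {k : ℕ} (e : S ≃* DihedralGroup k)
    (h : ∀ u : G, orderOf u = 2 → u ∈ L) : S ≤ L := by
  have hsr : ∀ i : ZMod k, ((e.symm (DihedralGroup.sr i) : S) : G) ∈ L := fun i =>
    h _ (by rw [Subgroup.orderOf_coe, MulEquiv.orderOf_eq, DihedralGroup.orderOf_sr])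
  intro x hx
  have hval : x = ((e.symm (e ⟨x, hx⟩) : S) : G) := by rw [e.symm_apply_apply]
  rw [hval]
  rcases e ⟨x, hx⟩ with a | i
  · have hr : DihedralGroup.r a = DihedralGroup.sr 0 * DihedralGroup.sr a := by
      rw [DihedralGroup.sr_mul_sr, sub_zero]
    rw [hr, map_mul, Subgroup.coe_mul]
    exact mul_mem (hsr 0) (hsr a)
  · exact hsr i

/-- `G = L C(S)` when `L` is normal of odd index, contains `S` and fuses the conjugates of `z`. -/
theorem sup_centralizer_eq_top (S : Sylow 2 G) {k : ℕ} (hk : 2 ≤ k)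
    (e : (S : Subgroup G) ≃* DihedralGroup k) (L : Subgroup G) [L.Normal]
    (hSL : (S : Subgroup G) ≤ L) (hodd : Odd L.index) {z : G} (hzS : z ∈ (S : Subgroup G))
    (hz1 : z ≠ 1) (hzc : ∀ x ∈ (S : Subgroup G), x * z = z * x)
    (hfus : ∀ g : G, ∃ l ∈ L, l * z * l⁻¹ = g * z * g⁻¹) :
    L ⊔ centralizer ((S : Subgroup G) : Set G) = ⊤ := by
  haveI : Fact (Nat.Prime 2) := ⟨Nat.prime_two⟩
  set M := L ⊔ centralizer ((S : Subgroup G) : Set G) with hM
  -- elements normalising `S` and centralising `z`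
  have hN : ∀ g ∈ normalizer ((S : Subgroup G) : Set G), g * z = z * g → g ∈ M := by
    intro g hg hgz
    obtain ⟨a, m, hm, ham⟩ := Nat.exists_eq_pow_mul_and_not_dvd (orderOf_pos g).ne' 2 (by norm_num)
    have hodd' : Odd (orderOf (g ^ 2 ^ a)) := by
      rw [orderOf_pow_of_dvd (by positivity) (by rw [ham]; exact dvd_mul_right _ _), ham,
        Nat.mul_div_cancel_left _ (by positivity)]
      exact Nat.odd_iff.2 (Nat.two_dvd_ne_zero.1 hm)
    have h1 : g ^ 2 ^ a ∈ M := by
      refine le_sup_right (a := L) (mem_centralizer_iff.2 fun x hx => ?_)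
      exact (Cfsg.Agent.S0514.dihedral_fix (NeZero.mk (by omega)) (S : Subgroup G) S.2 e.toMonoidHom
        e.injective _ (pow_mem hg _) hodd' ((show Commute g z from hgz).pow_left _).eq hzS hz1
        x hx).symm
    have hm0 : m ≠ 0 := fun h => hm (h ▸ dvd_zero 2)
    have h2 : g ^ m ∈ M := by
      refine le_sup_left (b := centralizer ((S : Subgroup G) : Set G))
        (CfsgLib.GWCons.DihedralGenerated.mem_of_index_odd L rfl hodd (k := a) ?_)
      rw [orderOf_pow_of_dvd hm0 (by rw [ham]; exact dvd_mul_left _ _), ham,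
        Nat.mul_div_cancel _ (Nat.pos_of_ne_zero hm0)]
    have hcop : Nat.Coprime (2 ^ a) m :=
      Nat.Coprime.pow_left _ ((Nat.Prime.coprime_iff_not_dvd Nat.prime_two).2 hm)
    have hgcd := Nat.gcd_eq_gcd_ab (2 ^ a) m
    rw [hcop.gcd_eq_one] at hgcd
    have hg1 : g = (g ^ 2 ^ a) ^ Nat.gcdA (2 ^ a) m * (g ^ m) ^ Nat.gcdB (2 ^ a) m := by
      conv_lhs => rw [← zpow_one g]
      rw [← zpow_natCast g (2 ^ a), ← zpow_natCast g m, ← zpow_mul, ← zpow_mul, ← zpow_add,
        ← hgcd, Nat.cast_one]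
    rw [hg1]
    exact mul_mem (zpow_mem h1 _) (zpow_mem h2 _)
  -- Frattini in `L ∩ C(z)`
  have hC : centralizer ({z} : Set G) ≤ M := by
    intro g hg
    set D := L ⊓ centralizer ({z} : Set G) with hD
    have hSD : (S : Subgroup G) ≤ D :=
      le_inf hSL fun x hx => mem_centralizer_singleton_iff.2 (hzc x hx)
    have hgS : ((g • S : Sylow 2 G) : Subgroup G) ≤ D := by
      rw [Sylow.coe_subgroup_smul]
      rintro _ ⟨x, hx, rfl⟩
      exact ⟨(inferInstance : L.Normal).conj_mem x (hSL hx) g,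
        (centralizer ({z} : Set G)).mul_mem ((centralizer ({z} : Set G)).mul_mem hg (hSD hx).2)
          ((centralizer ({z} : Set G)).inv_mem hg)⟩
    obtain ⟨d, hd⟩ := MulAction.exists_smul_eq D (S.subtype hSD) ((g • S).subtype hgS)
    have hdn : (d : G)⁻¹ * g ∈ normalizer ((S : Subgroup G) : Set G) := by
      have key : ∀ x ∈ (S : Subgroup G), (d : G)⁻¹ * g * x * ((d : G)⁻¹ * g)⁻¹ ∈ (S : Subgroup G) := by
        intro x hx
        have hy : g * x * g⁻¹ ∈ ((g • S : Sylow 2 G) : Subgroup G) := by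
          rw [Sylow.coe_subgroup_smul]
          exact ⟨x, hx, rfl⟩
        have hy' : (⟨g * x * g⁻¹, hgS hy⟩ : D) ∈ ((g • S).subtype hgS : Subgroup D) :=
          mem_subgroupOf.2 hy
        rw [← hd, Sylow.coe_subgroup_smul] at hy'
        obtain ⟨s, hs, hsy⟩ := hy'
        have hsy' : (d : G) * s * (d : G)⁻¹ = g * x * g⁻¹ := congrArg Subtype.val hsy
        have hs' : (s : G) ∈ (S : Subgroup G) := mem_subgroupOf.1 hs
        have : (d : G)⁻¹ * g * x * ((d : G)⁻¹ * g)⁻¹ = s := by
          calc (d : G)⁻¹ * g * x * ((d : G)⁻¹ * g)⁻¹ = (d : G)⁻¹ * (g * x * g⁻¹) * d := by group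
            _ = _ := by rw [← hsy']; group
        rwa [this]
      refine (mem_normalizer_iff_conj_image_eq).2 ?_
      refine Set.eq_of_subset_of_ncard_le ?_ ?_ (Set.toFinite _)
      · rintro _ ⟨x, hx, rfl⟩
        exact key x hx
      · rw [Set.ncard_image_of_injective _ (MulAut.conj ((d : G)⁻¹ * g)).injective]
    have hdC : (d : G) ∈ centralizer ({z} : Set G) := d.2.2
    have := mul_mem (le_sup_left (b := centralizer ((S : Subgroup G) : Set G)) d.2.1 : (d : G) ∈ M)
      (hN _ hdn (mem_centralizer_singleton_iff.1 (mul_mem (inv_mem hdC) hg)))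
    rwa [mul_inv_cancel_left] at this
  rw [eq_top_iff]
  intro g _
  obtain ⟨l, hl, hlz⟩ := hfus g
  have hlg : l⁻¹ * g ∈ centralizer ({z} : Set G) := by
    refine mem_centralizer_singleton_iff.2 ?_
    calc l⁻¹ * g * z = l⁻¹ * (g * z * g⁻¹) * g := by group
      _ = l⁻¹ * (l * z * l⁻¹) * g := by rw [hlz]
      _ = z * (l⁻¹ * g) := by group
  have := mul_mem (le_sup_left (b := centralizer ((S : Subgroup G) : Set G)) hl : l ∈ M) (hC hlg)
  rwa [mul_inv_cancel_left] at this

/-- The orders attached to the centraliser of an involution. -/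
theorem main (hO : Cfsg.oddCore G = ⊥) (S : Sylow 2 G) {k : ℕ} (hk : 2 ≤ k)
    (e : (S : Subgroup G) ≃* DihedralGroup k) {z : G} (hzS : z ∈ (S : Subgroup G))
    (hz : orderOf z = 2) (hzc : ∀ x ∈ (S : Subgroup G), x * z = z * x)
    (hone : ∀ u : G, orderOf u = 2 → ∃ g : G, g * z * g⁻¹ = u) (h3 : 3 ∣ Nat.card G)
    (hns : ¬ Nat.card G ∣ 24) :
    (∃ (q c : ℕ) (δ : ℤ), 5 ≤ q ∧ Odd q ∧ (δ = 1 ∨ δ = -1) ∧ Odd c ∧
      c ∣ Nat.card ↥(centralizer ((S : Subgroup G) : Set G)) ∧
      (c : ℤ) * ((q : ℤ) - δ) = Nat.card ↥(centralizer ({z} : Set G)) ∧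
      2 * ((centralizer ({z} : Set G)).index : ℤ) = q * (q + δ)) ∨
    ((centralizer ({z} : Set G)).index = 105 ∧
      ∃ L : Subgroup G, L.Normal ∧ Nonempty (L ≃* alternatingGroup (Fin 7))) := by
  haveI : Fact (Nat.Prime 2) := ⟨Nat.prime_two⟩
  haveI : Fact (Nat.Prime 3) := ⟨Nat.prime_three⟩
  have hz1 : z ≠ 1 := fun h => by simp [h] at hz
  have hgood : Good G := Main.good_of_dc Done.isPSLOrA7 _ G rfl (Main.dc_of_sylow S (Or.inl ⟨e⟩))
  rcases Main.top_of_good hO hgood with hp | ⟨⟨f⟩⟩ | ⟨⟨f⟩⟩ | ⟨L, hLn, hCL, hI⟩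
  · exfalso
    obtain ⟨n, hn⟩ := IsPGroup.iff_card.1 hp
    rw [hn] at h3
    have := Nat.prime_three.dvd_of_dvd_pow h3
    norm_num at this
  · exfalso
    refine hns ?_
    rw [Nat.card_congr f.toEquiv, nat_card_alternatingGroup, Nat.card_eq_fintype_card,
      Fintype.card_fin]
    decide
  · exfalso
    refine hns ?_
    rw [Nat.card_congr f.toEquiv, Nat.card_perm, Nat.card_eq_fintype_card, Fintype.card_fin]
    decide
  haveI := hLn
  haveI : IsSimpleGroup L := (Main.isSimple_and_perfect hI).1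
  haveI : Group.IsPerfect L := (Main.isSimple_and_perfect hI).2
  have hLev : 2 ∣ Nat.card L := by
    by_contra h
    exact Group.IsPerfect.not_isSolvable L (CfsgLib.PF.oddSolvable.{u} L
      (Nat.not_even_iff_odd.1 fun he => h (even_iff_two_dvd.1 he)))
  obtain ⟨s, hs⟩ := exists_prime_orderOf_dvd_card' 2 hLev
  have hall : ∀ u : G, orderOf u = 2 → u ∈ L := by
    intro u hu
    obtain ⟨g, hg⟩ := hone s (by rw [Subgroup.orderOf_coe, hs])
    obtain ⟨g', hg'⟩ := hone u hu
    have hzL : z ∈ L := by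
      have := hLn.conj_mem _ s.2 g⁻¹
      rw [← hg] at this
      simpa [mul_assoc] using this
    rw [← hg']
    exact hLn.conj_mem _ hzL g'
  have hSL : (S : Subgroup G) ≤ L := le_of_invol e hall
  have hzL : z ∈ L := hSL hzS
  have hodd : Odd L.index := by
    rw [← Nat.not_even_iff_odd, even_iff_two_dvd]
    exact fun h => S.not_dvd_index (h.trans (Subgroup.index_dvd_of_le hSL))
  let R : Sylow 2 L := S.subtype hSL
  let eR : (R : Subgroup L) ≃* DihedralGroup k := (subgroupOfEquivOfLe hSL).trans e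
  have hfus : ∀ g : G, ∃ l ∈ L, l * z * l⁻¹ = g * z * g⁻¹ := by
    intro g
    have hu : orderOf (g * z * g⁻¹) = 2 := (CfsgLib.Involutions.orderOf_conj_eq g z).trans hz
    obtain ⟨l, hl⟩ := conj_invol hI R hk eR ⟨z, hzL⟩ ⟨_, hall _ hu⟩
      (by rw [Subgroup.orderOf_mk, hz]) (by rw [Subgroup.orderOf_mk, hu])
    exact ⟨l, l.2, congrArg Subtype.val hl⟩
  have hsup := sup_centralizer_eq_top S hk e L hSL hodd hzS hz1 hzc hfus
  set CS := centralizer ((S : Subgroup G) : Set G) with hCS
  set C := centralizer ({z} : Set G) with hC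
  have hCSC : CS ≤ C := centralizer_le (Set.singleton_subset_iff.2 hzS)
  have hsup' : L ⊔ C = ⊤ := eq_top_iff.2 (hsup ▸ sup_le_sup_left hCSC L)
  have hrel : ∀ K : Subgroup G, L ⊔ K = ⊤ → L.relIndex K = L.index := by
    intro K hK
    rw [← relIndex_sup_right K L, sup_comm, hK, relIndex_top_right]
  have hcS : L.index ∣ Nat.card CS := hrel CS hsup ▸ relIndex_dvd_card L CS
  have hidx : C.index = C.relIndex L := by
    have h1 : L.relIndex C * C.index = C.relIndex L * L.index := by
      rw [← inf_relIndex_right L C, relIndex_mul_index inf_le_right, ← inf_relIndex_right C L,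
        relIndex_mul_index inf_le_right, inf_comm]
    rw [hrel C hsup', mul_comm] at h1
    exact Nat.eq_of_mul_eq_mul_right (Nat.pos_of_ne_zero index_ne_zero_of_finite) h1
  have hcard : Nat.card C = Nat.card (L ⊓ C : Subgroup G) * L.index := by
    have h := relIndex_mul_relIndex ⊥ (L ⊓ C) C bot_le inf_le_right
    rw [relIndex_bot_left, relIndex_bot_left, inf_relIndex_right, hrel C hsup'] at h
    exact h.symm
  rcases hI with ⟨F, i1, i2, hFodd, hF3, hiso⟩ | ⟨⟨f⟩⟩
  · left
    have hP : Field.Psl L F :=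
      { normal := hLn, cent := hCL, equiv := hiso, odd := hFodd, three := hF3,
        sylow := fun T => ⟨k, ⟨(Sylow.equiv T S).trans e⟩⟩ }
    refine ⟨Fintype.card F, L.index, FieldModel.eps (Fintype.card F), ?_, hFodd,
      FieldModel.eps_cases _, hodd, hcS, ?_, ?_⟩
    · obtain ⟨j, hj⟩ := hFodd
      omega
    · rw [hcard]
      push_cast
      rw [hP.card_centralizer hz hzL, mul_comm]
    · rw [hidx]
      exact hP.two_mul_relIndex hz hzL
  · right
    refine ⟨?_, L, hLn, ⟨f⟩⟩
    have hg : orderOf (f ⟨z, hzL⟩) = 2 := by rw [MulEquiv.orderOf_eq, Subgroup.orderOf_mk, hz]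
    have h24 := CaseOne.Seven.card_centralizer_involution hg
    have hmap : centralizer ({f ⟨z, hzL⟩} : Set (alternatingGroup (Fin 7))) =
        (C.subgroupOf L).map f.toMonoidHom := by
      ext x
      rw [mem_map_equiv, mem_subgroupOf, hC, mem_centralizer_singleton_iff,
        mem_centralizer_singleton_iff]
      constructor
      · intro hx
        have := congrArg f.symm hx
        rw [map_mul, map_mul, f.symm_apply_apply] at this
        exact congrArg Subtype.val this
      · intro hx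
        apply f.symm.injective
        rw [map_mul, map_mul, f.symm_apply_apply]
        exact Subtype.ext hx
    have hsub : Nat.card (C.subgroupOf L) = 24 := by
      rw [Nat.card_congr ((C.subgroupOf L).equivMapOfInjective f.toMonoidHom f.injective).toEquiv,
        ← hmap, h24]
    have hLc : Nat.card L = 2520 := by
      rw [Nat.card_congr f.toEquiv, nat_card_alternatingGroup, Nat.card_eq_fintype_card,
        Fintype.card_fin]
      rfl
    have h := (C.subgroupOf L).card_mul_index
    rw [hsub, hLc] at h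
    rw [hidx]
    change 24 * C.relIndex L = 2520 at h
    omega

end CfsgLib.TwoTransAFour.DihedralOrder
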