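import Mathlib

/-!
The Diophantine equations of the case of an even number of points.
-/

set_option autoImplicit false

namespace CfsgLib.TwoTransAFour

theorem eq_two_or {p k : ℕ} (hp : p.Prime) (h : p ^ k = 6) : False := by
  rcases k with _ | k
  · simp at h
  have hd : p ∣ 6 := h ▸ dvd_pow_self p k.succ_ne_zero
  have hp6 : p ≤ 6 := Nat.le_of_dvd (by norm_num) hd
  interval_cases p <;> revert hd hp h <;> intro hd hp h
  all_goals first
    | (norm_num at hp; done)
    | (norm_num at hd; done)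
    | (rcases k with _ | _ | k <;> simp [pow_succ] at h <;> omega)

theorem not_isPrimePow_six : ¬ IsPrimePow 6 := by
  rw [isPrimePow_nat_iff]
  rintro ⟨p, k, hp, -, h⟩
  exact eq_two_or hp h

/-- The first alternative of the local arithmetic. -/
theorem arith_frob {f s j : ℤ} (hj : j = 3 ∨ j = 4 ∨ j = 6) (hs : 2 ≤ s)
    (hfs : f = s ∨ f = s * s ∨ (j = 4 ∧ f = 2 * (s * s) - s))
    (h : (3 + j * f) * (s - 1) ^ 2 = 3 * (f - 1) ^ 2) :
    (j = 6 ∧ s = 2 ∧ f = 4) ∨ (j = 4 ∧ s = 6) := by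
  have h0 : (0 : ℤ) < (s - 1) ^ 2 := by nlinarith
  rcases hfs with rfl | rfl | ⟨rfl, rfl⟩
  · have : j * f = 0 := by
      have := mul_right_cancel₀ h0.ne' (h.trans (by ring : 3 * (f - 1) ^ 2 = 3 * (f - 1) ^ 2))
      linarith
    rcases hj with rfl | rfl | rfl <;> linarith
  · have h1 : 3 + j * (s * s) = 3 * (s + 1) ^ 2 := by
      refine mul_right_cancel₀ h0.ne' (h.trans ?_)
      ring
    rcases hj with rfl | rfl | rfl
    · nlinarith
    · right
      have : s * (s - 6) = 0 := by linarith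
      rcases mul_eq_zero.1 this with h2 | h2
      · omega
      · exact ⟨rfl, by omega⟩
    · left
      have : s * (s - 2) = 0 := by linarith
      rcases mul_eq_zero.1 this with h2 | h2
      · omega
      · obtain rfl : s = 2 := by omega
        norm_num
  · have h1 : 3 + 4 * (2 * (s * s) - s) = 3 * (2 * s + 1) ^ 2 := by
      refine mul_right_cancel₀ h0.ne' (h.trans ?_)
      ring
    nlinarith

theorem dvd_enum {u : ℤ} {N : ℕ} (hu : 0 < u) (hN : 0 < N) (h : u ∣ (N : ℤ)) : u ≤ N :=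
  Int.le_of_dvd (by omega) h

/-- The second alternative. -/
theorem arith_psl {f s j u q δ : ℤ} (hj : j = 3 ∨ j = 4 ∨ j = 6) (hs : 2 ≤ s) (hse : Even s)
    (hfs : f = s ∨ f = s * s ∨ (j = 4 ∧ f = 2 * (s * s) - s)) (hu : Odd u) (hu0 : 0 < u)
    (hq : 5 ≤ q) (hqo : Odd q) (hδ : δ = 1 ∨ δ = -1) (h1 : u * (q - δ) * (s - 1) = 4 * (f - 1))
    (h2 : 2 * (3 + j * f) = u ^ 2 * q * (q + δ)) :
    (j = 6 ∧ f = 2 ∧ s = 2) ∨ (j = 3 ∧ f = 4 ∧ s = 4) := by
  obtain ⟨r, hr⟩ := hse
  have hs1 : (s - 1) ≠ 0 := by omega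
  have hc : IsCoprime u 4 := by
    obtain ⟨k, rfl⟩ := hu
    exact ⟨2 * k + 1, -(k * k + k), by ring⟩
  obtain ⟨w, rfl⟩ : ∃ w, q = w + δ := ⟨q - δ, by ring⟩
  simp only [add_sub_cancel_right] at h1
  rcases hfs with rfl | rfl | ⟨rfl, rfl⟩
  · have e : u * w = 4 := mul_right_cancel₀ hs1 h1
    have hu4 : u ∣ 1 := hc.dvd_of_dvd_mul_left (Dvd.intro w (by rw [e]; ring))
    obtain rfl : u = 1 := le_antisymm (Int.le_of_dvd one_pos hu4) (by omega)
    obtain rfl : w = 4 := by linarith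
    rcases hδ with rfl | rfl
    · rcases hj with rfl | rfl | rfl
      · right; omega
      · omega
      · left; omega
    · omega
  · have e : u * w = 4 * (s + 1) := mul_right_cancel₀ hs1 (h1.trans (by ring))
    obtain ⟨d, hd⟩ : u ∣ s + 1 := hc.dvd_of_dvd_mul_left (Dvd.intro w e)
    have h3 : 6 + 2 * j * (s * s) = 16 * (s + 1) ^ 2 + 12 * δ * u * (s + 1) + 2 * u ^ 2 * δ ^ 2 := by
      have : 2 * (3 + j * (s * s)) = (u * w) ^ 2 + 3 * δ * u * (u * w) + 2 * u ^ 2 * δ ^ 2 := by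
        rw [h2]; ring
      rw [e] at this
      linarith
    have hdv : u ∣ 2 * j + 6 := by
      refine ⟨16 * (s + 1) * d + 12 * δ * (s + 1) + 2 * u * δ ^ 2 - 2 * j * d * (s - 1), ?_⟩
      linear_combination h3 + (16 * (s + 1) - 2 * j * (s - 1)) * hd
    rcases hj with rfl | rfl | rfl
    all_goals
      have hu' : u ≤ 18 := (Int.le_of_dvd (by norm_num) hdv).trans (by norm_num)
      obtain ⟨k, hk⟩ := hu
      subst hk
      have hk0 : 0 ≤ k := by omega
      have hk8 : k ≤ 8 := by omega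
      interval_cases k <;> first
        | (norm_num at hdv; done)
        | (rcases hδ with rfl | rfl <;>
            (have hs20 : s ≤ 30 := by nlinarith
             interval_cases s <;> omega))
  · have e : u * w = 4 * (2 * s + 1) := mul_right_cancel₀ hs1 (h1.trans (by ring))
    obtain ⟨d, hd⟩ : u ∣ 2 * s + 1 := hc.dvd_of_dvd_mul_left (Dvd.intro w e)
    have h3 : 6 + 8 * (2 * (s * s) - s) =
        16 * (2 * s + 1) ^ 2 + 12 * δ * u * (2 * s + 1) + 2 * u ^ 2 * δ ^ 2 := by
      have : 2 * (3 + 4 * (2 * (s * s) - s)) = (u * w) ^ 2 + 3 * δ * u * (u * w) + 2 * u ^ 2 * δ ^ 2 := by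
        rw [h2]; ring
      rw [e] at this
      linarith
    have hdv : u ∣ 14 := by
      refine ⟨16 * (2 * s + 1) * d + 12 * δ * (2 * s + 1) + 2 * u * δ ^ 2 - 4 * d * (2 * s + 1) +
        12 * d, ?_⟩
      linear_combination h3 + (16 * (2 * s + 1) - 4 * (2 * s + 1) + 12) * hd
    have hu' : u ≤ 14 := Int.le_of_dvd (by norm_num) hdv
    obtain ⟨k, hk⟩ := hu
    subst hk
    have hk0 : 0 ≤ k := by omega
    have hk8 : k ≤ 6 := by omega
    interval_cases k <;> first
      | (norm_num at hdv; done)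
      | (rcases hδ with rfl | rfl <;>
          (have hs20 : s ≤ 30 := by nlinarith
           interval_cases s <;> omega))

end CfsgLib.TwoTransAFour
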