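import Cfsg.Agent.Lib.TwoTransAFour.Count
import Cfsg.Agent.Lib.PermGroup.SharpTwoKernel

/-!
The elements of `C(z)` normalising a four-group act sharply 2-transitively, modulo the four-group, on
its fixed points.
-/

set_option autoImplicit false
set_option linter.unusedSectionVars false
set_option linter.style.haveILetI false

namespace CfsgLib.TwoTransAFour

open MulAction Subgroup

theorem fix_pair_of_sharp {X α : Type*} [Group X] [Finite X] [Finite α] [MulAction X α]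
    (h2 : IsMultiplyPretransitive X α 2)
    (hs : ∀ g : X, ∀ a b : α, a ≠ b → g • a = a → g • b = b → g = 1) (hodd : Odd (Nat.card α))
    (htwo : 2 ≤ Nat.card α)
    {g g' : X} (hg : g * g = 1) (hg1 : g ≠ 1) (hg' : g' * g' = 1) (hg'1 : g' ≠ 1) {c : α}
    (hc : g • c = c) (hc' : g' • c = c) : g = g' := by
  obtain ⟨a, ha⟩ : ∃ a : α, g • a ≠ a := by
    by_contra hall
    by_cases hne : ∃ b : α, b ≠ c
    · obtain ⟨b, hb⟩ := hne
      exact hg1 (hs g c b hb.symm hc (not_not.1 (not_exists.1 hall b)))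
    · haveI : Subsingleton α := ⟨fun p q =>
        (not_not.1 (not_exists.1 hne p)).trans (not_not.1 (not_exists.1 hne q)).symm⟩
      have := Finite.card_le_one_iff_subsingleton.2 ‹Subsingleton α›
      omega
  let I : Set X := {t | t * t = 1 ∧ t ≠ 1}
  have hone : ∀ t ∈ I, {x ∈ (Set.univ : Set α) | t • x = x}.ncard = 1 := by
    intro t ht
    have h1 : {x ∈ (Set.univ : Set α) | t • x = x}.ncard ≤ 1 := by
      rw [Set.ncard_le_one]
      intro p hp q hq
      by_contra hne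
      exact ht.2 (hs t p q hne hp.2 hq.2)
    have h2 := ncard_moved (Set.univ : Set α) t
    have h3 := even_ncard_moved (Set.univ : Set α) ht.1 fun _ _ => Set.mem_univ _
    rw [Set.ncard_univ] at h2
    obtain ⟨r, hr⟩ := hodd
    obtain ⟨r', hr'⟩ := h3
    omega
  have hpair : ∀ p q : α, p ≠ q → {t ∈ I | t • p = q}.ncard = 1 := by
    intro p q hpq
    obtain ⟨k, hkp, hkq⟩ := is_two_pretransitive_iff.mp h2 hpq hpq.symm
    have hk : k * k = 1 := hs _ p q hpq (by rw [mul_smul, hkp, hkq]) (by rw [mul_smul, hkq, hkp])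
    rw [Set.ncard_eq_one]
    refine ⟨k, Set.eq_singleton_iff_unique_mem.2 ⟨⟨⟨hk, fun e => hpq ?_⟩, hkp⟩, ?_⟩⟩
    · rw [← hkp, e, one_smul]
    rintro t ⟨⟨ht, -⟩, htp⟩
    have := hs (k * t) p q hpq (by rw [mul_smul, htp, hkq])
      (by rw [mul_smul, ← htp, ← mul_smul t t, ht, one_smul, hkp, htp])
    calc t = k * k * t := by rw [hk, one_mul]
      _ = k := by rw [mul_assoc, this, mul_one]
  have hI : I.ncard * (Nat.card α - 1) = Nat.card α * (Nat.card α - 1) * 1 := by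
    rw [← Set.ncard_univ, ← ncard_pairs (Set.univ : Set α)]
    refine double_count I (pairs Set.univ) (fun t p => t • p.1 = p.2) (fun t ht => ?_)
      fun p hp => hpair p.1 p.2 hp.2.2
    rw [ncard_swapped (Set.univ : Set α) (t := t) fun _ _ => Set.mem_univ _]
    have h2 := ncard_moved (Set.univ : Set α) t
    rw [hone t ht] at h2
    omega
  have hn : 2 ≤ Nat.card α := Finite.one_lt_card_iff_nontrivial.2 ⟨_, _, ha⟩
  have hIn : I.ncard = Nat.card α :=
    Nat.eq_of_mul_eq_mul_right (show 0 < Nat.card α - 1 by omega) (by rw [hI, mul_one])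
  haveI := CfsgLib.PermGroup.isPretransitive_of_two_le h2 (by norm_num) hn
  have hfib : ∀ p ∈ (Set.univ : Set α), {t ∈ I | t • p = p}.ncard = {t ∈ I | t • c = c}.ncard := by
    intro p _
    obtain ⟨k, rfl⟩ := MulAction.exists_smul_eq X c p
    refine (Set.ncard_congr (s := {t ∈ I | t • c = c}) (fun t _ => k * t * k⁻¹) ?_
      (fun s t _ _ e => mul_left_cancel (mul_right_cancel e)) ?_).symm
    · rintro t ⟨⟨ht, ht1⟩, htc⟩
      refine ⟨⟨?_, fun e => ht1 (conj_eq_one_iff.1 e)⟩, ?_⟩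
      · rw [show k * t * k⁻¹ * (k * t * k⁻¹) = k * (t * t) * k⁻¹ by group, ht, mul_one, mul_inv_cancel]
      · show (k * t * k⁻¹) • k • c = k • c
        rw [mul_smul, inv_smul_smul, mul_smul, htc]
    · rintro t ⟨⟨ht, ht1⟩, htc⟩
      refine ⟨k⁻¹ * t * k, ⟨⟨?_, fun e => ht1 ?_⟩, ?_⟩, by group⟩
      · rw [show k⁻¹ * t * k * (k⁻¹ * t * k) = k⁻¹ * (t * t) * k by group, ht, mul_one, inv_mul_cancel]
      · calc t = k * (k⁻¹ * t * k) * k⁻¹ := by group
          _ = 1 := by rw [e]; group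
      · show (k⁻¹ * t * k) • c = c
        rw [mul_smul, mul_smul, htc, inv_smul_smul]
  have := double_count I (Set.univ : Set α) (fun t p => t • p = p) (m := 1) hone hfib
  rw [hIn, Set.ncard_univ] at this
  obtain ⟨r, hr⟩ := Set.ncard_eq_one.1 (Nat.eq_of_mul_eq_mul_left (n := Nat.card α) (by omega) this).symm
  have e : ∀ t, t * t = 1 → t ≠ 1 → t • c = c → t = r := fun t h1 h2 h3 =>
    Set.mem_singleton_iff.1 (hr ▸ ⟨⟨h1, h2⟩, h3⟩)
  exact (e g hg hg1 hc).trans (e g' hg' hg'1 hc').symm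

variable {G : Type*} [Group G] [Finite G] {Ω : Type*} [Finite Ω] [MulAction G Ω]

namespace Par

variable (P : Par G Ω)

/-- An element of `cn` fixing two points of the line lies in the four-group. -/
theorem mem_four_of_cn {x y : Ω} (h : x ≠ y) {z g : G} (hz : z ∈ P.hyp.four h) (hz1 : z ≠ 1)
    (hg : g * z = z * g) {p q : Ω} (hp : p ∈ P.hyp.fixFour h) (hq : q ∈ P.hyp.fixFour h) (hpq : p ≠ q)
    (hgp : g • p = p) (hgq : g • q = q) : g ∈ P.hyp.four h := by
  have e := P.hyp.four_eq h hpq hp hq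
  rw [← e] at hz ⊢
  exact P.hyp.cent_pst hpq hz hz1 ⟨hgp, hgq⟩ hg.symm

/-- The action of `cn` on the line. -/
def lineHom {x y : Ω} (h : x ≠ y) (z : G) : P.cn h z →* Equiv.Perm (P.hyp.fixFour h) where
  toFun g :=
    { toFun := fun w => ⟨(g : G) • (w : Ω), P.smul_mem_fixFour h g.2 w.2⟩
      invFun := fun w => ⟨(g : G)⁻¹ • (w : Ω), P.smul_mem_fixFour h (inv_mem g.2) w.2⟩
      left_inv := fun w => Subtype.ext (inv_smul_smul (g : G) (w : Ω))
      right_inv := fun w => Subtype.ext (smul_inv_smul (g : G) (w : Ω)) }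
  map_one' := Equiv.ext fun w => Subtype.ext (one_smul G (w : Ω))
  map_mul' g k := Equiv.ext fun w => Subtype.ext (mul_smul (g : G) (k : G) (w : Ω))

theorem lineHom_apply {x y : Ω} (h : x ≠ y) (z : G) (g : P.cn h z) (w : P.hyp.fixFour h) :
    ((P.lineHom h z g w : P.hyp.fixFour h) : Ω) = (g : G) • (w : Ω) := rfl

theorem lineHom_eq_one {x y : Ω} (h : x ≠ y) {z : G} (hz : z ∈ P.hyp.four h) (hz1 : z ≠ 1)
    (g : P.cn h z) : P.lineHom h z g = 1 ↔ (g : G) ∈ P.hyp.four h := by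
  refine ⟨fun e => P.mem_four_of_cn h hz hz1 ((P.mem_cn h).1 g.2).1 (P.hyp.left_mem_fixFour h)
    (P.hyp.right_mem_fixFour h) h ?_ ?_, fun hg => Equiv.ext fun w => Subtype.ext (w.2 _ hg)⟩
  · have := congrArg (fun σ : Equiv.Perm (P.hyp.fixFour h) =>
      ((σ ⟨x, P.hyp.left_mem_fixFour h⟩ : P.hyp.fixFour h) : Ω)) e
    simpa [lineHom_apply] using this
  · have := congrArg (fun σ : Equiv.Perm (P.hyp.fixFour h) =>
      ((σ ⟨y, P.hyp.right_mem_fixFour h⟩ : P.hyp.fixFour h) : Ω)) e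
    simpa [lineHom_apply] using this

theorem lineHom_sharp {x y : Ω} (h : x ≠ y) {z : G} (hz : z ∈ P.hyp.four h) (hz1 : z ≠ 1) :
    IsMultiplyPretransitive (P.lineHom h z).range (P.hyp.fixFour h) 2 ∧
      ∀ σ : (P.lineHom h z).range, ∀ p q : P.hyp.fixFour h, p ≠ q → σ • p = p → σ • q = q → σ = 1 := by
  refine ⟨is_two_pretransitive_iff.mpr fun {p q p' q'} hpq hpq' => ?_, ?_⟩
  · have hpq0 : (p : Ω) ≠ q := fun e => hpq (Subtype.ext e)
    have hpq0' : (p' : Ω) ≠ q' := fun e => hpq' (Subtype.ext e)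
    obtain ⟨g, hg, e1, e2⟩ := P.exists_cn h hz hz1 p.2 q.2 hpq0
    obtain ⟨g', hg', e1', e2'⟩ := P.exists_cn h hz hz1 p'.2 q'.2 hpq0'
    refine ⟨⟨_, ⟨⟨g' * g⁻¹, mul_mem hg' (inv_mem hg)⟩, rfl⟩⟩, Subtype.ext ?_, Subtype.ext ?_⟩
    · show (g' * g⁻¹) • (p : Ω) = p'
      rw [mul_smul, ← e1, inv_smul_smul, e1']
    · show (g' * g⁻¹) • (q : Ω) = q'
      rw [mul_smul, ← e2, inv_smul_smul, e2']
  · rintro ⟨_, g, rfl⟩ p q hpq hp hq
    refine Subtype.ext ((P.lineHom_eq_one h hz hz1 g).2 (P.mem_four_of_cn h hz hz1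
      ((P.mem_cn h).1 g.2).1 p.2 q.2 (fun e => hpq (Subtype.ext e)) ?_ ?_))
    · exact congrArg Subtype.val hp
    · exact congrArg Subtype.val hq

theorem card_line {x y : Ω} (h : x ≠ y) : Nat.card (P.hyp.fixFour h) = P.s := by
  rw [Nat.card_coe_set_eq, P.hs]

theorem isPrimePow_s {a b : Ω} (hab : a ≠ b) : IsPrimePow P.s := by
  obtain ⟨z, hz, hz1⟩ := P.hyp.exists_invol hab
  obtain ⟨h2, hs⟩ := P.lineHom_sharp hab hz hz1
  obtain ⟨-, -, -, -, -, -, p, k, hp, hk, hcard, -⟩ :=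
    CfsgLib.PermGroup.sharpTwo_kernel h2 hs (by rw [P.card_line]; exact P.two_le_s hab)
  rw [P.card_line] at hcard
  exact (isPrimePow_nat_iff _).2 ⟨p, k, hp, hk, hcard.symm⟩

/-- On a line of odd length each point is fixed by one involutory action only. -/
theorem line_unique {x y : Ω} (h : x ≠ y) {z : G} (hz : z ∈ P.hyp.four h) (hz1 : z ≠ 1)
    (hodd : Odd P.s) {g g' : G} (hg : g ∈ P.cn h z) (hg' : g' ∈ P.cn h z)
    (hgn : g ∉ P.hyp.four h) (hg'n : g' ∉ P.hyp.four h) (hgg : g * g ∈ P.hyp.four h)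
    (hgg' : g' * g' ∈ P.hyp.four h) {c : Ω} (hc : c ∈ P.hyp.fixFour h) (hgc : g • c = c)
    (hg'c : g' • c = c) : g⁻¹ * g' ∈ P.hyp.four h := by
  obtain ⟨h2, hs⟩ := P.lineHom_sharp h hz hz1
  let G₀ : P.cn h z := ⟨g, hg⟩
  let G₁ : P.cn h z := ⟨g', hg'⟩
  let r₀ : (P.lineHom h z).range := ⟨P.lineHom h z G₀, G₀, rfl⟩
  let r₁ : (P.lineHom h z).range := ⟨P.lineHom h z G₁, G₁, rfl⟩
  have e : r₀ = r₁ := by
    refine fix_pair_of_sharp h2 hs (by rwa [P.card_line]) (by rw [P.card_line]; exact P.two_le_s h) (Subtype.ext ?_) (fun e => hgn ?_)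
      (Subtype.ext ?_) (fun e => hg'n ?_) (c := ⟨c, hc⟩) (Subtype.ext hgc) (Subtype.ext hg'c)
    · show P.lineHom h z G₀ * P.lineHom h z G₀ = 1
      rw [← map_mul, P.lineHom_eq_one h hz hz1]; exact hgg
    · exact (P.lineHom_eq_one h hz hz1 G₀).1 (congrArg Subtype.val e)
    · show P.lineHom h z G₁ * P.lineHom h z G₁ = 1
      rw [← map_mul, P.lineHom_eq_one h hz hz1]; exact hgg'
    · exact (P.lineHom_eq_one h hz hz1 G₁).1 (congrArg Subtype.val e)
  refine (P.lineHom_eq_one h hz hz1 (G₀⁻¹ * G₁)).1 ?_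
  rw [map_mul, map_inv, show P.lineHom h z G₀ = P.lineHom h z G₁ from congrArg Subtype.val e,
    inv_mul_cancel]

end Par

end CfsgLib.TwoTransAFour
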