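import Cfsg.Agent.Lib.TwoTransAFour.Special
import Cfsg.Agent.Lib.TwoTransAFour.Sharp
import Cfsg.Agent.Lib.TwoTransAFour.EvenArith

/-!
The case of an even number of points: the degree is 6, 16 or 28.
-/

set_option autoImplicit false
set_option linter.unusedSectionVars false
set_option linter.style.haveILetI false

namespace CfsgLib.TwoTransAFour

open MulAction Subgroup

universe u

/-- The input from the groups with a Sylow four-group containing a copy of `A₄`. -/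
def FourArith : Prop :=
  ∀ {K : Type u} [Group K] [Finite K] (H : Subgroup K) (_ : H ≃* alternatingGroup (Fin 4))
    (_ : ¬ 8 ∣ Nat.card K) {z v : K} (_ : z ∈ H) (_ : v ∈ H) (_ : orderOf z = 2) (_ : orderOf v = 2)
    (_ : z ≠ v),
  Nat.card K * Nat.card ↥(centralizer ({z} : Set K) ⊓ centralizer {v}) ^ 2 =
      3 * Nat.card ↥(centralizer ({z} : Set K)) ^ 3 ∨
    ∃ (m q : ℕ) (δ : ℤ), Odd m ∧ 5 ≤ q ∧ Odd q ∧ (δ = 1 ∨ δ = -1) ∧
      (m : ℤ) * ((q : ℤ) - δ) * Nat.card ↥(centralizer ({z} : Set K) ⊓ centralizer {v}) =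
        4 * Nat.card ↥(centralizer ({z} : Set K)) ∧
      2 * (Nat.card K : ℤ) = Nat.card ↥(centralizer ({z} : Set K)) * m ^ 2 * q * (q + δ)

theorem orderOf_sub {G : Type*} [Group G] {K : Subgroup G} {z : G} (hzK : z ∈ K) (hz : z ≠ 1)
    (hz2 : z * z = 1) : orderOf (⟨z, hzK⟩ : K) = 2 := by
  rw [← Subgroup.orderOf_coe]
  exact orderOf_eq_prime (by rw [pow_two]; exact hz2) hz

theorem card_centralizer_sub {G : Type*} [Group G] {K : Subgroup G} {z : G} (hzK : z ∈ K) :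
    Nat.card ↥(centralizer ({⟨z, hzK⟩} : Set K)) = Nat.card ↥(K ⊓ centralizer ({z} : Set G)) := by
  have e : centralizer ({⟨z, hzK⟩} : Set K) = (K ⊓ centralizer ({z} : Set G)).subgroupOf K := by
    ext g
    simp only [mem_centralizer_singleton_iff, mem_subgroupOf, mem_inf, SetLike.coe_mem, true_and,
      ← Subtype.coe_inj, coe_mul]
  rw [e, Nat.card_congr (subgroupOfEquivOfLe inf_le_left).toEquiv]

theorem card_centralizer_sub₂ {G : Type*} [Group G] {K : Subgroup G} {z v : G} (hzK : z ∈ K)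
    (hvK : v ∈ K) :
    Nat.card ↥(centralizer ({⟨z, hzK⟩} : Set K) ⊓ centralizer {⟨v, hvK⟩}) =
      Nat.card ↥(K ⊓ centralizer ({z} : Set G) ⊓ centralizer {v}) := by
  have e : centralizer ({⟨z, hzK⟩} : Set K) ⊓ centralizer {⟨v, hvK⟩} =
      (K ⊓ centralizer ({z} : Set G) ⊓ centralizer {v}).subgroupOf K := by
    ext g
    simp only [mem_centralizer_singleton_iff, mem_subgroupOf, mem_inf, SetLike.coe_mem, true_and,
      ← Subtype.coe_inj, coe_mul]
  rw [e, Nat.card_congr (subgroupOfEquivOfLe (inf_le_left.trans inf_le_left)).toEquiv]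

variable {G : Type u} [Group G] [Finite G] {Ω : Type*} [Finite Ω] [MulAction G Ω]

theorem card_of_points (H : Subgroup G) (Δ : Set Ω) {a : Ω} (ha : a ∈ Δ)
    (hinv : ∀ g ∈ H, ∀ x ∈ Δ, g • x ∈ Δ) (htr : ∀ x ∈ Δ, ∃ g ∈ H, g • a = x) :
    Nat.card H = Nat.card ↥(H ⊓ stabilizer G a) * Δ.ncard := by
  have horb : MulAction.orbit H a = Δ := by
    ext p
    constructor
    · rintro ⟨g, rfl⟩; exact hinv g g.2 a ha
    · intro hp
      obtain ⟨g, hg, e⟩ := htr p hp
      exact ⟨⟨g, hg⟩, e⟩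
  have hst : stabilizer H a = (H ⊓ stabilizer G a).subgroupOf H := by
    ext g
    simp only [mem_stabilizer_iff, mem_subgroupOf, mem_inf, SetLike.coe_mem, true_and, Subgroup.smul_def]
  rw [← (stabilizer H a).card_mul_index, MulAction.index_stabilizer, horb, hst,
    Nat.card_congr (subgroupOfEquivOfLe inf_le_left).toEquiv]

namespace Par

variable (P : Par G Ω)

theorem card_stab {a b : Ω} (hab : a ≠ b) : Nat.card (stabilizer G a) = 12 * (P.n - 1) := by
  haveI : Nontrivial Ω := ⟨a, b, hab⟩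
  haveI := P.hyp.pretransitive
  have h1 := P.card_G hab
  have h2 := (stabilizer G a).card_mul_index
  rw [index_stabilizer_of_transitive, ← P.n_eq, h1] at h2
  have hn := P.f_lt_n hab
  refine Nat.eq_of_mul_eq_mul_right (show 0 < P.n by omega) (h2.trans ?_)
  ring

theorem card_centStab {a b : Ω} (hab : a ≠ b) {z : G} (hz : z ∈ P.hyp.four hab) (hz1 : z ≠ 1) :
    Nat.card ↥(stabilizer G a ⊓ centralizer ({z} : Set G)) = 4 * (P.f - 1) := by
  have hz0 := P.hyp.I0_of_mem hab hz hz1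
  have h1 := card_of_points (centralizer ({z} : Set G)) (fix z : Set Ω) (a := a) hz.1.1
    (fun g hg w hw => fix_of_commute (mem_centralizer_singleton_iff.1 hg) hw)
    (fun x hx => by
      rcases eq_or_ne a x with rfl | hax
      · exact ⟨1, one_mem _, one_smul G _⟩
      · obtain ⟨g, hg, e, -⟩ := P.hyp.exists_cent hz0 hax hax.symm hz.1.1 hx hx hz.1.1
        exact ⟨g, mem_centralizer_singleton_iff.2 hg, e⟩)
  rw [P.card_cent hz0, show (fix z : Set Ω).ncard = P.f from P.hf z hz0] at h1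
  rw [inf_comm]
  have := P.two_le_f hab
  refine Nat.eq_of_mul_eq_mul_right (show 0 < P.f by omega) (h1.symm.trans ?_)
  ring

theorem card_cnStab {a b : Ω} (hab : a ≠ b) {z : G} (hz : z ∈ P.hyp.four hab) (hz1 : z ≠ 1) :
    Nat.card ↥(P.cn hab z ⊓ stabilizer G a) = 4 * (P.s - 1) := by
  have h1 := card_of_points (P.cn hab z) (P.hyp.fixFour hab) (a := a) (P.hyp.left_mem_fixFour hab)
    (fun g hg w hw => P.smul_mem_fixFour hab hg hw)
    (fun x hx => by
      rcases eq_or_ne a x with rfl | hax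
      · exact ⟨1, one_mem _, one_smul G _⟩
      · obtain ⟨g, hg, e, -⟩ := P.exists_cn hab hz hz1 hx (P.hyp.left_mem_fixFour hab) hax.symm
        exact ⟨g, hg, e⟩)
  rw [P.card_cn hab hz hz1, P.hs] at h1
  have := P.two_le_s hab
  refine Nat.eq_of_mul_eq_mul_right (show 0 < P.s by omega) (h1.symm.trans ?_)
  ring

theorem even_f {a b : Ω} (hab : a ≠ b) (hn : Even P.n) : Even P.f := by
  obtain ⟨z, hz, hz1⟩ := P.hyp.exists_invol hab
  have h1 := ncard_moved (Set.univ : Set Ω) z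
  have h2 : {x ∈ (Set.univ : Set Ω) | z • x = x} = fix z := by ext; simp
  rw [h2, P.hf z (P.hyp.I0_of_mem hab hz hz1), ← P.n_eq_univ] at h1
  obtain ⟨r, hr⟩ := even_ncard_moved (Set.univ : Set Ω) hz.2 fun _ _ => Set.mem_univ _
  obtain ⟨r', hr'⟩ := hn
  exact ⟨r' - r, by omega⟩

theorem even_s {j : ℕ} (K : P.Kind j) {a b : Ω} (hab : a ≠ b) (hn : Even P.n) : Even P.s := by
  have hf := P.even_f hab hn
  rcases K.f_cases hab with h | ⟨-, h⟩ | ⟨-, h⟩
  · rwa [← h]
  · rw [h] at hf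
    exact (Nat.even_mul.1 hf).elim id id
  · exact (Nat.even_add.1 (h ▸ even_two_mul _ : Even (P.f + P.s))).1 hf

/-- For even degree `C(z)` in a point stabiliser centralises the whole four-group as soon as it
normalises it. -/
theorem cnStab_cent {a b : Ω} (hab : a ≠ b) (hs : Even P.s) {z : G} (hz : z ∈ P.hyp.four hab)
    (hz1 : z ≠ 1) {g : G} (hg : g ∈ P.cn hab z ⊓ stabilizer G a) {v : G} (hv : v ∈ P.hyp.four hab) :
    g * v = v * g := by
  set A := P.cn hab z ⊓ stabilizer G a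
  have hle : P.hyp.four hab ≤ A := fun u hu =>
    ⟨⟨mem_centralizer_singleton_iff.2 (P.hyp.four_comm hab hu hz), Subgroup.le_normalizer hu⟩, hu.1.1⟩
  let F := (P.hyp.four hab).subgroupOf A
  haveI : F.Normal := ⟨fun u hu k => by
    rw [mem_subgroupOf] at hu ⊢
    exact (((P.mem_cn hab).1 k.2.1).2 _).1 hu⟩
  have hidx : F.index = P.s - 1 := by
    have h1 := F.card_mul_index
    rw [Nat.card_congr (subgroupOfEquivOfLe hle).toEquiv, P.hyp.card_four hab,
      P.card_cnStab hab hz hz1] at h1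
    omega
  have hpow : g ^ (P.s - 1) ∈ P.hyp.four hab := by
    have := Subgroup.pow_index_mem F (⟨g, hg⟩ : A)
    rw [hidx, mem_subgroupOf, SubmonoidClass.coe_pow] at this
    exact this
  rcases eq_or_ne v 1 with rfl | hv1
  · rw [mul_one, one_mul]
  rcases eq_or_ne v z with rfl | hvz
  · exact ((P.mem_cn hab).1 hg.1).1
  have hmaps := ((P.mem_cn hab).1 hg.1).2
  have hgz : g * z * g⁻¹ = z := by rw [((P.mem_cn hab).1 hg.1).1, mul_inv_cancel_right]
  rcases P.hyp.four_elems hab hz hv hz1 hv1 hvz.symm ((hmaps v).1 hv) with e | e | e | e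
  · exact absurd (conj_eq_one_iff.1 e) hv1
  · exact absurd (mul_left_cancel (mul_right_cancel (e.trans hgz.symm))) hvz
  · exact mul_inv_eq_iff_eq_mul.1 e
  exfalso
  have h2 : ∀ k : ℕ, g ^ k * v * (g ^ k)⁻¹ = if Even k then v else z * v := by
    intro k
    induction k with
    | zero => simp
    | succ k ih =>
      rw [pow_succ', show g * g ^ k * v * (g * g ^ k)⁻¹ = g * (g ^ k * v * (g ^ k)⁻¹) * g⁻¹ by group,
        ih]
      by_cases hk : Even k
      · rw [if_pos hk, if_neg (by simp [Nat.even_add_one, hk]), e]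
      · rw [if_neg hk, if_pos (Nat.even_add_one.2 hk),
          show g * (z * v) * g⁻¹ = (g * z * g⁻¹) * (g * v * g⁻¹) by group, hgz, e, ← mul_assoc,
          hz.2, one_mul]
  have hodd : ¬ Even (P.s - 1) := by
    obtain ⟨r, hr⟩ := hs
    have := P.two_le_s hab
    rintro ⟨r', hr'⟩
    omega
  have h3 := h2 (P.s - 1)
  rw [if_neg hodd, P.hyp.four_comm hab hpow hv, mul_inv_cancel_right] at h3
  exact hz1 (mul_eq_right.1 h3.symm)

theorem centPair_eq {a b : Ω} (hab : a ≠ b) (hs : Even P.s) {z v : G} (hz : z ∈ P.hyp.four hab)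
    (hv : v ∈ P.hyp.four hab) (hz1 : z ≠ 1) (hv1 : v ≠ 1) (hne : z ≠ v) :
    stabilizer G a ⊓ centralizer ({z} : Set G) ⊓ centralizer {v} = P.cn hab z ⊓ stabilizer G a := by
  refine le_antisymm (fun g hg => ?_) fun g hg => ⟨⟨hg.2, hg.1.1⟩, ?_⟩
  · obtain ⟨⟨hga, hgz⟩, hgv⟩ := hg
    have hgz' := mem_centralizer_singleton_iff.1 hgz
    have hgv' := mem_centralizer_singleton_iff.1 hgv
    have hfix : ∀ u ∈ P.hyp.four hab, g * u * g⁻¹ = u := by
      intro u hu
      rw [mul_inv_eq_iff_eq_mul]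
      rcases P.hyp.four_elems hab hz hv hz1 hv1 hne hu with rfl | rfl | rfl | rfl
      · rw [mul_one, one_mul]
      · exact hgz'
      · exact hgv'
      · exact ((show Commute g z from hgz').mul_right hgv').eq
    refine ⟨(P.mem_cn hab).2 ⟨hgz', fun u => ⟨fun hu => by rwa [hfix u hu], fun hu => ?_⟩⟩, hga⟩
    have e := hfix _ hu
    have : g * u * g⁻¹ = u := mul_left_cancel (a := g) (mul_right_cancel (b := g⁻¹) e)
    rwa [this] at hu
  · exact mem_centralizer_singleton_iff.2 (P.cnStab_cent hab hs hz hz1 hg hv)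

/-- A second involution of a four-group. -/
theorem exists_second {a b : Ω} (hab : a ≠ b) {z : G} (hz : z ∈ P.hyp.four hab) (hz1 : z ≠ 1) :
    ∃ v ∈ P.hyp.four hab, v ≠ 1 ∧ z ≠ v := by
  obtain ⟨p, hp, -, -, hpf⟩ := P.hyp.exists_three hab
  exact ⟨p * z * p⁻¹, (P.hyp.conj_four hab hab hp.1 hp.2).2 hz, fun e => hz1 (conj_eq_one_iff.1 e),
    (hpf z hz hz1).symm⟩

/-- With an even number of points: degree 6, 28 or 16. -/
theorem even_cases (harith : FourArith.{u}) {j : ℕ} (K : P.Kind j) {a b : Ω} (hab : a ≠ b)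
    (hn : Even P.n) :
    (j = 6 ∧ P.f = 2 ∧ P.s = 2) ∨ (j = 6 ∧ P.f = 4 ∧ P.s = 2) ∨ (j = 3 ∧ P.f = 4 ∧ P.s = 4) := by
  obtain ⟨z, hz, hz1⟩ := P.hyp.exists_invol hab
  obtain ⟨v, hv, hv1, hne⟩ := P.exists_second hab hz hz1
  have hse := P.even_s K hab hn
  set S := stabilizer G a
  have hle : pst G a b ≤ S := inf_le_left
  obtain ⟨e⟩ := P.hyp.iso a b hab
  have h8 : ¬ 8 ∣ Nat.card S := by
    rw [P.card_stab hab]
    obtain ⟨r, hr⟩ := hn
    have := P.f_lt_n hab
    omega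
  have hj : j = 3 ∨ j = 4 ∨ j = 6 := by
    have := K.j_ne_one hab
    have := K.j_cases
    omega
  have hjZ : (j : ℤ) = 3 ∨ (j : ℤ) = 4 ∨ (j : ℤ) = 6 := by exact_mod_cast hj
  have hs2 := P.two_le_s hab
  have hf2 := P.two_le_f hab
  have hfn := P.f_lt_n hab
  have hfs : (P.f : ℤ) = P.s ∨ (P.f : ℤ) = (P.s : ℤ) * P.s ∨
      ((j : ℤ) = 4 ∧ (P.f : ℤ) = 2 * ((P.s : ℤ) * P.s) - P.s) := by
    rcases K.f_cases hab with h | ⟨-, h⟩ | ⟨h4, h⟩
    · left; exact_mod_cast h
    · right; left; exact_mod_cast h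
    · refine Or.inr (Or.inr ⟨by exact_mod_cast h4, ?_⟩)
      have : (P.f : ℤ) + P.s = 2 * ((P.s : ℤ) * P.s) := by exact_mod_cast h
      linarith
  have hrel : 3 * ((P.n : ℤ) - 1) = ((P.f : ℤ) - 1) * (3 + j * P.f) := by
    have h1 : (3 * P.n : ℤ) = 3 * P.f + j * (P.f * ((P.f - 1 : ℕ) : ℤ)) := by
      exact_mod_cast K.n_rel hab
    rw [Nat.cast_sub (by omega : 1 ≤ P.f), Nat.cast_one] at h1
    linear_combination h1
  have hf1 : ((P.f : ℤ) - 1) ≠ 0 := by omega
  have key := harith (K := S) ((pst G a b).subgroupOf S) ((subgroupOfEquivOfLe hle).trans e) h8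
    (z := ⟨z, hle hz.1⟩) (v := ⟨v, hle hv.1⟩) (mem_subgroupOf.2 hz.1) (mem_subgroupOf.2 hv.1)
    (orderOf_sub _ hz1 hz.2) (orderOf_sub _ hv1 hv.2) (fun e => hne (congrArg Subtype.val e))
  rw [card_centralizer_sub₂, card_centralizer_sub, P.centPair_eq hab hse hz hv hz1 hv1 hne,
    P.card_cnStab hab hz hz1, P.card_centStab hab hz hz1, P.card_stab hab] at key
  rcases key with h | ⟨m, q, δ, hm, hq, hqo, hδ, h1, h2⟩
  · have h' : (12 * ((P.n - 1 : ℕ) : ℤ)) * (4 * ((P.s - 1 : ℕ) : ℤ)) ^ 2 =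
        3 * (4 * ((P.f - 1 : ℕ) : ℤ)) ^ 3 := by exact_mod_cast h
    rw [Nat.cast_sub (by omega : 1 ≤ P.n), Nat.cast_sub (by omega : 1 ≤ P.f),
      Nat.cast_sub (by omega : 1 ≤ P.s), Nat.cast_one] at h'
    have h'' : (3 + (j : ℤ) * P.f) * ((P.s : ℤ) - 1) ^ 2 = 3 * ((P.f : ℤ) - 1) ^ 2 := by
      refine mul_left_cancel₀ (mul_ne_zero (show (64 : ℤ) ≠ 0 by norm_num) hf1) ?_
      linear_combination h' - 64 * ((P.s : ℤ) - 1) ^ 2 * hrel
    rcases arith_frob hjZ (by omega) hfs h'' with ⟨h4, h5, h6⟩ | ⟨-, h5⟩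
    · exact Or.inr (Or.inl ⟨by exact_mod_cast h4, by exact_mod_cast h6, by exact_mod_cast h5⟩)
    · exact absurd (P.isPrimePow_s hab) (by
        rw [show P.s = 6 by exact_mod_cast h5]; exact not_isPrimePow_six)
  · push_cast [Nat.cast_sub (by omega : 1 ≤ P.n), Nat.cast_sub (by omega : 1 ≤ P.f),
      Nat.cast_sub (by omega : 1 ≤ P.s)] at h1 h2
    have h1' : (m : ℤ) * ((q : ℤ) - δ) * ((P.s : ℤ) - 1) = 4 * ((P.f : ℤ) - 1) := by
      refine mul_left_cancel₀ (show (4 : ℤ) ≠ 0 by norm_num) ?_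
      linear_combination h1
    have h2' : 2 * (3 + (j : ℤ) * P.f) = (m : ℤ) ^ 2 * q * (q + δ) := by
      refine mul_left_cancel₀ (mul_ne_zero (show (4 : ℤ) ≠ 0 by norm_num) hf1) ?_
      linear_combination h2 - 8 * hrel
    have hm0 : (0 : ℤ) < m := by obtain ⟨r, rfl⟩ := hm; positivity
    rcases arith_psl hjZ (by omega) (by exact_mod_cast hse) hfs (by exact_mod_cast hm) hm0
        (by exact_mod_cast hq) (by exact_mod_cast hqo) hδ h1' h2' with ⟨h4, h5, h6⟩ | ⟨h4, h5, h6⟩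
    · exact Or.inl ⟨by exact_mod_cast h4, by exact_mod_cast h5, by exact_mod_cast h6⟩
    · exact Or.inr (Or.inr ⟨by exact_mod_cast h4, by exact_mod_cast h5, by exact_mod_cast h6⟩)

end Par

end CfsgLib.TwoTransAFour
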