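import Cfsg.Agent.Lib.GW.Done
import Cfsg.Agent.Lib.GW.CaseOneTop
import Cfsg.Agent.Lib.TwoTransAFour.Basic

/-!
Local arithmetic for a group with Sylow 2-subgroups of order four containing `A₄`: centraliser
orders of an involution and of the four-group; the case of order 180.
-/

set_option autoImplicit false
set_option linter.unusedSectionVars false
set_option linter.style.haveILetI false

namespace CfsgLib.TwoTransAFour.FourLocal

open Subgroup

universe u

variable {K : Type u} [Group K]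

theorem mem_of_sq_mem_of_odd {N : Subgroup K} [N.Normal] (hodd : Odd N.index) {x : K}
    (hx : x * x ∈ N) : x ∈ N := by
  obtain ⟨j, hj⟩ := hodd
  have h := pow_index_mem N x
  rw [hj, pow_succ, pow_mul] at h
  exact (N.mul_mem_cancel_left (pow_mem (by rwa [pow_two]) j)).1 h

theorem four_cases {T : Subgroup K} [Finite K] (hT : Nat.card T = 4) {z v : K} (hzT : z ∈ T)
    (hvT : v ∈ T) (hz : z * z = 1) (hv : v * v = 1) (hz1 : z ≠ 1) (hv1 : v ≠ 1) (hne : z ≠ v)
    {x : K} (hx : x ∈ T) : x = 1 ∨ x = z ∨ x = v ∨ x = z * v := by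
  classical
  haveI := Fintype.ofFinite ↥T
  have hsub : (Finset.univ : Finset ↥T) =
      {1, ⟨z, hzT⟩, ⟨v, hvT⟩, ⟨z * v, mul_mem hzT hvT⟩} := by
    refine (Finset.eq_univ_of_card _ ?_).symm
    rw [← Nat.card_eq_fintype_card, hT]
    have h1 : z * v ≠ 1 := fun e => hne (by
      rw [← mul_eq_one_iff_inv_eq.1 e, inv_eq_of_mul_eq_one_right hz])
    have h2 : z * v ≠ z := fun e => hv1 (by simpa using e)
    have h3 : z * v ≠ v := fun e => hz1 (by simpa using e)
    rw [Finset.card_insert_of_notMem, Finset.card_insert_of_notMem, Finset.card_pair] <;>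
      simp [Ne.symm, hz1, hv1, hne, Ne.symm h1, Ne.symm h2, Ne.symm h3]
  have := hsub ▸ Finset.mem_univ (⟨x, hx⟩ : ↥T)
  simpa using this

theorem closure_pair_mem [Finite K] {z v : K} (hz : z * z = 1) (hv : v * v = 1) (hzv : z * v = v * z) :
    IsPGroup 2 ↥(closure ({z, v} : Set K)) := by
  haveI : Fact (Nat.Prime 2) := ⟨Nat.prime_two⟩
  refine CfsgLib.DGroup.closure_isPGroup ?_ ?_
  · rintro x (rfl | rfl) y (rfl | rfl)
    exacts [rfl, hzv, hzv.symm, rfl]
  · rintro x (rfl | rfl)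
    exacts [hz, hv]

theorem conj_involution {z : K} (hz : z * z = 1) (y : K) : y * z * y⁻¹ * (y * z * y⁻¹) = 1 := by
  rw [show y * z * y⁻¹ * (y * z * y⁻¹) = y * (z * z) * y⁻¹ by group, hz, mul_one, mul_inv_cancel]

theorem conj_commute {z v y : K} (hy : y * z = z * y) (h : z * v = v * z) :
    z * (y * v * y⁻¹) = y * v * y⁻¹ * z := by
  have hy' : y⁻¹ * z = z * y⁻¹ := ((show Commute y z from hy).inv_left).eq
  calc z * (y * v * y⁻¹) = (z * y) * v * y⁻¹ := by group
    _ = y * (z * v) * y⁻¹ := by rw [← hy]; group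
    _ = y * v * (z * y⁻¹) := by rw [h]; group
    _ = y * v * y⁻¹ * z := by rw [← hy']; group

/-! ### Sylow four -/

section Four

variable [Finite K] {z v : K} (h8 : ¬ 8 ∣ Nat.card K) (hz : z * z = 1) (hv : v * v = 1)
  (hzv : z * v = v * z) (hz1 : z ≠ 1) (hv1 : v ≠ 1) (hne : z ≠ v)
include h8 hz hv hzv hz1 hv1 hne

theorem four_dvd : 4 ∣ Nat.card ↥(closure ({z, v} : Set K)) := by
  classical
  obtain ⟨k, hk⟩ := IsPGroup.iff_card.1 (closure_pair_mem hz hv hzv)
  rcases Nat.lt_or_ge k 2 with h | h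
  · exfalso
    haveI := Fintype.ofFinite ↥(closure ({z, v} : Set K))
    have h3 : 3 ≤ Nat.card ↥(closure ({z, v} : Set K)) := by
      rw [Nat.card_eq_fintype_card]
      refine le_trans ?_ (Finset.card_le_univ
        ({1, ⟨z, subset_closure (by simp)⟩, ⟨v, subset_closure (by simp)⟩} :
          Finset ↥(closure ({z, v} : Set K))))
      rw [Finset.card_insert_of_notMem, Finset.card_pair] <;>
        simp only [Ne, Finset.mem_insert, Finset.mem_singleton, not_or, ← Subtype.coe_inj,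
          OneMemClass.coe_one] <;> first | exact hne | exact ⟨Ne.symm hz1, Ne.symm hv1⟩
    rw [hk] at h3
    interval_cases k <;> omega
  · exact hk ▸ pow_dvd_pow 2 h

theorem card_two_group {P : Subgroup K} (hP : IsPGroup 2 ↥P) (hzP : z ∈ P) (hvP : v ∈ P) :
    Nat.card P = 4 := by
  haveI : Fact (Nat.Prime 2) := ⟨Nat.prime_two⟩
  obtain ⟨k, hk⟩ := IsPGroup.iff_card.1 hP
  have h4 : 4 ∣ Nat.card P := (four_dvd h8 hz hv hzv hz1 hv1 hne).trans
    (card_dvd_of_le ((closure_le P).2 (Set.insert_subset hzP (Set.singleton_subset_iff.2 hvP))))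
  have hk3 : k < 3 := by
    by_contra h
    exact h8 ((pow_dvd_pow 2 (Nat.not_lt.1 h)).trans (hk ▸ card_subgroup_dvd_card P))
  rw [hk] at h4 ⊢
  interval_cases k <;> simp_all

theorem mem_two_group {P : Subgroup K} (hP : IsPGroup 2 ↥P) (hzP : z ∈ P) (hvP : v ∈ P) {x : K}
    (hx : x ∈ P) : x = 1 ∨ x = z ∨ x = v ∨ x = z * v :=
  four_cases (card_two_group h8 hz hv hzv hz1 hv1 hne hP hzP hvP) hzP hvP hz hv hz1 hv1 hne hx

theorem exists_sylow_equiv :
    ∃ S : Sylow 2 K, Nonempty (↥(S : Subgroup K) ≃* DihedralGroup 2) := by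
  haveI : Fact (Nat.Prime 2) := ⟨Nat.prime_two⟩
  obtain ⟨S, hS⟩ := (closure_pair_mem hz hv hzv).exists_le_sylow
  have hzS : z ∈ (S : Subgroup K) := hS (subset_closure (by simp))
  have hvS : v ∈ (S : Subgroup K) := hS (subset_closure (by simp))
  have hc := card_two_group h8 hz hv hzv hz1 hv1 hne S.2 hzS hvS
  have hcomm : ∀ a b : K, Commute a b → a * a = 1 → b * b = 1 → a * b * (a * b) = 1 := by
    intro a b h ha hb
    calc a * b * (a * b) = a * (b * a) * b := by group
      _ = a * a * (b * b) := by rw [← h.eq]; group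
      _ = 1 := by rw [ha, hb, one_mul]
  have hsq : ∀ x : ↥(S : Subgroup K), x * x = 1 := by
    rintro ⟨x, hx⟩
    refine Subtype.ext ?_
    show x * x = 1
    rcases mem_two_group h8 hz hv hzv hz1 hv1 hne S.2 hzS hvS hx with rfl | rfl | rfl | rfl
    · exact one_mul 1
    · exact hz
    · exact hv
    · exact hcomm z v hzv hz hv
  haveI : Nontrivial ↥(S : Subgroup K) := ⟨⟨z, hzS⟩, 1, fun e => hz1 (congrArg Subtype.val e)⟩
  haveI : IsKleinFour ↥(S : Subgroup K) :=
    ⟨hc, Monoid.exponent_eq_prime_iff Nat.prime_two |>.2 fun x hx =>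
      orderOf_eq_prime (by rw [pow_two]; exact hsq x) hx⟩
  exact ⟨S, IsKleinFour.nonempty_mulEquiv⟩

/-- No element centralising `z` moves `v` to `z * v`. -/
theorem conj_ne_mul {y : K} (hy : y * z = z * y) : y * v * y⁻¹ ≠ z * v := by
  haveI : Fact (Nat.Prime 2) := ⟨Nat.prime_two⟩
  intro he
  obtain ⟨a, m, hm, ho⟩ := Nat.exists_eq_pow_mul_and_not_dvd (orderOf_pos y).ne' 2 (by norm_num)
  -- conjugation by an odd power still moves `v` to `z * v`
  have hpow : ∀ k : ℕ, y ^ (2 * k) * v * (y ^ (2 * k))⁻¹ = v := by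
    intro k
    induction k with
    | zero => simp
    | succ k ih =>
      have h2 : y * (z * v) * y⁻¹ = v := by
        rw [show y * (z * v) * y⁻¹ = (y * z) * y⁻¹ * (y * v * y⁻¹) by group, he, hy,
          mul_inv_cancel_right, ← mul_assoc, hz, one_mul]
      calc y ^ (2 * (k + 1)) * v * (y ^ (2 * (k + 1)))⁻¹
          = y * (y * (y ^ (2 * k) * v * (y ^ (2 * k))⁻¹) * y⁻¹) * y⁻¹ := by
            rw [show 2 * (k + 1) = 2 + 2 * k by ring, pow_add, pow_two]; group
        _ = v := by rw [ih, he, h2]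
  obtain ⟨k, hk⟩ := Nat.odd_iff.2 (Nat.two_dvd_ne_zero.1 hm)
  set g := y ^ m with hg
  have hgz : g * z = z * g := ((show Commute y z from hy).pow_left m).eq
  have hgv : g * v * g⁻¹ = z * v := by
    rw [hg, hk, add_comm, pow_add, pow_one,
      show y * y ^ (2 * k) * v * (y * y ^ (2 * k))⁻¹ =
        y * (y ^ (2 * k) * v * (y ^ (2 * k))⁻¹) * y⁻¹ by group, hpow, he]
  have hg2 : g ^ 2 ^ a = 1 := by rw [hg, ← pow_mul, mul_comm, ← ho, pow_orderOf_eq_one]
  have hP : IsPGroup 2 ↥(zpowers g) := by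
    obtain ⟨j, -, hj⟩ := (Nat.dvd_prime_pow Nat.prime_two).1 (orderOf_dvd_of_pow_eq_one hg2)
    exact IsPGroup.of_card (n := j) (by rw [Nat.card_zpowers, hj])
  set V := closure ({z, v} : Set K) with hVdef
  have hzV : z ∈ V := subset_closure (by simp)
  have hvV : v ∈ V := subset_closure (by simp)
  have hN : zpowers g ≤ normalizer (V : Set K) := by
    refine zpowers_le.2 ?_
    have hsub : V.map (MulAut.conj g).toMonoidHom ≤ V := by
      rw [hVdef, MonoidHom.map_closure, closure_le]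
      rintro _ ⟨w, hw, rfl⟩
      rcases hw with rfl | rfl
      · show g * w * g⁻¹ ∈ Subgroup.closure _
        rw [hgz, mul_inv_cancel_right]
        exact hzV
      · show g * w * g⁻¹ ∈ Subgroup.closure _
        rw [hgv]
        exact mul_mem hzV hvV
    have heq : V.map (MulAut.conj g).toMonoidHom = V :=
      eq_of_le_of_card_ge hsub (card_map_of_injective (MulAut.conj g).injective).ge
    rw [mem_normalizer_iff]
    intro w
    refine ⟨fun hw => hsub ⟨w, hw, rfl⟩, fun hw => ?_⟩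
    obtain ⟨w', hw', e⟩ := heq.symm ▸ (show g * w * g⁻¹ ∈ V from hw)
    rwa [← (MulAut.conj g).injective e]
  have hsup : IsPGroup 2 ↥(zpowers g ⊔ V : Subgroup K) :=
    IsPGroup.to_sup_of_normal_right' hP (closure_pair_mem hz hv hzv) hN
  have key : g * v = v * g := by
    rcases mem_two_group h8 hz hv hzv hz1 hv1 hne hsup (mem_sup_right hzV) (mem_sup_right hvV)
      (mem_sup_left (mem_zpowers g)) with e | e | e | e <;> rw [e]
    · simp
    · exact hzv
    · rw [mul_assoc, hv, mul_one, ← mul_assoc, ← hzv, mul_assoc, hv, mul_one]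
  rw [key, mul_inv_cancel_right] at hgv
  exact hz1 (by simpa using hgv.symm)

/-- In a normal subgroup containing `z` and `v`: the Frattini argument inside `C(z)`. -/
theorem card_frattini (L : Subgroup K) [L.Normal] (hzL : z ∈ L) (hvL : v ∈ L) :
    Nat.card ↥(L ⊓ centralizer ({z} : Set K)) *
        Nat.card ↥(centralizer ({z} : Set K) ⊓ centralizer ({v} : Set K)) =
      Nat.card ↥(centralizer ({z} : Set K)) *
        Nat.card ↥(L ⊓ (centralizer ({z} : Set K) ⊓ centralizer ({v} : Set K))) := by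
  haveI : Fact (Nat.Prime 2) := ⟨Nat.prime_two⟩
  set M := centralizer ({z} : Set K) with hM
  set N := L.subgroupOf M with hN
  set C := (centralizer ({v} : Set K)).subgroupOf M with hC
  have hmemN : ∀ w : M, w ∈ N ↔ (w : K) ∈ L := fun w => mem_subgroupOf
  -- Sylow subgroups of `L ⊓ M` through `z` and an involution
  have hsyl : ∀ w : K, w ∈ L → w * z = z * w → w * w = 1 → ∃ P : Subgroup ↥(L ⊓ M),
      P = (closure ({z, w} : Set K)).subgroupOf (L ⊓ M) ∧ IsPGroup 2 ↥P ∧
      closure ({z, w} : Set K) ≤ L ⊓ M := by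
    intro w hwL hwz hw2
    have hle : closure ({z, w} : Set K) ≤ L ⊓ M := (closure_le _).2 (Set.insert_subset
      ⟨hzL, mem_centralizer_singleton_iff.2 rfl⟩
      (Set.singleton_subset_iff.2 ⟨hwL, mem_centralizer_singleton_iff.2 hwz⟩))
    exact ⟨_, rfl, (closure_pair_mem hz hw2 hwz.symm).of_equiv (subgroupOfEquivOfLe hle).symm, hle⟩
  obtain ⟨P, hPdef, hP, hPle⟩ := hsyl v hvL hzv.symm hv
  obtain ⟨Q, hQ⟩ := hP.exists_le_sylow
  have hQmem : ∀ x : ↥(L ⊓ M), x ∈ (Q : Subgroup ↥(L ⊓ M)) →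
      (x : K) = 1 ∨ (x : K) = z ∨ (x : K) = v ∨ (x : K) = z * v := by
    intro x hx
    refine mem_two_group h8 hz hv hzv hz1 hv1 hne (Q.2.map (L ⊓ M).subtype) ?_ ?_
      ⟨x, hx, rfl⟩
    · exact ⟨⟨z, hPle (subset_closure (by simp))⟩,
        hQ (hPdef ▸ mem_subgroupOf.2 (subset_closure (by simp))), rfl⟩
    · exact ⟨⟨v, hPle (subset_closure (by simp))⟩,
        hQ (hPdef ▸ mem_subgroupOf.2 (subset_closure (by simp))), rfl⟩
  have htop : N ⊔ C = ⊤ := by
    refine eq_top_iff.2 fun y _ => ?_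
    have hy : (y : K) * z = z * y := mem_centralizer_singleton_iff.1 y.2
    set w := (y : K) * v * (y : K)⁻¹ with hw
    have hw2 : w * w = 1 := conj_involution hv y
    have hwL : w ∈ L := (inferInstance : L.Normal).conj_mem v hvL y
    have hwz : w * z = z * w := (conj_commute hy hzv).symm
    obtain ⟨R, hRdef, hR, hRle⟩ := hsyl w hwL hwz hw2
    obtain ⟨R', hR'⟩ := hR.exists_le_sylow
    obtain ⟨l, hl⟩ := MulAction.exists_smul_eq ↥(L ⊓ M) R' Q
    have hlw : (l : K) * w * (l : K)⁻¹ = 1 ∨ (l : K) * w * (l : K)⁻¹ = z ∨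
        (l : K) * w * (l : K)⁻¹ = v ∨ (l : K) * w * (l : K)⁻¹ = z * v := by
      have hwmem : (⟨w, hRle (subset_closure (by simp))⟩ : ↥(L ⊓ M)) ∈ (R' : Subgroup ↥(L ⊓ M)) :=
        hR' (hRdef ▸ mem_subgroupOf.2 (subset_closure (by simp)))
      refine hQmem (l * ⟨w, hRle (subset_closure (by simp))⟩ * l⁻¹) ?_
      rw [← hl]
      exact Subgroup.smul_mem_pointwise_smul _ (MulAut.conj l) _ hwmem
    have hlz : (l : K) * z = z * l := mem_centralizer_singleton_iff.1 l.2.2
    have hly : (l : K) * y * z = z * (l * y) :=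
      ((show Commute (l : K) z from hlz).mul_left hy).eq
    have hconj : (l : K) * w * (l : K)⁻¹ = (l : K) * y * v * ((l : K) * y)⁻¹ := by
      rw [hw]; group
    rw [hconj] at hlw
    rcases hlw with h | h | h | h
    · exact absurd (conj_eq_one_iff.1 h) hv1
    · refine absurd ?_ hne
      calc z = ((l : K) * y)⁻¹ * z * ((l : K) * y) := by
            rw [mul_assoc, ← hly, inv_mul_cancel_left]
        _ = ((l : K) * y)⁻¹ * ((l : K) * y * v * ((l : K) * y)⁻¹) * ((l : K) * y) := by rw [h]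
        _ = v := by group
    · have hc : (⟨(l : K), l.2.2⟩ : M) * y ∈ C :=
        mem_subgroupOf.2 (mem_centralizer_singleton_iff.2 (mul_inv_eq_iff_eq_mul.1 h))
      rw [show y = (⟨(l : K), l.2.2⟩ : M)⁻¹ * (⟨(l : K), l.2.2⟩ * y) by group]
      exact mul_mem (mem_sup_left (inv_mem ((hmemN _).2 l.2.1))) (mem_sup_right hc)
    · exact absurd h (conj_ne_mul h8 hz hv hzv hz1 hv1 hne hly)
  have hidx : N.relIndex C = N.index := by
    rw [← relIndex_sup_right, sup_comm, htop, relIndex_top_right]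
  have hcN : Nat.card N = Nat.card ↥(L ⊓ M) := by
    rw [hN, ← Nat.card_congr (subgroupOfEquivOfLe (inf_le_right : L ⊓ M ≤ M)).toEquiv]
    exact Nat.card_congr (MulEquiv.subgroupCongr (inf_subgroupOf_right L M).symm).toEquiv
  have hcC : Nat.card C = Nat.card ↥(M ⊓ centralizer ({v} : Set K)) := by
    rw [hC, ← Nat.card_congr (subgroupOfEquivOfLe (inf_le_left : M ⊓ centralizer ({v} : Set K) ≤ M)).toEquiv]
    exact Nat.card_congr (MulEquiv.subgroupCongr (inf_subgroupOf_left _ M).symm).toEquiv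
  have hcNC : Nat.card ↥(N ⊓ C) = Nat.card ↥(L ⊓ (M ⊓ centralizer ({v} : Set K))) := by
    rw [← Nat.card_congr (subgroupOfEquivOfLe
      (inf_le_right.trans inf_le_left : L ⊓ (M ⊓ centralizer ({v} : Set K)) ≤ M)).toEquiv]
    refine Nat.card_congr (MulEquiv.subgroupCongr ?_).toEquiv
    ext x
    simp [hN, hC, mem_subgroupOf]
  have e1 : Nat.card C = Nat.card ↥(N ⊓ C) * N.relIndex C := by
    have := relIndex_mul_relIndex ⊥ (N ⊓ C) C bot_le inf_le_right
    rwa [relIndex_bot_left, relIndex_bot_left, inf_relIndex_right, eq_comm] at this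
  rw [← hcN, ← hcC, ← hcNC, e1, hidx, ← N.card_mul_index]
  ring

end Four

/-! ### Centralisers and the odd core -/

theorem card_cent_quot [Finite K] (O : Subgroup K) [O.Normal] (hO : Odd (Nat.card O))
    (B : Subgroup K) {v : K} (hvB : v ∈ B) (hv : v * v = 1) :
    Nat.card ↥(B ⊓ centralizer ({v} : Set K)) =
      Nat.card ↥(B.map (QuotientGroup.mk' O) ⊓ centralizer ({(v : K ⧸ O)} : Set (K ⧸ O))) *
        Nat.card ↥(O ⊓ (B ⊓ centralizer ({v} : Set K))) ∧
    (B ⊓ centralizer ({v} : Set K)).map (QuotientGroup.mk' O) =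
      B.map (QuotientGroup.mk' O) ⊓ centralizer ({(v : K ⧸ O)} : Set (K ⧸ O)) := by
  set π := QuotientGroup.mk' O with hπ
  set P := B ⊓ centralizer ({v} : Set K) with hP
  have himg : P.map π = B.map π ⊓ centralizer ({(v : K ⧸ O)} : Set (K ⧸ O)) := by
    refine le_antisymm ?_ ?_
    · rintro _ ⟨x, hx, rfl⟩
      refine ⟨⟨x, hx.1, rfl⟩, mem_centralizer_singleton_iff.2 ?_⟩
      show π x * π v = π v * π x
      rw [← map_mul, ← map_mul, mem_centralizer_singleton_iff.1 hx.2]
    · rintro _ ⟨⟨y, hy, rfl⟩, hc⟩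
      have hc' : π y * π v = π v * π y := mem_centralizer_singleton_iff.1 hc
      have hW : y * v * y⁻¹ * v ∈ O ⊓ B := by
        refine ⟨?_, B.mul_mem (B.mul_mem (B.mul_mem hy hvB) (B.inv_mem hy)) hvB⟩
        show y * v * y⁻¹ * v ∈ O
        rw [← QuotientGroup.ker_mk' O, MonoidHom.mem_ker, ← hπ]
        rw [map_mul, map_mul, map_mul, hc', map_inv, mul_inv_cancel_right, ← map_mul, hv, map_one]
      obtain ⟨c, hc1, hc2⟩ := CfsgLib.GW.CaseOne.exists_conj_of_congr
        (hO.of_dvd_nat (card_dvd_of_le inf_le_left)) hv (conj_involution hv y) hW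
      refine ⟨c⁻¹ * y, ⟨B.mul_mem (B.inv_mem hc1.2) hy, mem_centralizer_singleton_iff.2 ?_⟩, ?_⟩
      · calc c⁻¹ * y * v = c⁻¹ * (y * v * y⁻¹) * y := by group
          _ = v * (c⁻¹ * y) := by rw [← hc2]; group
      · rw [map_mul, show π c⁻¹ = 1 from (QuotientGroup.eq_one_iff _).2 (inv_mem hc1.1), one_mul]
  refine ⟨?_, himg⟩
  have h1 := relIndex_mul_relIndex ⊥ (O ⊓ P) P bot_le inf_le_right
  rw [relIndex_bot_left, relIndex_bot_left, inf_relIndex_right] at h1
  rw [← h1, mul_comm, ← himg, ← relIndex_ker]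
  congr 1
  exact congrArg (relIndex · P) (QuotientGroup.ker_mk' O).symm

theorem card_cent_single [Finite K] (O : Subgroup K) [O.Normal] (hO : Odd (Nat.card O))
    {v : K} (hv : v * v = 1) :
    Nat.card ↥(centralizer ({v} : Set K)) =
      Nat.card ↥(centralizer ({(v : K ⧸ O)} : Set (K ⧸ O))) *
        Nat.card ↥(O ⊓ centralizer ({v} : Set K)) := by
  have := (card_cent_quot O hO ⊤ (mem_top v) hv).1
  rwa [top_inf_eq, map_top_of_surjective _ (QuotientGroup.mk'_surjective O), top_inf_eq] at this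

theorem card_cent_pair [Finite K] (O : Subgroup K) [O.Normal] (hO : Odd (Nat.card O))
    {z v : K} (hz : z * z = 1) (hv : v * v = 1) (hzv : z * v = v * z) :
    Nat.card ↥(centralizer ({z} : Set K) ⊓ centralizer ({v} : Set K)) =
      Nat.card ↥(centralizer ({(z : K ⧸ O)} : Set (K ⧸ O)) ⊓
          centralizer ({(v : K ⧸ O)} : Set (K ⧸ O))) *
        Nat.card ↥(O ⊓ (centralizer ({z} : Set K) ⊓ centralizer ({v} : Set K))) := by
  have h1 := (card_cent_quot O hO ⊤ (mem_top z) hz).2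
  rw [top_inf_eq, map_top_of_surjective _ (QuotientGroup.mk'_surjective O), top_inf_eq] at h1
  have h2 := (card_cent_quot O hO (centralizer ({z} : Set K))
    (mem_centralizer_singleton_iff.2 hzv.symm) hv).1
  rwa [h1] at h2

theorem card_inf_cent_conj (O : Subgroup K) [O.Normal] (g z : K) :
    Nat.card ↥(O ⊓ centralizer ({g * z * g⁻¹} : Set K)) =
      Nat.card ↥(O ⊓ centralizer ({z} : Set K)) := by
  have e : (O ⊓ centralizer ({z} : Set K)).map (MulAut.conj g).toMonoidHom =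
      O ⊓ centralizer ({g * z * g⁻¹} : Set K) := by
    ext x
    constructor
    · rintro ⟨y, ⟨hy, hyz⟩, rfl⟩
      refine ⟨(inferInstance : O.Normal).conj_mem y hy g, mem_centralizer_singleton_iff.2 ?_⟩
      show g * y * g⁻¹ * (g * z * g⁻¹) = g * z * g⁻¹ * (g * y * g⁻¹)
      calc g * y * g⁻¹ * (g * z * g⁻¹) = g * (y * z) * g⁻¹ := by group
        _ = _ := by rw [mem_centralizer_singleton_iff.1 hyz]; group
    · rintro ⟨hx, hxz⟩
      refine ⟨g⁻¹ * x * g, ⟨?_, mem_centralizer_singleton_iff.2 ?_⟩, ?_⟩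
      · simpa using (inferInstance : O.Normal).conj_mem x hx g⁻¹
      · calc g⁻¹ * x * g * z = g⁻¹ * (x * (g * z * g⁻¹)) * g := by group
          _ = z * (g⁻¹ * x * g) := by rw [mem_centralizer_singleton_iff.1 hxz]; group
      · show g * (g⁻¹ * x * g) * g⁻¹ = x
        group
  rw [← e, card_map_of_injective (MulAut.conj g).injective]

theorem afour_data : ∀ g : alternatingGroup (Fin 4), g * g = 1 → g ≠ 1 →
    (Finset.univ.filter fun h : alternatingGroup (Fin 4) => h * g = g * h).card = 4 := by decide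

theorem afour_other : ∀ g : alternatingGroup (Fin 4), g * g = 1 → g ≠ 1 →
    ∃ h : alternatingGroup (Fin 4), h * h = 1 ∧ h ≠ 1 ∧ g ≠ h := by decide

theorem card_ringEquiv_five {F : Type*} [Field F] [Fintype F] (hF : Fintype.card F = 5)
    (f : F ≃+* F) : f = 1 := by
  haveI : Fact (Nat.Prime 5) := ⟨by norm_num⟩
  let e := ZMod.ringEquivOfPrime F (by norm_num) hF
  refine RingEquiv.ext fun x => ?_
  have h := Subsingleton.elim (f.toRingHom.comp e.toRingHom) e.toRingHom
  obtain ⟨a, rfl⟩ := e.surjective x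
  exact RingHom.congr_fun h a

theorem card_le_pgl_five {Y : Type u} [Group Y] [Finite Y] {F : Type} [Field F] [Fintype F]
    {L : Subgroup Y} (hP : CfsgLib.GW.Field.Psl L F) (hF : Fintype.card F = 5) :
    Nat.card Y ≤ 120 := by
  have hfp : ∀ y : Y, hP.fp y = 1 := fun y => card_ringEquiv_five hF _
  refine le_of_le_of_eq (Nat.card_le_card_of_injective (fun y => (hP.exists_rep (hfp y)).choose)
    fun y y' e => hP.phi_injective ?_) (show Nat.card (Matrix.ProjGenLinGroup (Fin 2) F) = 120 by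
      rw [CfsgLib.PSL2.card_pgl, hF])
  rw [(hP.exists_rep (hfp y)).choose_spec, (hP.exists_rep (hfp y')).choose_spec]
  exact congrArg _ e

/-- Two kinds of quotient by the odd core. -/
theorem shape [Finite K] (H : Subgroup K) (e : H ≃* alternatingGroup (Fin 4))
    (h8 : ¬ 8 ∣ Nat.card K) {z v : K} (hz : z ∈ H) (hv : v ∈ H) (hz2 : orderOf z = 2)
    (hv2 : orderOf v = 2) (hne : z ≠ v) :
    let O := Cfsg.oddCore K
    let c := Nat.card ↥(O ⊓ (centralizer ({z} : Set K) ⊓ centralizer ({v} : Set K)))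
    let d := Nat.card ↥(O ⊓ centralizer ({z} : Set K))
    Odd (Nat.card O) ∧ Nat.card O * c ^ 2 = d ^ 3 ∧ c ∣ d ∧
    ∃ a b y : ℕ, Nat.card ↥(centralizer ({z} : Set K)) = a * d ∧
      Nat.card ↥(centralizer ({z} : Set K) ⊓ centralizer ({v} : Set K)) = b * c ∧
      Nat.card K = y * Nat.card O ∧
      ((y = 12 ∧ a = 4 ∧ b = 4) ∨
        ∃ (q : ℕ) (δ : ℤ), Odd q ∧ 5 ≤ q ∧ (δ = 1 ∨ δ = -1) ∧
          ((q : ℤ) - δ) * b = 4 * a ∧ 2 * (y : ℤ) = a * ((q : ℤ) * ((q : ℤ) + δ)) ∧
          (q = 5 → y ≤ 120)) := by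
  intro O c d
  classical
  haveI : Fact (Nat.Prime 2) := ⟨Nat.prime_two⟩
  obtain ⟨hz1, hzz⟩ := CfsgLib.Involutions.orderOf_eq_two_iff_mul.1 hz2
  obtain ⟨hv1, hvv⟩ := CfsgLib.Involutions.orderOf_eq_two_iff_mul.1 hv2
  have hzv : z * v = v * z := by
    have := (afour_comm (e ⟨z, hz⟩) (e ⟨v, hv⟩) ((afour_inj e hz).1 hzz) ((afour_inj e hv).1 hvv)).1
    rw [← map_mul, ← map_mul, e.injective.eq_iff] at this
    exact congrArg Subtype.val this
  obtain ⟨g, hgH, hgv, g', hg'H, hg'zv⟩ :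
      ∃ g ∈ H, g * z * g⁻¹ = v ∧ ∃ g' ∈ H, g' * z * g'⁻¹ = z * v := by
    have key : ∀ w, ∀ hw : w ∈ H, w * w = 1 → w ≠ 1 → ∃ k ∈ H, k * z * k⁻¹ = w := by
      intro w hw hww hw1
      obtain ⟨k, hk⟩ := afour_fuse (e ⟨z, hz⟩) (e ⟨w, hw⟩) ((afour_inj e hz).1 hzz)
        ((afour_inj e hw).1 hww)
        (fun h => hz1 (congrArg Subtype.val (e.injective (h.trans (map_one e).symm))))
        (fun h => hw1 (congrArg Subtype.val (e.injective (h.trans (map_one e).symm))))
      refine ⟨(e.symm k : H), SetLike.coe_mem _, ?_⟩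
      have : e.symm k * ⟨z, hz⟩ * (e.symm k)⁻¹ = ⟨w, hw⟩ := by
        apply e.injective
        rw [map_mul, map_mul, map_inv, e.apply_symm_apply, hk]
      exact congrArg Subtype.val this
    obtain ⟨g, h1, h2⟩ := key v hv hvv hv1
    refine ⟨g, h1, h2, key (z * v) (mul_mem hz hv) ?_ ?_⟩
    · calc z * v * (z * v) = z * (v * z) * v := by group
        _ = z * z * (v * v) := by rw [← hzv]; group
        _ = 1 := by rw [hzz, hvv, one_mul]
    · exact fun h => hne (by rw [← mul_eq_one_iff_inv_eq.1 h, inv_eq_of_mul_eq_one_right hzz])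
  have hO : Odd (Nat.card O) := by
    rw [← Nat.not_even_iff_odd, even_iff_two_dvd]
    exact CfsgLib.PCore.not_dvd_card_pPrimeCore
  -- the order formula
  have hn : ∀ w : K, w * w = 1 → ∀ x ∈ O, w * x * w ∈ O := fun w hw x hx => by
    have := (inferInstance : O.Normal).conj_mem x hx w
    rwa [inv_eq_of_mul_eq_one_right hw] at this
  have hformula : Nat.card O * c ^ 2 = d ^ 3 := by
    have h := CfsgLib.GW.CaseOne.card_four hO hzz hvv hzv (hn z hzz) (hn v hvv)
    rw [inf_assoc] at h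
    have h1 := card_inf_cent_conj O g z
    have h2 := card_inf_cent_conj O g' z
    rw [hgv] at h1
    rw [hg'zv] at h2
    rw [h1, h2] at h
    rw [h]
    ring
  refine ⟨hO, hformula, card_dvd_of_le (inf_le_inf_left O inf_le_left), ?_⟩
  -- the quotient
  let Y := K ⧸ O
  let π : K →* Y := QuotientGroup.mk' O
  have hnot : ∀ w : K, orderOf w = 2 → π w ≠ 1 := fun w hw h => by
    have hm : w ∈ O := (QuotientGroup.eq_one_iff w).1 h
    have h1 := orderOf_dvd_natCard (⟨w, hm⟩ : O)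
    rw [Subgroup.orderOf_mk, hw] at h1
    exact Nat.not_even_iff_odd.2 hO (even_iff_two_dvd.2 h1)
  have hπz := hnot z hz2
  have hπv := hnot v hv2
  have hzz' : π z * π z = 1 := by rw [← map_mul, hzz, map_one]
  have hvv' : π v * π v = 1 := by rw [← map_mul, hvv, map_one]
  have hzv' : π z * π v = π v * π z := by rw [← map_mul, ← map_mul, hzv]
  have hne' : π z ≠ π v := fun h => by
    refine hnot (z * v) (CfsgLib.Involutions.orderOf_eq_two_iff_mul.2 ⟨fun e => hne (by
      rw [← mul_eq_one_iff_inv_eq.1 e, inv_eq_of_mul_eq_one_right hzz]), ?_⟩)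
      (by rw [map_mul, h, hvv'])
    calc z * v * (z * v) = z * (v * z) * v := by group
      _ = z * z * (v * v) := by rw [← hzv]; group
      _ = 1 := by rw [hzz, hvv, one_mul]
  have hcardK : Nat.card K = Nat.card Y * Nat.card O := card_eq_card_quotient_mul_card_subgroup O
  have h8Y : ¬ 8 ∣ Nat.card Y := fun h => h8 (h.trans (Dvd.intro _ hcardK.symm))
  refine ⟨Nat.card ↥(centralizer ({π z} : Set Y)),
    Nat.card ↥(centralizer ({π z} : Set Y) ⊓ centralizer ({π v} : Set Y)), Nat.card Y,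
    card_cent_single O hO hzz, card_cent_pair O hO hzz hvv hzv, hcardK, ?_⟩
  have hgood : CfsgLib.GW.Good K := by
    obtain ⟨S, hS⟩ := exists_sylow_equiv h8 hzz hvv hzv hz1 hv1 hne
    exact CfsgLib.GW.Main.good_of_simple CfsgLib.GW.Done.isPSLOrA7 K S 2 (Or.inl hS)
  rcases (hgood : CfsgLib.GW.Top Y) with hp | ⟨⟨f⟩⟩ | ⟨⟨f⟩⟩ | ⟨L, hLn, hLc, hL⟩
  · -- a 2-group is abelian of order four
    exfalso
    have hall : ∀ y : Y, y * π z = π z * y := by
      intro y
      rcases mem_two_group h8Y hzz' hvv' hzv' hπz hπv hne' (hp.of_equiv topEquiv.symm)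
        (mem_top _) (mem_top _) (mem_top y) with rfl | rfl | rfl | rfl
      · simp
      · rfl
      · exact hzv'.symm
      · rw [mul_assoc, ← hzv']
    apply hne'
    rw [← hgv, map_mul, map_mul, map_inv, hall, mul_inv_cancel_right]
  · left
    have h12 : Nat.card Y = 12 := by
      rw [Nat.card_congr f.toEquiv, Nat.card_eq_fintype_card]; rfl
    have hcz : Nat.card ↥(centralizer ({π z} : Set Y)) = 4 := by
      have hf : f (π z) * f (π z) = 1 := by rw [← map_mul, hzz', map_one]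
      have hf1 : f (π z) ≠ 1 := fun h => hπz (f.injective (h.trans (map_one f).symm))
      rw [← afour_data (f (π z)) hf hf1, ← Fintype.card_subtype, ← Nat.card_eq_fintype_card]
      refine Nat.card_congr (Equiv.subtypeEquiv f.toEquiv fun y => ?_)
      rw [mem_centralizer_singleton_iff]
      show y * π z = π z * y ↔ f y * f (π z) = f (π z) * f y
      rw [← map_mul, ← map_mul, f.injective.eq_iff]
    refine ⟨h12, hcz, ?_⟩
    rw [← hcz, inf_eq_left.2 ?_]
    intro y hy
    have hzm : π z ∈ centralizer ({π z} : Set Y) := mem_centralizer_singleton_iff.2 rfl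
    rcases four_cases hcz hzm (mem_centralizer_singleton_iff.2 hzv'.symm) hzz' hvv' hπz hπv hne'
      hy with rfl | rfl | rfl | rfl
    · exact one_mem _
    · exact mem_centralizer_singleton_iff.2 hzv'
    · exact mem_centralizer_singleton_iff.2 rfl
    · exact mul_mem (mem_centralizer_singleton_iff.2 hzv') (mem_centralizer_singleton_iff.2 rfl)
  · exfalso
    apply h8Y
    rw [Nat.card_congr f.toEquiv, Nat.card_perm, Nat.card_fin]
    exact ⟨3, rfl⟩
  right
  haveI := hLn
  rcases hL with ⟨F, i1, i2, hodd, h3, hiso⟩ | ⟨⟨f⟩⟩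
  swap
  · exfalso
    apply h8Y
    refine Dvd.dvd.trans ?_ (card_subgroup_dvd_card L)
    rw [Nat.card_congr f.toEquiv, nat_card_alternatingGroup, Nat.card_fin]
    decide
  have hP : CfsgLib.GW.Field.Psl L F := by
    refine ⟨hLn, hLc, hiso, hodd, h3, fun T => ?_⟩
    obtain ⟨S', ⟨f'⟩⟩ := exists_sylow_equiv h8Y hzz' hvv' hzv' hπz hπv hne'
    exact ⟨2, ⟨(Sylow.equiv T S').trans f'⟩⟩
  -- involutions lie in `L`
  have hinL : ∀ w : Y, w * w = 1 → w ∈ L := by
    intro w hw
    refine mem_of_sq_mem_of_odd ?_ (hw ▸ one_mem L)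
    obtain ⟨a₁, b₁, ha₁, hb₁, hao, hbo, hab, hcomm⟩ := hP.exists_four
    rw [CfsgLib.Involutions.orderOf_eq_two_iff_mul] at hao hbo
    have h4 : 4 ∣ Nat.card L := (four_dvd h8Y hao.2 hbo.2 hcomm hao.1 hbo.1 hab).trans
      (card_dvd_of_le ((closure_le L).2 (Set.insert_subset ha₁ (Set.singleton_subset_iff.2 hb₁))))
    rw [← Nat.not_even_iff_odd, even_iff_two_dvd]
    intro h2
    exact h8Y (L.card_mul_index ▸ Nat.mul_dvd_mul h4 h2)
  have hzL := hinL _ hzz'
  have hvL := hinL _ hvv'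
  have hoz : orderOf (π z) = 2 := CfsgLib.Involutions.orderOf_eq_two_iff_mul.2 ⟨hπz, hzz'⟩
  have hov : orderOf (π v) = 2 := CfsgLib.Involutions.orderOf_eq_two_iff_mul.2 ⟨hπv, hvv'⟩
  refine ⟨Fintype.card F, CfsgLib.GW.FieldModel.eps (Fintype.card F), hodd, ?_,
    CfsgLib.GW.FieldModel.eps_cases _, ?_, hP.two_mul_class_inner hoz hzL, fun h => card_le_pgl_five hP h⟩
  · have := Nat.odd_iff.1 hodd
    omega
  have hfr := card_frattini h8Y hzz' hvv' hzv' hπz hπv hne' L hzL hvL
  have hlz := hP.card_centralizer hoz hzL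
  have hfour : Nat.card ↥(L ⊓ (centralizer ({π z} : Set Y) ⊓ centralizer ({π v} : Set Y))) = 4 := by
    refine card_two_group h8Y hzz' hvv' hzv' hπz hπv hne' ?_ ⟨hzL, ?_⟩ ⟨hvL, ?_⟩
    · rintro ⟨x, hxL, hxz, hxv⟩
      obtain ⟨a₂, m, hm, ho⟩ := Nat.exists_eq_pow_mul_and_not_dvd (orderOf_pos x).ne' 2 (by norm_num)
      refine ⟨a₂, Subtype.ext ?_⟩
      show x ^ 2 ^ a₂ = 1
      refine hP.eq_one_of_mem hoz hov hne' hzv'
        ((show Commute x (π z) from mem_centralizer_singleton_iff.1 hxz).pow_left _).eq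
        ((show Commute x (π v) from mem_centralizer_singleton_iff.1 hxv).pow_left _).eq ?_
        (pow_mem hxL _)
      rw [orderOf_pow' _ (by positivity), ho, Nat.gcd_mul_right_left,
        Nat.mul_div_cancel_left _ (by positivity)]
      exact Nat.odd_iff.2 (Nat.two_dvd_ne_zero.1 hm)
    · exact ⟨mem_centralizer_singleton_iff.2 rfl, mem_centralizer_singleton_iff.2 hzv'⟩
    · exact ⟨mem_centralizer_singleton_iff.2 hzv'.symm, mem_centralizer_singleton_iff.2 rfl⟩
  rw [hfour] at hfr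
  have hfr' := congrArg (Nat.cast : ℕ → ℤ) hfr
  push_cast at hfr'
  rw [hlz] at hfr'
  rw [hfr', mul_comm]

/-- The arithmetic of a Sylow four-group inside `A₄`. -/
theorem arith [Finite K] (H : Subgroup K) (e : H ≃* alternatingGroup (Fin 4))
    (h8 : ¬ 8 ∣ Nat.card K) {z v : K} (hz : z ∈ H) (hv : v ∈ H) (hz2 : orderOf z = 2)
    (hv2 : orderOf v = 2) (hne : z ≠ v) :
    Nat.card K * Nat.card ↥(centralizer ({z} : Set K) ⊓ centralizer {v}) ^ 2 =
        3 * Nat.card ↥(centralizer ({z} : Set K)) ^ 3 ∨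
      ∃ (u q : ℕ) (δ : ℤ), Odd u ∧ 5 ≤ q ∧ Odd q ∧ (δ = 1 ∨ δ = -1) ∧
        (u : ℤ) * ((q : ℤ) - δ) * Nat.card ↥(centralizer ({z} : Set K) ⊓ centralizer {v}) =
          4 * Nat.card ↥(centralizer ({z} : Set K)) ∧
        2 * (Nat.card K : ℤ) =
          Nat.card ↥(centralizer ({z} : Set K)) * u ^ 2 * q * (q + δ) := by
  obtain ⟨hodd, hform, ⟨u, hu⟩, a, b, y, ha, hb, hy, hcase⟩ := shape H e h8 hz hv hz2 hv2 hne
  generalize Nat.card ↥(Cfsg.oddCore K ⊓ centralizer ({z} : Set K)) = d at *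
  generalize hc : Nat.card ↥(Cfsg.oddCore K ⊓ (centralizer ({z} : Set K) ⊓ centralizer ({v} : Set K))) = c
    at *
  generalize Nat.card ↥(Cfsg.oddCore K) = o at *
  have hc0 : c ≠ 0 := hc ▸ Nat.card_pos.ne'
  subst hu
  have ho : o = u ^ 3 * c := by
    refine Nat.eq_of_mul_eq_mul_right (pow_pos (Nat.pos_of_ne_zero hc0) 2) (hform.trans ?_)
    ring
  have huodd : Odd u := by
    have h : Odd (u ^ 3 * c) := ho ▸ hodd
    exact (Nat.odd_pow_iff (by norm_num)).1 (Nat.Odd.of_mul_left h)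
  rcases hcase with ⟨rfl, rfl, rfl⟩ | ⟨q, δ, hq, hq5, hδ, h1, h2, -⟩
  · left
    rw [hy, ha, hb, ho]
    ring
  · refine Or.inr ⟨u, q, δ, huodd, hq5, hq, hδ, ?_, ?_⟩
    · rw [ha, hb]
      push_cast
      linear_combination ((u : ℤ) * c) * h1
    · rw [hy, ha, ho]
      push_cast
      linear_combination ((u : ℤ) ^ 3 * c) * h2

set_option maxHeartbeats 1000000 in
/-- A group of order 180 with `A₄` and `|C(z)| = 12` has a central element of order three. -/
theorem exists_central_three [Finite K] (H : Subgroup K) (e : H ≃* alternatingGroup (Fin 4))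
    (hK : Nat.card K = 180) {z : K} (hz : z ∈ H) (hz2 : orderOf z = 2)
    (hc : Nat.card ↥(centralizer ({z} : Set K)) = 12) :
    ∃ w : K, orderOf w = 3 ∧ w ∈ center K := by
  haveI : Fact (Nat.Prime 3) := ⟨by norm_num⟩
  obtain ⟨hz1, hzz⟩ := CfsgLib.Involutions.orderOf_eq_two_iff_mul.1 hz2
  obtain ⟨v, hv, hv2, hne⟩ : ∃ v ∈ H, orderOf v = 2 ∧ z ≠ v := by
    obtain ⟨k, hkk, hk1, hk⟩ := afour_other (e ⟨z, hz⟩) ((afour_inj e hz).1 hzz)
      (fun h => hz1 (congrArg Subtype.val (e.injective (h.trans (map_one e).symm))))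
    refine ⟨(e.symm k : H), SetLike.coe_mem _, ?_, ?_⟩
    · rw [Subgroup.orderOf_coe, MulEquiv.orderOf_eq,
        CfsgLib.Involutions.orderOf_eq_two_iff_mul]
      exact ⟨hk1, hkk⟩
    · intro h
      apply hk
      rw [← e.apply_symm_apply k]
      exact congrArg e (Subtype.ext h)
  have h8 : ¬ 8 ∣ Nat.card K := by rw [hK]; decide
  obtain ⟨hodd, hform, ⟨u, hu⟩, a, b, y, ha, hb, hy, hcase⟩ := shape H e h8 hz hv hz2 hv2 hne
  set O := Cfsg.oddCore K with hOdef
  set d := Nat.card ↥(O ⊓ centralizer ({z} : Set K)) with hd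
  set c := Nat.card ↥(O ⊓ (centralizer ({z} : Set K) ⊓ centralizer ({v} : Set K))) with hcdef
  have hc0 : 0 < c := Nat.card_pos
  have ho : Nat.card O = u ^ 3 * c := by
    refine Nat.eq_of_mul_eq_mul_right (pow_pos hc0 2) ?_
    rw [hform, hu]
    ring
  rw [hK, ho] at hy
  rw [hc, hu] at ha
  obtain ⟨hu1, hc3⟩ : u = 1 ∧ c = 3 := by
    rcases hcase with ⟨rfl, rfl, rfl⟩ | ⟨q, δ, hq, hq5, hδ, h1, h2, h5⟩
    · exfalso
      have hu3 : u ≤ 3 := Nat.le_of_dvd (by norm_num) ⟨c, by linarith⟩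
      interval_cases u <;> omega
    · have e2 : (360 : ℤ) = 12 * ((u : ℤ) ^ 2 * ((q : ℤ) * ((q : ℤ) + δ))) := by
        have hy' : (180 : ℤ) = y * ((u : ℤ) ^ 3 * c) := by exact_mod_cast hy
        have ha' : (12 : ℤ) = a * (c * u) := by exact_mod_cast ha
        linear_combination (2 : ℤ) * hy' + (u : ℤ) ^ 3 * c * h2 -
          (u : ℤ) ^ 2 * ((q : ℤ) * ((q : ℤ) + δ)) * ha'
      have hu0 : 0 < u := by
        rcases Nat.eq_zero_or_pos u with rfl | h
        · simp at hy
        · exact h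
      have hq' : (5 : ℤ) ≤ q := by exact_mod_cast hq5
      have hqq : (20 : ℤ) ≤ (q : ℤ) * ((q : ℤ) + δ) := by rcases hδ with rfl | rfl <;> nlinarith
      obtain rfl : u = 1 := by
        by_contra h
        have h22 : (2 : ℤ) ≤ u := by exact_mod_cast (show 2 ≤ u by omega)
        nlinarith
      have hq30 : (q : ℤ) * ((q : ℤ) + δ) = 30 := by push_cast at e2; linarith
      obtain rfl : q = 5 := by
        have hq6 : q ≤ 6 := by
          by_contra h
          have h7 : (7 : ℤ) ≤ q := by exact_mod_cast (show 7 ≤ q by omega)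
          rcases hδ with rfl | rfl <;> nlinarith
        have := Nat.odd_iff.1 hq
        omega
      obtain rfl : δ = 1 := by
        rcases hδ with rfl | rfl
        · rfl
        · norm_num at hq30
      have hy120 := h5 rfl
      refine ⟨rfl, ?_⟩
      have hac : a * c = 12 := by rw [mul_one] at ha; exact ha.symm
      have hb4 : a = b := by push_cast at h1; omega
      have hy15 : y = 15 * a := by push_cast at h2; omega
      have ha8 : a ≤ 8 := by omega
      have hcle : c ≤ 12 := Nat.le_of_dvd (by norm_num) (Dvd.intro_left a hac)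
      have hcodd : c % 2 = 1 := Nat.odd_iff.1 (by rw [ho] at hodd; simpa using hodd)
      interval_cases c <;> omega
  subst hu1
  rw [hc3] at ho hu
  rw [one_pow, one_mul] at ho
  have hdO : d = 3 := by rw [hu, mul_one]
  have hcz : O ⊓ centralizer ({z} : Set K) = O :=
    eq_of_le_of_card_ge inf_le_left (by rw [ho, ← hd, hdO])
  have hczv : O ⊓ (centralizer ({z} : Set K) ⊓ centralizer ({v} : Set K)) = O :=
    eq_of_le_of_card_ge inf_le_left (by rw [ho, ← hcdef, hc3])
  obtain ⟨w, hw⟩ := exists_prime_orderOf_dvd_card' (G := O) 3 (by rw [ho])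
  have hw' : orderOf (w : K) = 3 := by rw [Subgroup.orderOf_coe, hw]
  refine ⟨w, hw', ?_⟩
  have hzO : z ∈ centralizer ({(w : K)} : Set K) := by
    have := (hcz.symm ▸ w.2 : (w : K) ∈ O ⊓ centralizer ({z} : Set K)).2
    exact mem_centralizer_singleton_iff.2 (mem_centralizer_singleton_iff.1 this).symm
  have hvO : v ∈ centralizer ({(w : K)} : Set K) := by
    have := (hczv.symm ▸ w.2 : (w : K) ∈ O ⊓ (centralizer ({z} : Set K) ⊓ centralizer ({v} : Set K))).2.2
    exact mem_centralizer_singleton_iff.2 (mem_centralizer_singleton_iff.1 this).symm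
  have hcases : ∀ g : K, g * (w : K) * g⁻¹ = w ∨ g * (w : K) * g⁻¹ = (w : K)⁻¹ := by
    intro g
    have hmem := (inferInstance : O.Normal).conj_mem _ w.2 g
    have hgen : zpowers (w : K) = O :=
      eq_of_le_of_card_ge (zpowers_le.2 w.2) (by rw [Nat.card_zpowers, hw', ho])
    obtain ⟨k, hk⟩ := mem_zpowers_iff.1 (hgen.ge hmem)
    have h3 : (w : K) ^ (3 : ℤ) = 1 := by
      rw [show (3 : ℤ) = ((3 : ℕ) : ℤ) from rfl, zpow_natCast, ← hw', pow_orderOf_eq_one]
    rw [← hk, show k = 3 * (k / 3) + k % 3 by omega, zpow_add, zpow_mul, h3, one_zpow, one_mul]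
    have : k % 3 = 0 ∨ k % 3 = 1 ∨ k % 3 = 2 := by omega
    rcases this with e | e | e <;> rw [e]
    · exfalso
      have hk1 : g * (w : K) * g⁻¹ = 1 := by
        rw [← hk, show k = 3 * (k / 3) by omega, zpow_mul, h3, one_zpow]
      rw [conj_eq_one_iff.1 hk1, orderOf_one] at hw'
      norm_num at hw'
    · exact Or.inl (zpow_one _)
    · exact Or.inr (eq_inv_of_mul_eq_one_left (by rw [← zpow_add_one]; exact h3))
  set C := centralizer ({(w : K)} : Set K) with hC
  have hmemC : ∀ g : K, g ∈ C ↔ g * (w : K) * g⁻¹ = w := fun g => by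
    rw [hC, mem_centralizer_singleton_iff, mul_inv_eq_iff_eq_mul]
  haveI hCn : C.Normal := ⟨fun n hn g => by
    rw [hmemC] at hn ⊢
    rcases hcases g⁻¹ with e | e
    · calc g * n * g⁻¹ * w * (g * n * g⁻¹)⁻¹
          = g * (n * (g⁻¹ * w * g⁻¹⁻¹) * n⁻¹) * g⁻¹ := by group
        _ = g * (g⁻¹ * w * g⁻¹⁻¹) * g⁻¹ := by rw [e, hn]
        _ = w := by group
    · calc g * n * g⁻¹ * w * (g * n * g⁻¹)⁻¹
          = g * (n * (g⁻¹ * w * g⁻¹⁻¹) * n⁻¹) * g⁻¹ := by group
        _ = g * (g⁻¹ * w * g⁻¹⁻¹) * g⁻¹ := by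
          rw [e, show n * (w : K)⁻¹ * n⁻¹ = (n * w * n⁻¹)⁻¹ by group, hn]
        _ = w := by group⟩
  have hCodd : Odd C.index := by
    have h4 : 4 ∣ Nat.card C := by
      obtain ⟨hv1, hvv⟩ := CfsgLib.Involutions.orderOf_eq_two_iff_mul.1 hv2
      have hzv : z * v = v * z := by
        have := (afour_comm (e ⟨z, hz⟩) (e ⟨v, hv⟩) ((afour_inj e hz).1 hzz)
          ((afour_inj e hv).1 hvv)).1
        rw [← map_mul, ← map_mul, e.injective.eq_iff] at this
        exact congrArg Subtype.val this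
      exact (four_dvd h8 hzz hvv hzv hz1 hv1 hne).trans
        (card_dvd_of_le ((closure_le C).2 (Set.insert_subset hzO (Set.singleton_subset_iff.2 hvO))))
    rw [← Nat.not_even_iff_odd, even_iff_two_dvd]
    intro h2
    exact h8 (C.card_mul_index ▸ Nat.mul_dvd_mul h4 h2)
  refine mem_center_iff.2 fun g => ?_
  refine mem_centralizer_singleton_iff.1 (mem_of_sq_mem_of_odd hCodd ((hmemC _).2 ?_) : g ∈ C)
  rcases hcases g with e | e
  · calc g * g * w * (g * g)⁻¹ = g * (g * w * g⁻¹) * g⁻¹ := by group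
      _ = w := by rw [e, e]
  · calc g * g * w * (g * g)⁻¹ = g * (g * w * g⁻¹) * g⁻¹ := by group
      _ = (g * w * g⁻¹)⁻¹ := by
        rw [show (g * (w : K) * g⁻¹)⁻¹ = g * (w : K)⁻¹ * g⁻¹ by group, e]
      _ = w := by rw [e, inv_inv]

end CfsgLib.TwoTransAFour.FourLocal
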