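import Cfsg.Agent.Lib.TwoTransAFour.Special
import Cfsg.Agent.Lib.PermGroup.Basic
import Cfsg.Agent.Lib.Structure.SolvableRadical
import Cfsg.Agent.Lib.PF.OddOrder
import Cfsg.Agent.Lib.PCore.Basic
import Cfsg.Agent.Lib.Involutions.BrauerSuzuki

/-!
An odd number of points: parities, trivial core unless the degree is a prime power, and the case `j = 3`
through Glauberman's theorem.
-/

set_option autoImplicit false
set_option linter.unusedSectionVars false
set_option linter.style.haveILetI false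

namespace CfsgLib.TwoTransAFour

open MulAction Subgroup

universe u

/-- A faithful 2-transitive group with a non-trivial solvable normal subgroup has prime power degree. -/
theorem isPrimePow_of_solvable_normal {X : Type u} [Group X] [Finite X] {α : Type*} [Finite α]
    [MulAction X α] [FaithfulSMul X α] (h2 : IsMultiplyPretransitive X α 2) (hα : 2 ≤ Nat.card α)
    (N : Subgroup X) [hN : N.Normal] (hne : N ≠ ⊥) (hs : Group.IsSolvable N) :
    IsPrimePow (Nat.card α) := by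
  obtain ⟨V, hV, hle⟩ := CfsgLib.Structure.exists_isMinNormal_le hN hne
  obtain ⟨p, hp, hab, hexp⟩ := CfsgLib.Structure.isElementaryAbelian_of_isMinNormal_of_isSolvable hV
    (CfsgLib.Structure.isSolvable_of_le hle hs)
  haveI := hV.normal
  haveI : IsPreprimitive X α := isPreprimitive_of_is_two_pretransitive h2
  haveI := CfsgLib.PermGroup.isPretransitive_of_normal (X := α) hV.ne_bot
  haveI : Nonempty α := Finite.card_pos_iff.1 (by omega)
  obtain ⟨a⟩ := ‹Nonempty α›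
  have hreg : ∀ x : α, stabilizer V x = ⊥ := fun x => by
    rw [eq_bot_iff]
    intro v hv
    rw [Subgroup.mem_bot]
    refine Subtype.ext (eq_of_smul_eq_smul (α := α) fun y => ?_)
    obtain ⟨t, rfl⟩ := MulAction.exists_smul_eq V x y
    show (v : X) • (t : X) • x = (1 : X) • (t : X) • x
    rw [one_smul, ← mul_smul, show (v : X) * t = t * v from congrArg Subtype.val (hab.is_comm.comm v t),
      mul_smul, show (v : X) • x = x from hv]
  haveI := Fact.mk hp
  obtain ⟨k, hk⟩ := IsPGroup.iff_card.1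
    (fun v => ⟨1, by rw [pow_one]; exact Subtype.ext (by simpa using hexp v v.2)⟩ : IsPGroup p V)
  rw [CfsgLib.PermGroup.card_eq_of_regular hreg a] at hk
  refine (isPrimePow_nat_iff _).2 ⟨p, k, hp, Nat.pos_of_ne_zero fun e => ?_, hk.symm⟩
  rw [e, pow_zero] at hk
  omega

/-- Trivial core unless the degree is a prime power. -/
theorem oddCore_eq_bot_of_degree {X : Type u} [Group X] [Finite X] {α : Type*} [Finite α]
    [MulAction X α] [FaithfulSMul X α] (h2 : IsMultiplyPretransitive X α 2) (hα : 2 ≤ Nat.card α)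
    (hpp : ¬ IsPrimePow (Nat.card α)) : Cfsg.oddCore X = ⊥ := by
  by_contra hne
  haveI : (Cfsg.oddCore X).Normal := inferInstance
  refine hpp (isPrimePow_of_solvable_normal h2 hα _ hne (CfsgLib.PF.oddSolvable _ ?_))
  exact Nat.coprime_two_right.1 CfsgLib.PCore.pPrimeCore_coprime

theorem not_isPrimePow_mul {a b : ℕ} (ha : 2 ≤ a) (hb : 2 ≤ b) (hab : a.Coprime b) :
    ¬ IsPrimePow (a * b) := by
  rw [isPrimePow_nat_iff]
  rintro ⟨p, k, hp, -, h⟩
  obtain ⟨i, -, rfl⟩ := (Nat.dvd_prime_pow hp).1 (h ▸ dvd_mul_right a b)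
  obtain ⟨l, -, rfl⟩ := (Nat.dvd_prime_pow hp).1 (h ▸ dvd_mul_left b (p ^ i))
  rcases Nat.eq_zero_or_pos i with rfl | hi
  · simp at ha
  rcases Nat.eq_zero_or_pos l with rfl | hl
  · simp at hb
  rw [Nat.coprime_pow_left_iff hi, Nat.coprime_pow_right_iff hl, Nat.coprime_self] at hab
  exact hp.one_lt.ne' hab

variable {G : Type u} [Group G] [Finite G] {Ω : Type*} [Finite Ω] [MulAction G Ω]

namespace Par

variable (P : Par G Ω)

theorem odd_f {a b : Ω} (hab : a ≠ b) (hn : Odd P.n) : Odd P.f := by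
  obtain ⟨z, hz, hz1⟩ := P.hyp.exists_invol hab
  have h1 := ncard_moved (Set.univ : Set Ω) z
  have h2 : {x ∈ (Set.univ : Set Ω) | z • x = x} = fix z := by ext; simp
  rw [h2, P.hf z (P.hyp.I0_of_mem hab hz hz1), ← P.n_eq_univ] at h1
  obtain ⟨r, hr⟩ := even_ncard_moved (Set.univ : Set Ω) hz.2 fun _ _ => Set.mem_univ _
  obtain ⟨r', hr'⟩ := hn
  exact ⟨r' - r, by omega⟩

theorem odd_s {j : ℕ} (K : P.Kind j) {a b : Ω} (hab : a ≠ b) (hn : Odd P.n) : Odd P.s := by
  have hf := P.odd_f hab hn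
  rcases K.f_cases hab with h | ⟨-, h⟩ | ⟨-, h⟩
  · rwa [← h]
  · rw [h] at hf
    exact (Nat.odd_mul.1 hf).1
  · by_contra hse
    rw [Nat.not_odd_iff_even] at hse
    obtain ⟨r, hr⟩ := hse
    obtain ⟨r', hr'⟩ := hf
    omega

variable {P} {j : ℕ}

/-- `j = 3` and an odd number of points: the involution with a single fixed point is isolated. -/
theorem Kind.central_three (K : P.Kind j) (hj : j = 3) {a b : Ω} (hab : a ≠ b) (hn : Odd P.n) :
    ∃ J : G, orderOf J = 2 ∧ Subgroup.centralizer ({J} : Set G) ⊔ Cfsg.oddCore G = ⊤ := by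
  haveI : Nontrivial Ω := ⟨a, b, hab⟩
  haveI := P.hyp.pretransitive
  let I : Set G := {t | t * t = 1 ∧ t ≠ 1 ∧ ¬ P.hyp.I0 t}
  have hone : ∀ t ∈ I, {w ∈ (Set.univ : Set Ω) | t • w = w}.ncard = 1 := by
    intro t ht
    have h0 : {w ∈ (Set.univ : Set Ω) | t • w = w}.ncard ≤ 1 := by
      rw [Set.ncard_le_one]
      intro p hp q hq
      by_contra hne
      exact ht.2.2 ⟨ht.2.1, ht.1, p, q, hne, hp.2, hq.2⟩
    have h1 := ncard_moved (Set.univ : Set Ω) t
    obtain ⟨r, hr⟩ := even_ncard_moved (Set.univ : Set Ω) ht.1 fun _ _ => Set.mem_univ _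
    obtain ⟨r', hr'⟩ := hn
    rw [← P.n_eq_univ] at h1
    omega
  have hI : I.ncard * (P.n - 1) = P.n * (P.n - 1) * 1 := by
    rw [P.n_eq_univ, ← ncard_pairs (Set.univ : Set Ω)]
    refine double_count I (pairs Set.univ) (fun t p => t • p.1 = p.2) (fun t ht => ?_) fun p hp => ?_
    · rw [ncard_swapped (Set.univ : Set Ω) (t := t) fun _ _ => Set.mem_univ _]
      have h1 := ncard_moved (Set.univ : Set Ω) t
      rw [hone t ht] at h1
      omega
    · obtain ⟨J, hJ, hJ0, -, hu⟩ := K.exists_unique_J hj hp.2.2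
      rw [Set.ncard_eq_one]
      refine ⟨J, Set.eq_singleton_iff_unique_mem.2 ⟨⟨⟨hJ.1, ne_one_of_swap hp.2.2 hJ, hJ0⟩, hJ.2⟩, ?_⟩⟩
      rintro t ⟨ht, e⟩
      exact hu t ⟨ht.1, e⟩ ht.2.2
  have hn2 : 2 ≤ P.n := by
    have := P.two_le_f hab
    have := P.f_lt_n hab
    omega
  have hIn : I.ncard = P.n := Nat.eq_of_mul_eq_mul_right (show 0 < P.n - 1 by omega) (by rw [hI, mul_one])
  have hfib : ∀ w ∈ (Set.univ : Set Ω), {t ∈ I | t • w = w}.ncard = {t ∈ I | t • a = a}.ncard := by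
    intro w _
    obtain ⟨k, rfl⟩ := MulAction.exists_smul_eq G a w
    refine (Set.ncard_congr (s := {t ∈ I | t • a = a}) (fun t _ => k * t * k⁻¹) ?_
      (fun s t _ _ e => mul_left_cancel (mul_right_cancel e)) ?_).symm
    · rintro t ⟨⟨ht, ht1, ht0⟩, hta⟩
      refine ⟨⟨?_, fun e => ht1 (conj_eq_one_iff.1 e), fun e => ht0 (P.I0_conj_iff.1 e)⟩, by
        show (k * t * k⁻¹) • k • a = k • a
        rw [mul_smul, inv_smul_smul, mul_smul, hta]⟩
      rw [show k * t * k⁻¹ * (k * t * k⁻¹) = k * (t * t) * k⁻¹ by group, ht, mul_one, mul_inv_cancel]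
    · rintro t ⟨⟨ht, ht1, ht0⟩, htw⟩
      refine ⟨k⁻¹ * t * k, ⟨⟨?_, fun e => ht1 ?_, fun e => ht0 ?_⟩, ?_⟩, by group⟩
      · rw [show k⁻¹ * t * k * (k⁻¹ * t * k) = k⁻¹ * (t * t) * k by group, ht, mul_one, inv_mul_cancel]
      · calc t = k * (k⁻¹ * t * k) * k⁻¹ := by group
          _ = 1 := by rw [e]; group
      · have := P.hyp.I0_conj e k
        rwa [show k * (k⁻¹ * t * k) * k⁻¹ = t by group] at this
      · show (k⁻¹ * t * k) • a = a
        rw [mul_smul, mul_smul, htw, inv_smul_smul]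
  have h1 := double_count I (Set.univ : Set Ω) (fun t w => t • w = w) (m := 1) hone hfib
  rw [hIn, ← P.n_eq_univ] at h1
  have hfa : {t ∈ I | t • a = a}.ncard = 1 :=
    (Nat.eq_of_mul_eq_mul_left (show 0 < P.n by omega) h1).symm
  obtain ⟨J, hJ⟩ := Set.ncard_eq_one.1 hfa
  obtain ⟨hJI, hJa⟩ : J ∈ I ∧ J • a = a := (hJ ▸ rfl : J ∈ {t ∈ I | t • a = a})
  have hJo : orderOf J = 2 := orderOf_eq_prime (by rw [pow_two]; exact hJI.1) hJI.2.1
  refine ⟨J, hJo, ?_⟩
  have hiso : Cfsg.IsIsolatedInvolution J := by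
    refine ⟨hJo, fun g hg => ?_⟩
    set J' := g * J * g⁻¹
    have hJ'I : J' ∈ I := by
      refine ⟨?_, fun e => hJI.2.1 (conj_eq_one_iff.1 e), fun e => hJI.2.2 (P.I0_conj_iff.1 e)⟩
      rw [show g * J * g⁻¹ * (g * J * g⁻¹) = g * (J * J) * g⁻¹ by group, hJI.1, mul_one, mul_inv_cancel]
    have hJ'a : J' • a = a := by
      have e1 : J • J' • a = J' • a := by rw [← mul_smul, hg.eq, mul_smul, hJa]
      obtain ⟨p, hp⟩ := Set.ncard_eq_one.1 (hone J hJI)
      have h1 : J' • a = p := Set.mem_singleton_iff.1 (hp ▸ ⟨trivial, e1⟩)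
      have h2 : a = p := Set.mem_singleton_iff.1 (hp ▸ ⟨trivial, hJa⟩)
      exact h1.trans h2.symm
    exact Set.mem_singleton_iff.1 (hJ ▸ ⟨hJ'I, hJ'a⟩)
  have hz : Cfsg.InZStar 2 J := CfsgLib.Involutions.zstar G J hiso
  rw [eq_top_iff]
  intro g _
  haveI : (Cfsg.oddCore G).Normal := inferInstance
  obtain ⟨o, ho⟩ : ∃ o : Cfsg.oddCore G, g * J * g⁻¹ = (o : G) * J :=
    ⟨⟨_, hz g⟩, by group⟩
  have hoJ : (o : G) * J * ((o : G) * J) = 1 := by
    rw [← ho, show g * J * g⁻¹ * (g * J * g⁻¹) = g * (J * J) * g⁻¹ by group, hJI.1, mul_one, mul_inv_cancel]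
  have hinvo : J * (o : G) * J⁻¹ = (o : G)⁻¹ := by
    have hJi : J⁻¹ = J := inv_eq_of_mul_eq_one_right hJI.1
    rw [hJi, eq_inv_iff_mul_eq_one]
    calc J * (o : G) * J * o = (o : G)⁻¹ * ((o : G) * J * ((o : G) * J)) * o := by group
      _ = 1 := by rw [hoJ]; group
  obtain ⟨r, hr⟩ : Odd (orderOf (o : G)) := by
    rw [Subgroup.orderOf_coe]
    exact (Nat.coprime_two_right.1 (Nat.Coprime.coprime_dvd_left (orderOf_dvd_natCard o)
      (CfsgLib.PCore.pPrimeCore_coprime (p := 2) (G := G))))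
  set d : G := (o : G) ^ (r + 1)
  have hdd : d * d = o := by
    rw [← pow_add, show r + 1 + (r + 1) = orderOf (o : G) + 1 by omega, pow_succ, pow_orderOf_eq_one,
      one_mul]
  have hd : d * J * d⁻¹ = (o : G) * J := by
    have : J * d⁻¹ = d * J := by
      have e : J * d * J⁻¹ = d⁻¹ := by rw [← conj_pow, hinvo, inv_pow]
      calc J * d⁻¹ = (J * d * J⁻¹)⁻¹ * J := by group
        _ = d * J := by rw [e, inv_inv]
    rw [mul_assoc, this, ← mul_assoc, hdd]
  have hmem : d⁻¹ * g ∈ centralizer ({J} : Set G) := by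
    rw [mem_centralizer_singleton_iff, ← mul_inv_eq_iff_eq_mul,
      show d⁻¹ * g * J * (d⁻¹ * g)⁻¹ = d⁻¹ * (g * J * g⁻¹) * d by group, ho, ← hd]
    group
  have hdm : d ∈ Cfsg.oddCore G := pow_mem o.2 _
  rw [show g = d * (d⁻¹ * g) by group]
  exact mul_mem (Subgroup.mem_sup_right hdm) (Subgroup.mem_sup_left hmem)

end Par

end CfsgLib.TwoTransAFour
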