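import Cfsg.Agent.Lib.TwoTransAFour.OddTools

/-!
`j = 4`, odd degree, `f = s(2s-1)`: the centraliser of an involution, acting on its fixed points, would
have Sylow four-groups and an impossible order.
-/

set_option autoImplicit false
set_option linter.unusedSectionVars false
set_option linter.style.haveILetI false

namespace CfsgLib.TwoTransAFour

open MulAction Subgroup

universe u v

theorem arith_double {c r : ℕ} {q δ s : ℤ} (hs : 3 ≤ s) (hr : s = 2 * r + 1) (hcr : c ∣ r) (hc : 0 < c)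
    (hδ : δ = 1 ∨ δ = -1) (h1 : (c : ℤ) * (q - δ) = 2 * (s * (s - 1)))
    (h2 : 2 * ((2 * s - 1) * (2 * s + 1)) = q * (q + δ)) : False := by
  have hr0 : 0 < r := by omega
  have hle : (c : ℤ) ≤ r := by exact_mod_cast Nat.le_of_dvd hr0 hcr
  have hc' : (0 : ℤ) < c := by exact_mod_cast hc
  have h3 : 4 * s ≤ q - δ := by
    by_contra hlt
    have h4 : (c : ℤ) * (q - δ) < r * (4 * s) := by
      by_cases hq : 0 ≤ q - δ
      · calc (c : ℤ) * (q - δ) ≤ r * (q - δ) := mul_le_mul_of_nonneg_right hle hq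
          _ < r * (4 * s) := mul_lt_mul_of_pos_left (by omega) (by omega)
      · calc (c : ℤ) * (q - δ) ≤ 0 := by nlinarith
          _ < r * (4 * s) := by positivity
    nlinarith
  rcases hδ with rfl | rfl <;> nlinarith

variable {G : Type u} [Group G] [Finite G] {Ω : Type v} [Finite Ω] [MulAction G Ω]

namespace Par

variable {P : Par G Ω} {j : ℕ}

variable (P)

/-- The action of the centraliser on the fixed points. -/
def fixHom (_ : Par G Ω) (z : G) : centralizer ({z} : Set G) →* Equiv.Perm (fix z : Set Ω) where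
  toFun g :=
    { toFun := fun w => ⟨(g : G) • (w : Ω), fix_of_commute (mem_centralizer_singleton_iff.1 g.2) w.2⟩
      invFun := fun w => ⟨(g : G)⁻¹ • (w : Ω),
        fix_of_commute (mem_centralizer_singleton_iff.1 (inv_mem g.2)) w.2⟩
      left_inv := fun w => Subtype.ext (inv_smul_smul (g : G) (w : Ω))
      right_inv := fun w => Subtype.ext (smul_inv_smul (g : G) (w : Ω)) }
  map_one' := Equiv.ext fun w => Subtype.ext (one_smul G (w : Ω))
  map_mul' g k := Equiv.ext fun w => Subtype.ext (mul_smul (g : G) (k : G) (w : Ω))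

theorem fixHom_eq_one {z : G} (g : centralizer ({z} : Set G)) :
    P.fixHom z g = 1 ↔ ∀ w : Ω, w ∈ fix z → (g : G) • w = w := by
  constructor
  · intro e w hw
    exact congrArg Subtype.val (Equiv.ext_iff.1 e ⟨w, hw⟩)
  · intro h
    exact Equiv.ext fun w => Subtype.ext (h w w.2)

variable {P}

section Double

variable (K : P.Kind j) (hj : j = 4) (hfs : P.f + P.s = 2 * (P.s * P.s)) {z : G} (hz : P.hyp.I0 z)
include K hj hfs hz

theorem Kind.sq_one_of_swap {g : G} (hg : g * z = z * g) {p q : Ω} (h : p ≠ q) (hp : z • p = p)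
    (hq : z • q = q) (hgp : g • p = q) (hgq : g • q = p) : g * g = 1 := by
  have hzf := P.hyp.mem_four_of_fix h hz.2.1 hp hq
  obtain ⟨t, ht, htz⟩ := P.exists_swap_cent h hzf hz.1
  obtain ⟨v, hv, rfl⟩ := P.swap_eq_mul h hzf hz.1 ht htz hg hgp hgq
  rw [show t * v * (t * v) = t * v * t * v by group,
    K.centralizing (by omega) h ht v hv, mul_assoc v t t, ht.1, mul_one, hv.2]

theorem Kind.spec_swap {g : G} {p q : Ω} (h : p ≠ q) (hp : z • p = p) (hq : z • q = q)
    (ht : g ∈ swapSet G p q) : P.Spec z g := by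
  have h1 := P.two_mul_sub hz h hp hq
  have hs2 : 1 < P.s := P.two_le_s h
  have h3 : P.s * (P.s - 1) + P.s = P.s * P.s := by
    rw [← Nat.mul_succ]; congr 1; omega
  have h4 : (P.Ssw z p q).ncard = 4 :=
    Nat.eq_of_mul_eq_mul_right (show 0 < P.s * (P.s - 1) from Nat.mul_pos (by omega) (by omega)) (by omega)
  have e : P.Ssw z p q = swapSet G p q := Set.eq_of_subset_of_ncard_le (fun u hu => hu.1)
    (by rw [h4, K.card_swap h, if_neg (by omega)])
  exact (e ▸ ht : g ∈ P.Ssw z p q).2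

theorem Kind.ker_fixHom (g : centralizer ({z} : Set G)) :
    P.fixHom z g = 1 ↔ ((g : G) = 1 ∨ (g : G) = z) := by
  rw [P.fixHom_eq_one]
  refine ⟨fun h => ?_, ?_⟩
  · obtain ⟨x, y, hxy, hx, hy⟩ := hz.2.2
    have hzf := P.hyp.mem_four_of_fix hxy hz.2.1 hx hy
    have hg4 : (g : G) ∈ P.hyp.four hxy := P.hyp.cent_pst hxy hzf hz.1 ⟨h x hx, h y hy⟩
      (mem_centralizer_singleton_iff.1 g.2).symm
    by_contra hne
    simp only [not_or] at hne
    have hline : P.hyp.fixFour hxy = fix z := by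
      refine Set.Subset.antisymm (P.fixFour_sub hxy hzf) fun w hw v hv => ?_
      rcases P.hyp.four_elems hxy hzf hg4 hz.1 hne.1 (Ne.symm hne.2) hv with rfl | rfl | rfl | rfl
      · exact one_smul G w
      · exact hw
      · exact h w hw
      · rw [mul_smul, h w hw]; exact hw
    have h1 := P.hs x y hxy
    rw [hline, show (fix z : Set Ω).ncard = P.f from P.hf z hz] at h1
    have hs2 : 1 < P.s := P.two_le_s hxy
    rw [h1] at hfs
    have : P.s = P.s * P.s := by omega
    nlinarith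
  · rintro (e | e) w hw <;> rw [e]
    · exact one_smul G w
    · exact hw

/-- Involutory actions come from special involutions. -/
theorem Kind.lift_invol {g : centralizer ({z} : Set G)} (h2 : P.fixHom z g * P.fixHom z g = 1)
    (h1 : P.fixHom z g ≠ 1) : P.Spec z (g : G) := by
  obtain ⟨p, hp⟩ : ∃ p : (fix z : Set Ω), (g : G) • (p : Ω) ≠ p := by
    by_contra hall
    exact h1 (Equiv.ext fun w => Subtype.ext (not_not.1 (not_exists.1 hall w)))
  have hgq : (g : G) • (g : G) • (p : Ω) = p := congrArg Subtype.val (Equiv.ext_iff.1 h2 p)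
  have hgz := mem_centralizer_singleton_iff.1 g.2
  have hq : z • (g : G) • (p : Ω) = (g : G) • (p : Ω) := fix_of_commute hgz p.2
  exact K.spec_swap hj hfs hz hp.symm p.2 hq
    ⟨K.sq_one_of_swap hj hfs hz hgz hp.symm p.2 hq rfl hgq, rfl⟩

/-- No element of order four on the fixed points. -/
theorem Kind.sq_of_four {g : centralizer ({z} : Set G)}
    (h4 : P.fixHom z g * P.fixHom z g * (P.fixHom z g * P.fixHom z g) = 1) :
    P.fixHom z g * P.fixHom z g = 1 := by
  by_contra h2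
  have hw : P.Spec z ((g * g : centralizer ({z} : Set G)) : G) :=
    K.lift_invol hj hfs hz (by rw [map_mul]; exact h4) (by rw [map_mul]; exact h2)
  obtain ⟨x, y, h, hzf, hwf, hw1, hwz⟩ := hw
  have hgz := mem_centralizer_singleton_iff.1 g.2
  have hgn : (g : G) ∈ P.cn h z := P.mem_cn_of h hzf hwf hz.1 hw1 hwz.symm hgz
    (Or.inl (by rw [Subgroup.coe_mul]; group))
  by_cases hfix : (g : G) • x = x ∧ (g : G) • y = y
  · exact hw1 (P.mem_four_of_cn h hzf hz.1 hgz (P.hyp.left_mem_fixFour h) (P.hyp.right_mem_fixFour h) h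
      hfix.1 hfix.2).2
  obtain ⟨p, hp, hgp⟩ : ∃ p ∈ P.hyp.fixFour h, (g : G) • p ≠ p := by
    by_contra hall
    exact hfix ⟨not_not.1 fun e => hall ⟨x, P.hyp.left_mem_fixFour h, e⟩,
      not_not.1 fun e => hall ⟨y, P.hyp.right_mem_fixFour h, e⟩⟩
  have hgq := P.smul_mem_fixFour h hgn hp
  have hgg : (g : G) • (g : G) • p = p := by
    rw [← mul_smul]; exact hp _ hwf
  exact hw1 (K.sq_one_of_swap hj hfs hz hgz (Ne.symm hgp) (hp z hzf) (hgq z hzf) rfl hgg)

theorem Kind.sq_of_two_pow (m : ℕ) : ∀ g : centralizer ({z} : Set G), P.fixHom z g ^ 2 ^ m = 1 →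
    P.fixHom z g * P.fixHom z g = 1 := by
  induction m with
  | zero =>
    intro g h
    simp at h
    rw [h, one_mul]
  | succ m ih =>
    intro g h
    have h2 := ih (g * g) (by rw [map_mul, ← pow_two, ← pow_mul, ← pow_succ']; exact h)
    rw [map_mul] at h2
    exact K.sq_of_four hj hfs hz h2

/-- The case `f = s(2s-1)` does not occur. -/
theorem Kind.false_double (hD : DihedralInput.{v}) (hn : Odd P.n) : False := by
  obtain ⟨x, y, hxy, hzx, hzy⟩ := hz.2.2
  have hzf := P.hyp.mem_four_of_fix hxy hz.2.1 hzx hzy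
  have hf := P.odd_f hxy hn
  have hs := P.odd_s K hxy hn
  have hs3 : 3 ≤ P.s := by
    have := P.two_le_s hxy
    obtain ⟨r, hr⟩ := hs
    omega
  haveI := Fact.mk Nat.prime_two
  -- the two-part of `cn`
  obtain ⟨Q⟩ : Nonempty (Sylow 2 (P.cn hxy z)) := inferInstance
  set Q' : Subgroup G := (Q : Subgroup (P.cn hxy z)).map (P.cn hxy z).subtype with hQ'
  have hQle : Q' ≤ P.cn hxy z := map_subtype_le _
  have hQp : IsPGroup 2 Q' := Q.2.map _
  have hQsq : ∀ q ∈ Q', q * q ∈ P.hyp.four hxy := by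
    intro q hq
    let q' : centralizer ({z} : Set G) := ⟨q, (hQle hq).1⟩
    obtain ⟨k, hk⟩ := hQp ⟨q, hq⟩
    have hk' : q' ^ 2 ^ k = 1 := Subtype.ext (by
      simpa [SubmonoidClass.coe_pow, q'] using congrArg Subtype.val hk)
    have h2 := K.sq_of_two_pow hj hfs hz k q' (by rw [← map_pow, hk', map_one])
    rw [← map_mul, K.ker_fixHom hj hfs hz] at h2
    rcases h2 with e | e
    · rw [show q * q = 1 from e]; exact one_mem _
    · rw [show q * q = z from e]; exact hzf
  have hQ8 : Nat.card Q' ≤ 8 := by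
    obtain ⟨c, hc, hfixc⟩ := P.exists_fix_line hxy hs Q' hQp hQle
    have h1 := card_le_two_mul Q' (P.hyp.four hxy ⊓ Q') inf_le_right fun g hg k hk hgF hkF =>
      ⟨P.line_unique hxy hzf hz.1 hs (hQle hg) (hQle hk) (fun e => hgF ⟨e, hg⟩) (fun e => hkF ⟨e, hk⟩)
        (hQsq g hg) (hQsq k hk) hc (hfixc g hg) (hfixc k hk), Q'.mul_mem (Q'.inv_mem hg) hk⟩
    have h2 : Nat.card ↥(P.hyp.four hxy ⊓ Q') ≤ 4 :=
      P.hyp.card_four hxy ▸ Subgroup.card_le_of_le inf_le_left
    omega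
  have h16 : ¬ 16 ∣ Nat.card (P.cn hxy z) := by
    intro h
    have h1 : 16 ∣ Nat.card (Q : Subgroup (P.cn hxy z)) := Q.pow_dvd_card_of_pow_dvd_card (n := 4) h
    rw [← Subgroup.card_map_of_injective (P.cn hxy z).subtype_injective, ← hQ'] at h1
    have := Nat.le_of_dvd Nat.card_pos h1
    omega
  rw [P.card_cn hxy hzf hz.1] at h16
  obtain ⟨r, hr⟩ : ∃ r, P.s = 2 * r + 1 := hs
  have hrodd : Odd r := by
    by_contra hre
    rw [Nat.not_odd_iff_even] at hre
    obtain ⟨k, hk⟩ := hre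
    exact h16 ⟨P.s * k, by rw [show P.s - 1 = 4 * k by omega]; ring⟩
  -- the group on the fixed points
  set C := centralizer ({z} : Set G) with hC
  let X := (P.fixHom z).range
  let ψ := (P.fixHom z).rangeRestrict
  have hψ : Function.Surjective ψ := MonoidHom.rangeRestrict_surjective _
  have hcardX : Nat.card X * 2 = 4 * (P.f * (P.f - 1)) := by
    rw [← P.card_cent hz, ← (P.fixHom z).ker.card_mul_index, Subgroup.index_ker, mul_comm]
    congr 1
    have e : (((P.fixHom z).ker : Subgroup C) : Set C) = {1, ⟨z, mem_centralizer_singleton_iff.2 rfl⟩} := by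
      ext g
      rw [SetLike.mem_coe, MonoidHom.mem_ker, K.ker_fixHom hj hfs hz]
      simp only [Set.mem_insert_iff, Set.mem_singleton_iff, Subtype.ext_iff, Subgroup.coe_one]
    rw [← SetLike.coe_sort_coe, Nat.card_coe_set_eq, e, ncard_pair]
    exact fun e => hz.1 (congrArg Subtype.val e).symm
  have hfZ : (P.f : ℤ) = 2 * ((P.s : ℤ) * P.s) - P.s := by
    have : (P.f : ℤ) + P.s = 2 * ((P.s : ℤ) * P.s) := by exact_mod_cast hfs
    linarith
  have hf' : P.f = P.s * (2 * P.s - 1) := by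
    have : ((P.s * (2 * P.s - 1) : ℕ) : ℤ) = P.f := by
      push_cast [Nat.cast_sub (by omega : 1 ≤ 2 * P.s)]; rw [hfZ]; ring
    exact_mod_cast this.symm
  have hα : Nat.card (fix z : Set Ω) = P.f := by rw [Nat.card_coe_set_eq]; exact P.hf z hz
  have h2X : IsMultiplyPretransitive X (fix z : Set Ω) 2 :=
    is_two_pretransitive_iff.mpr fun {p q p' q'} hpq hpq' => by
      obtain ⟨g, hg, e1, e2⟩ := P.hyp.exists_cent hz (fun e => hpq (Subtype.ext e))
        (fun e => hpq' (Subtype.ext e)) p.2 q.2 p'.2 q'.2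
      exact ⟨ψ ⟨g, mem_centralizer_singleton_iff.2 hg⟩, Subtype.ext e1, Subtype.ext e2⟩
  have hOX : Cfsg.oddCore X = ⊥ := by
    refine oddCore_eq_bot_of_degree h2X (by rw [hα]; exact P.two_le_f hxy) ?_
    rw [hα, hf']
    refine not_isPrimePow_mul (by omega) (by omega) (Nat.Coprime.symm ?_)
    rw [show 2 * P.s - 1 = (P.s - 1) + P.s by omega, Nat.coprime_add_self_left]
    exact (Nat.coprime_self_sub_left (by omega)).2 (Nat.coprime_one_left _)
  obtain ⟨S⟩ : Nonempty (Sylow 2 X) := inferInstance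
  have hXeq : Nat.card X = 4 * (r * ((4 * r + 1) * ((4 * r + 3) * P.s))) := by
    have h1 : (P.f - 1 : ℤ) = 2 * r * (4 * r + 3) := by
      rw [hfZ, show (P.s : ℤ) = 2 * r + 1 by exact_mod_cast hr]; ring
    have h2 : ((Nat.card X * 2 : ℕ) : ℤ) = ((4 * (P.f * (P.f - 1)) : ℕ) : ℤ) := by rw [hcardX]
    push_cast [Nat.cast_sub (show 1 ≤ P.f by have := P.two_le_f hxy; omega)] at h2
    rw [h1, hf'] at h2
    have h3 : ((2 * P.s - 1 : ℕ) : ℤ) = 4 * r + 1 := by omega
    push_cast at h2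
    rw [h3] at h2
    have h4 : (Nat.card X : ℤ) = 4 * (r * ((4 * r + 1) * ((4 * r + 3) * P.s))) := by linarith
    exact_mod_cast h4
  have hoddm : Odd (r * ((4 * r + 1) * ((4 * r + 3) * P.s))) :=
    Odd.mul hrodd (Odd.mul (⟨2 * r, by ring⟩ : Odd (4 * r + 1))
      (Odd.mul (⟨2 * r + 1, by ring⟩ : Odd (4 * r + 3)) ⟨r, hr⟩))
  have h8X : ¬ 8 ∣ Nat.card X := by
    rw [hXeq, show (8 : ℕ) = 4 * 2 by norm_num, Nat.mul_dvd_mul_iff_left (by norm_num : 0 < 4)]
    intro h
    obtain ⟨k, hk⟩ := hoddm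
    omega
  have hS4 : Nat.card (S : Subgroup X) = 4 := by
    obtain ⟨k, hk⟩ := IsPGroup.iff_card.1 S.2
    have h1 : 4 ∣ Nat.card (S : Subgroup X) :=
      S.pow_dvd_card_of_pow_dvd_card (n := 2) (by rw [hXeq]; exact dvd_mul_right _ _)
    have h2 : k < 3 := by
      by_contra hk3
      exact h8X ((pow_dvd_pow 2 (by omega : 3 ≤ k)).trans (hk ▸ card_subgroup_dvd_card _))
    rw [hk] at h1 ⊢
    interval_cases k <;> first | rfl | (norm_num at h1)
  have hSsq : ∀ s : (S : Subgroup X), s * s = 1 := by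
    rintro ⟨⟨σ, g, rfl⟩, hs'⟩
    obtain ⟨k, hk⟩ := S.2 ⟨⟨_, g, rfl⟩, hs'⟩
    refine Subtype.ext (Subtype.ext ?_)
    exact K.sq_of_two_pow hj hfs hz k g (congrArg Subtype.val (congrArg Subtype.val hk))
  obtain ⟨eS⟩ := dihedral_two_of_exponent hS4 hSsq
  haveI : Nontrivial (S : Subgroup X) := Finite.one_lt_card_iff_nontrivial.1 (by omega)
  obtain ⟨σ, hσ1⟩ := exists_ne (1 : (S : Subgroup X))
  obtain ⟨g, hg⟩ := hψ (σ : X)
  have hσ1' : (σ : X) ≠ 1 := fun e => hσ1 (Subtype.ext e)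
  have hσ2 : (σ : X) * σ = 1 := congrArg Subtype.val (hSsq σ)
  have hspec_of : ∀ k : C, ψ k * ψ k = 1 → ψ k ≠ 1 → P.Spec z (k : G) := fun k h2 h1 =>
    K.lift_invol hj hfs hz (congrArg Subtype.val h2) fun e => h1 (Subtype.ext e)
  have hgs : P.Spec z (g : G) := hspec_of g (by rw [hg]; exact hσ2) (by rw [hg]; exact hσ1')
  obtain ⟨a, b, hab, hzF, hgF, hg1, hgz'⟩ := hgs
  have hgz := mem_centralizer_singleton_iff.1 g.2
  have hker : ∀ k : C, ψ k = 1 ↔ ((k : G) = 1 ∨ (k : G) = z) := fun k => by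
    rw [← K.ker_fixHom hj hfs hz k]
    exact Subtype.ext_iff
  have hcomap : ∀ k : C, ψ k * ψ g = ψ g * ψ k ↔ (k : G) ∈ P.cn hab z := by
    intro k
    have hk := mem_centralizer_singleton_iff.1 k.2
    have e : ψ k * ψ g = ψ g * ψ k ↔ ψ (k * g * k⁻¹ * g⁻¹) = 1 := by
      rw [map_mul, map_mul, map_mul, map_inv, map_inv, mul_inv_eq_one, mul_inv_eq_iff_eq_mul]
    rw [e, hker]
    simp only [Subgroup.coe_mul, Subgroup.coe_inv, mul_inv_eq_one, mul_inv_eq_iff_eq_mul (b := (g : G)),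
      one_mul]
    refine ⟨fun h => P.mem_cn_of hab hzF hgF hz.1 hg1 hgz'.symm hk h, fun h => ?_⟩
    have hm := (((P.mem_cn hab).1 h).2 _).1 hgF
    have hkz : (k : G) * z * (k : G)⁻¹ = z := by rw [hk, mul_inv_cancel_right]
    rcases P.hyp.four_elems hab hzF hgF hz.1 hg1 hgz'.symm hm with e | e | e | e
    · exact absurd (conj_eq_one_iff.1 e) hg1
    · exact absurd (mul_left_cancel (mul_right_cancel (e.trans hkz.symm))) hgz'
    · exact Or.inl e
    · exact Or.inr e
  have hidx : (centralizer ({(σ : X)} : Set X)).index * (P.s * (P.s - 1)) = P.f * (P.f - 1) := by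
    rw [← Subgroup.index_comap_of_surjective _ hψ]
    have e : (centralizer ({(σ : X)} : Set X)).comap ψ = (P.cn hab z).subgroupOf C := by
      ext k
      rw [mem_comap, mem_centralizer_singleton_iff, ← hg, mem_subgroupOf]
      exact hcomap k
    rw [e]
    have h1 := ((P.cn hab z).subgroupOf C).card_mul_index
    rw [Nat.card_congr (subgroupOfEquivOfLe (H := P.cn hab z) (K := C) inf_le_left).toEquiv, P.card_cn hab hzF hz.1,
      hC, P.card_cent hz] at h1
    refine Nat.eq_of_mul_eq_mul_left (show 0 < 4 by norm_num) (Eq.trans ?_ h1)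
    ring
  have hone : ∀ u : X, orderOf u = 2 → ∃ k : X, k * (σ : X) * k⁻¹ = u := by
    intro u hu
    obtain ⟨k, rfl⟩ := hψ u
    have hk2 : ψ k * ψ k = 1 := by rw [← pow_two, ← hu, pow_orderOf_eq_one]
    obtain ⟨a', b', hab', hzF', hkF', hk1, hkz'⟩ :=
      hspec_of k hk2 (fun e => by rw [e, orderOf_one] at hu; omega)
    obtain ⟨c, hc, e1, e2⟩ := P.hyp.exists_cent hz hab hab' hzF.1.1 hzF.1.2 hzF'.1.1 hzF'.1.2
    refine ⟨ψ ⟨c, mem_centralizer_singleton_iff.2 hc⟩, ?_⟩
    rw [← hg, ← map_inv, ← map_mul, ← map_mul, ← mul_inv_eq_one, ← map_inv, ← map_mul, hker]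
    simp only [Subgroup.coe_mul, Subgroup.coe_inv]
    have hm : c * (g : G) * c⁻¹ ∈ P.hyp.four hab' := (P.hyp.conj_four hab hab' e1 e2).2 hgF
    have hcz : c * z * c⁻¹ = z := by rw [hc, mul_inv_cancel_right]
    rcases P.hyp.four_elems hab' hzF' hkF' hz.1 hk1 hkz'.symm hm with e | e | e | e
    · exact absurd (conj_eq_one_iff.1 e) hg1
    · exact absurd (mul_left_cancel (mul_right_cancel (e.trans hcz.symm))) hgz'
    · left; rw [e, mul_inv_cancel]
    · right; rw [e, mul_inv_cancel_right]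
  have hσo : orderOf (σ : X) = 2 := orderOf_eq_prime (by rw [pow_two]; exact hσ2) hσ1'
  have hσc : ∀ x ∈ (S : Subgroup X), x * σ = σ * x := fun x hx => by
    have h1 := congrArg Subtype.val (hSsq (⟨x, hx⟩ * σ))
    have h2 := congrArg Subtype.val (hSsq ⟨x, hx⟩)
    simp only [Subgroup.coe_mul, Subgroup.coe_one] at h1 h2
    calc x * σ = (x * σ)⁻¹ := (inv_eq_of_mul_eq_one_right h1).symm
      _ = σ * x := by rw [mul_inv_rev, inv_eq_of_mul_eq_one_right h2, inv_eq_of_mul_eq_one_right hσ2]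
  have hidxZ : ((centralizer ({(σ : X)} : Set X)).index : ℤ) = (2 * (P.s : ℤ) - 1) * (2 * P.s + 1) := by
    have h1 : (((centralizer ({(σ : X)} : Set X)).index * (P.s * (P.s - 1)) : ℕ) : ℤ) =
        ((P.f * (P.f - 1) : ℕ) : ℤ) := by rw [hidx]
    push_cast [Nat.cast_sub (show 1 ≤ P.f by have := P.two_le_f hxy; omega),
      Nat.cast_sub (show 1 ≤ P.s by omega)] at h1
    refine mul_right_cancel₀ (show (P.s : ℤ) * ((P.s : ℤ) - 1) ≠ 0 from
      mul_ne_zero (by omega) (by omega)) (h1.trans ?_)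
    rw [hfZ]; ring
  have h3 : 3 ∣ Nat.card X := by
    rw [hXeq, hr]
    refine Dvd.dvd.mul_left ?_ 4
    rcases (show r % 3 = 0 ∨ r % 3 = 1 ∨ r % 3 = 2 by omega) with h | h | h
    · exact Dvd.dvd.mul_right (Nat.dvd_of_mod_eq_zero h) _
    · exact Dvd.dvd.mul_left (Dvd.dvd.mul_left (Dvd.dvd.mul_left
        (Nat.dvd_of_mod_eq_zero (by omega)) _) _) _
    · exact Dvd.dvd.mul_left (Dvd.dvd.mul_right (Nat.dvd_of_mod_eq_zero (by omega)) _) _
  have hns : ¬ Nat.card X ∣ 24 := by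
    intro h
    have h1 := Nat.le_of_dvd (by norm_num) h
    rw [hXeq] at h1
    have hr0 : 1 ≤ r := by omega
    have h2 : 1 * (5 * (7 * 3)) ≤ r * ((4 * r + 1) * ((4 * r + 3) * P.s)) :=
      Nat.mul_le_mul hr0 (Nat.mul_le_mul (by omega) (Nat.mul_le_mul (by omega) hs3))
    omega
  rcases hD hOX S (le_refl 2) eS σ.2 hσo hσc hone h3 hns with
    ⟨q, c, δ, -, -, hδ, hcodd, hcd, h1, h2⟩ | ⟨-, L, -, ⟨eL⟩⟩
  swap
  · have h1 := card_subgroup_dvd_card L
    rw [Nat.card_congr eL.toEquiv, nat_card_alternatingGroup, Nat.card_fin] at h1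
    norm_num [Nat.factorial] at h1
    exact h8X ((by norm_num : 8 ∣ 2520).trans h1)
  -- the centraliser of `S`
  obtain ⟨τ, hτ1, hτσ⟩ : ∃ τ : (S : Subgroup X), τ ≠ 1 ∧ τ ≠ σ := by
    by_contra hall
    have hsub : (Set.univ : Set (S : Subgroup X)) ⊆ {1, σ} := fun τ _ => by
      by_contra hne
      simp only [Set.mem_insert_iff, Set.mem_singleton_iff, not_or] at hne
      exact hall ⟨τ, hne⟩
    have := Set.ncard_le_ncard hsub
    rw [Set.ncard_univ, hS4] at this
    have := this.trans ((Set.ncard_insert_le _ _).trans (by rw [Set.ncard_singleton]))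
    omega
  obtain ⟨t, ht⟩ := hψ (τ : X)
  have htn : (t : G) ∈ P.cn hab z := by
    rw [← hcomap, ht, hg]; exact hσc _ τ.2
  have htF : (t : G) ∉ P.hyp.four hab := by
    intro e
    have hk : ∀ k : C, (k : G) ∈ P.hyp.four hab → ψ k = 1 ∨ ψ k = ψ g := by
      intro k hk
      rcases P.hyp.four_elems hab hzF hgF hz.1 hg1 hgz'.symm hk with e | e | e | e
      · exact Or.inl ((hker k).2 (Or.inl e))
      · exact Or.inl ((hker k).2 (Or.inr e))
      · exact Or.inr (congrArg ψ (Subtype.ext e))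
      · right
        rw [← mul_inv_eq_one, ← map_inv, ← map_mul, hker]
        right
        simp only [Subgroup.coe_mul, Subgroup.coe_inv, e, mul_inv_cancel_right]
    rcases hk t e with h | h
    · exact hτ1 (Subtype.ext (ht ▸ h))
    · exact hτσ (Subtype.ext (ht.symm.trans (h.trans hg)))
  have htt : (t : G) * t = 1 :=
    (hspec_of t (by rw [ht]; exact congrArg Subtype.val (hSsq τ))
      (fun e => hτ1 (Subtype.ext (ht ▸ e)))).sq
  obtain ⟨c₀, hc₀, htc₀⟩ := P.exists_fix_line hab ⟨r, hr⟩ (zpowers (t : G))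
    (IsPGroup.of_card (n := 1) (by
      rw [Nat.card_zpowers, pow_one]
      exact orderOf_eq_prime (by rw [pow_two]; exact htt) fun e => htF (e ▸ one_mem _)))
    ((zpowers_le).2 htn)
  let A : Subgroup C := (P.cn hab z ⊓ stabilizer G c₀).subgroupOf C
  have hle : centralizer ((S : Subgroup X) : Set X) ≤ A.map ψ := by
    intro u hu
    obtain ⟨k, rfl⟩ := hψ u
    have hkn : (k : G) ∈ P.cn hab z := by
      rw [← hcomap, hg]; exact (mem_centralizer_iff.1 hu _ σ.2).symm
    have hkt : ψ (t⁻¹ * (k * t * k⁻¹)) = 1 := by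
      rw [map_mul, map_mul, map_mul, map_inv, map_inv, ht, ← mem_centralizer_iff.1 hu _ τ.2,
        mul_inv_cancel_right, inv_mul_cancel]
    refine ⟨k, ⟨hkn, P.fix_of_commute_action hab hzF hz.1 hkn htn htF hc₀
      (htc₀ _ (mem_zpowers _)) ?_⟩, rfl⟩
    rcases (hker _).1 hkt with e | e <;>
      simp only [Subgroup.coe_mul, Subgroup.coe_inv] at e <;> rw [e]
    · exact one_mem _
    · exact hzF
  have hcdiv : c ∣ 4 * (P.s - 1) := by
    refine hcd.trans ((Subgroup.card_dvd_of_le hle).trans ?_)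
    refine (Subgroup.card_map_dvd _ _).trans ?_
    rw [Nat.card_congr (subgroupOfEquivOfLe (H := P.cn hab z ⊓ stabilizer G c₀) (K := C)
      (inf_le_left.trans inf_le_left)).toEquiv,
      P.card_point_cn hab hzF hz.1 hc₀]
  rw [hr, show 2 * r + 1 - 1 = 2 * r by omega, ← mul_assoc] at hcdiv
  have hcr : c ∣ r := (Nat.Coprime.dvd_of_dvd_mul_left (by
    exact (Nat.Coprime.pow_right 3 ((Nat.coprime_two_right).2 hcodd))) hcdiv)
  have hcentZ : (Nat.card ↥(centralizer ({(σ : X)} : Set X)) : ℤ) = 2 * ((P.s : ℤ) * (P.s - 1)) := by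
    have h := (centralizer ({(σ : X)} : Set X)).card_mul_index
    have h' : ((Nat.card ↥(centralizer ({(σ : X)} : Set X)) : ℤ)) *
        (centralizer ({(σ : X)} : Set X)).index * 2 = ((4 * (P.f * (P.f - 1)) : ℕ) : ℤ) := by
      rw [← hcardX, ← h]; push_cast; ring
    rw [hidxZ] at h'
    push_cast [Nat.cast_sub (show 1 ≤ P.f by have := P.two_le_f hxy; omega)] at h'
    rw [hfZ] at h'
    have hne : ((2 * (P.s : ℤ) - 1) * (2 * P.s + 1)) * 2 ≠ 0 :=
      mul_ne_zero (mul_ne_zero (by omega) (by omega)) (by norm_num)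
    refine mul_right_cancel₀ hne ?_
    linear_combination h'
  rw [hcentZ] at h1
  rw [hidxZ] at h2
  exact arith_double (s := (P.s : ℤ)) (by omega) (by exact_mod_cast hr) hcr hcodd.pos hδ h1 h2

end Double

end Par

end CfsgLib.TwoTransAFour
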