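import Cfsg.Agent.Lib.TwoTransAFour.OddTools

/-!
`j = 4`, odd degree, `f = s` or `f = s²`: the seven involutions of an elementary group of order eight
would be covered by four-groups in an impossible way.
-/

set_option autoImplicit false
set_option linter.unusedSectionVars false
set_option linter.style.haveILetI false

namespace CfsgLib.TwoTransAFour

open MulAction Subgroup

universe u

variable {G : Type u} [Group G] [Finite G] {Ω : Type*} [Finite Ω] [MulAction G Ω]

theorem comm_of_sq {X : Type*} [Group X] {a b : X} (ha : a * a = 1) (hb : b * b = 1)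
    (hab : a * b * (a * b) = 1) : a * b = b * a :=
  calc a * b = (a * b)⁻¹ := (inv_eq_of_mul_eq_one_right hab).symm
    _ = b * a := by rw [mul_inv_rev, inv_eq_of_mul_eq_one_right ha, inv_eq_of_mul_eq_one_right hb]

namespace Par

variable {P : Par G Ω} {j : ℕ}

theorem Kind.commute_swap (K : P.Kind j) (hj : j ≠ 6) {p q : Ω} (h : p ≠ q) {t : G}
    (ht : t ∈ swapSet G p q) {v : G} (hv : v ∈ P.hyp.four h) : t * v = v * t :=
  K.centralizing hj h ht v hv

/-- With `j = 4`, an elementary group of order eight fixing a point. -/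
theorem Kind.exists_eight (K : P.Kind j) (hj : j = 4) {a b : Ω} (hab : a ≠ b) (hs : Odd P.s) :
    ∃ (E : Subgroup G) (c : Ω), Nat.card E = 8 ∧ (∀ e ∈ E, e * e = 1) ∧ (∀ e ∈ E, e • c = c) ∧
      c ∈ P.hyp.fixFour hab := by
  obtain ⟨t, ht, -⟩ := P.J0_nonempty hab
  have hc : P.hyp.Centralizing hab t := K.centralizing (by omega) hab ht
  set F := P.hyp.four hab with hF
  have htF : ∀ v ∈ F, (t * v) * (t * v) = 1 := fun v hv => by
    rw [show t * v * (t * v) = t * (v * t) * v by group, ← hc v hv, ← mul_assoc, ht.1, one_mul, hv.2]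
  let E : Subgroup G :=
    { carrier := {g | g ∈ F ∨ t * g ∈ F}
      one_mem' := Or.inl (one_mem F)
      mul_mem' := fun {g k} hg hk => by
        rcases hg with hg | hg <;> rcases hk with hk | hk
        · exact Or.inl (mul_mem hg hk)
        · right
          rw [show t * (g * k) = t * g * k by group, hc g hg, mul_assoc]
          exact mul_mem hg hk
        · right
          rw [← mul_assoc]
          exact mul_mem hg hk
        · left
          have hk' : k = t * (t * k) := by rw [← mul_assoc, ht.1, one_mul]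
          have hg' : g = (t * g) * t := by
            rw [← hc _ hg, ← mul_assoc, ht.1, one_mul]
          rw [hg', mul_assoc]
          exact mul_mem hg hk
      inv_mem' := fun {g} hg => by
        rcases hg with hg | hg
        · exact Or.inl (inv_mem hg)
        · right
          have hg' : g = t * (t * g) := by rw [← mul_assoc, ht.1, one_mul]
          have hgg : g * g = 1 := by rw [hg']; exact htF _ hg
          rw [inv_of_sq hgg]; exact hg }
  have htn : t ∉ F := fun e => hab ((e.1.1).symm.trans ht.2)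
  have hsq : ∀ e ∈ E, e * e = 1 := by
    rintro e (he | he)
    · exact he.2
    · rw [show e = t * (t * e) by rw [← mul_assoc, ht.1, one_mul]]; exact htF _ he
  obtain ⟨c, hcL, hct⟩ : ∃ c ∈ P.hyp.fixFour hab, t • c = c := by
    have hinv : ∀ w ∈ P.hyp.fixFour hab, t • w ∈ P.hyp.fixFour hab := fun w hw v hv => by
      rw [← mul_smul, ← hc v hv, mul_smul, hw v hv]
    have h1 := ncard_moved (P.hyp.fixFour hab) t
    have h2 := even_ncard_moved (P.hyp.fixFour hab) ht.1 hinv
    rw [P.hs] at h1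
    have hne : {w ∈ P.hyp.fixFour hab | t • w = w}.Nonempty := by
      apply Set.nonempty_of_ncard_ne_zero
      intro h0
      obtain ⟨r, hr⟩ := hs
      obtain ⟨r', hr'⟩ := h2
      omega
    exact hne
  refine ⟨E, c, ?_, hsq, ?_, hcL⟩
  · have hEset : (E : Set G) = (F : Set G) ∪ (fun v => t * v) '' (F : Set G) := by
      ext g
      constructor
      · rintro (hg | hg)
        · exact Or.inl hg
        · exact Or.inr ⟨t * g, hg, by show t * (t * g) = g; rw [← mul_assoc, ht.1, one_mul]⟩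
      · rintro (hg | ⟨v, hv, rfl⟩)
        · exact Or.inl hg
        · exact Or.inr (by show t * (t * v) ∈ F; rw [← mul_assoc, ht.1, one_mul]; exact hv)
    rw [← SetLike.coe_sort_coe, Nat.card_coe_set_eq, hEset, Set.ncard_union_eq,
      Set.ncard_image_of_injective _ (mul_right_injective t), ← Nat.card_coe_set_eq, SetLike.coe_sort_coe,
      hF, P.hyp.card_four]
    rw [Set.disjoint_left]
    rintro g hg ⟨v, hv, rfl⟩
    exact htn (by simpa using mul_mem hg (inv_mem hv))
  · rintro e (he | he)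
    · exact hcL e he
    · rw [show e = t * (t * e) by rw [← mul_assoc, ht.1, one_mul], mul_smul, hcL _ he, hct]

variable (P)

/-- The elements of `E` special for `u`. -/
def specIn (E : Subgroup G) (u : G) : Set G := {w | w ∈ E ∧ P.Spec u w}

variable {P}

theorem Spec.four_le {u w : G} (hu1 : u ≠ 1) {E : Subgroup G} (hu : u ∈ E) (hw : w ∈ E) {x y : Ω}
    (h : x ≠ y) (hux : u ∈ P.hyp.four h) (hwx : w ∈ P.hyp.four h) (hw1 : w ≠ 1) (huw : w ≠ u) :
    P.hyp.four h ≤ E := by
  intro g hg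
  rcases P.hyp.four_elems h hux hwx hu1 hw1 huw.symm hg with rfl | rfl | rfl | rfl
  exacts [one_mem E, hu, hw, mul_mem hu hw]

/-- Every involution of `E` has `m ∈ {2, 4}` special partners in `E`: impossible. -/
theorem false_of_specIn {E : Subgroup G} (hE : Nat.card E = 8) (hsq : ∀ e ∈ E, e * e = 1) {m : ℕ}
    (hm : m = 2 ∨ m = 4) (hspec : ∀ u ∈ E, u ≠ 1 → (P.specIn E u).ncard = m) : False := by
  classical
  let T : Set G := (E : Set G) \ {1}
  have hT : T.ncard = 7 := by
    rw [Set.ncard_sdiff_singleton_of_mem (one_mem E), ← Nat.card_coe_set_eq, SetLike.coe_sort_coe, hE]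
  let S : Set (G × G) := {p | p.1 ∈ E ∧ p.1 ≠ 1 ∧ p.2 ∈ E ∧ P.Spec p.1 p.2}
  have hS : T.ncard * m = S.ncard * 1 := by
    refine double_count T S (fun u p => p.1 = u) (fun u hu => ?_) fun p hp => ?_
    · rw [← hspec u hu.1 hu.2]
      refine Set.ncard_congr (fun p _ => p.2) (fun p hp => ⟨hp.1.2.2.1, hp.2 ▸ hp.1.2.2.2⟩)
        (fun p q hp hq e => Prod.ext (hp.2.trans hq.2.symm) e) fun w hw => ?_
      exact ⟨(u, w), ⟨⟨hu.1, hu.2, hw.1, hw.2⟩, rfl⟩, rfl⟩
    · rw [Set.ncard_eq_one]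
      exact ⟨p.1, Set.eq_singleton_iff_unique_mem.2 ⟨⟨⟨hp.1, hp.2.1⟩, rfl⟩, fun u hu => hu.2.symm⟩⟩
  let 𝔉 : Set (Subgroup G) := {F | F ≤ E ∧ ∃ x y : Ω, ∃ h : x ≠ y, F = P.hyp.four h}
  have hF : 𝔉.ncard * 6 = S.ncard * 1 := by
    refine double_count 𝔉 S (fun F p => p.1 ∈ F ∧ p.2 ∈ F) ?_ fun p hp => ?_
    · rintro F ⟨hle, x, y, h, rfl⟩
      have h3 : ((P.hyp.four h : Set G) \ {1}).ncard = 3 := by
        rw [Set.ncard_sdiff_singleton_of_mem (one_mem _), ← Nat.card_coe_set_eq, SetLike.coe_sort_coe,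
          P.hyp.card_four]
      haveI := Fintype.ofFinite G
      have e : {p ∈ S | p.1 ∈ P.hyp.four h ∧ p.2 ∈ P.hyp.four h} =
          ((((P.hyp.four h : Set G) \ {1}).toFinset.offDiag : Finset (G × G)) : Set (G × G)) := by
        ext p
        simp only [Finset.coe_offDiag, Set.coe_toFinset, Set.mem_offDiag, Set.mem_sdiff, SetLike.mem_coe,
          Set.mem_singleton_iff]
        constructor
        · rintro ⟨⟨-, h1, -, hsp⟩, h2, h3⟩
          obtain ⟨-, -, -, -, -, h4, h5⟩ := hsp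
          exact ⟨⟨h2, h1⟩, ⟨h3, h4⟩, h5.symm⟩
        · rintro ⟨⟨h2, h1⟩, ⟨h3, h4⟩, h5⟩
          exact ⟨⟨hle h2, h1, hle h3, x, y, h, h2, h3, h4, h5.symm⟩, h2, h3⟩
      rw [e, Set.ncard_coe_finset, Finset.offDiag_card, ← Set.ncard_eq_toFinset_card', h3]
    · obtain ⟨hp1, hp1', hp2, hsp⟩ := hp
      obtain ⟨x, y, h, h1, h2, h3, h4⟩ := hsp
      rw [Set.ncard_eq_one]
      refine ⟨P.hyp.four h, Set.eq_singleton_iff_unique_mem.2
        ⟨⟨⟨Spec.four_le (P := P) hp1' hp1 hp2 h h1 h2 h3 h4, x, y, h, rfl⟩, h1, h2⟩, ?_⟩⟩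
      rintro F ⟨⟨-, x', y', h', rfl⟩, h1', h2'⟩
      refine (Subgroup.eq_of_le_of_card_ge (fun g hg => ?_) (by rw [P.hyp.card_four, P.hyp.card_four])).symm
      rcases P.hyp.four_elems h h1 h2 hp1' h3 h4.symm hg with rfl | rfl | rfl | rfl
      exacts [one_mem _, h1', h2', mul_mem h1' h2']
  rw [hT] at hS
  omega

/-- `f = s`. -/
theorem Kind.false_fano_one (K : P.Kind j) (hj : j = 4) {a b : Ω} (hab : a ≠ b) (hn : Odd P.n)
    (hfs : P.f = P.s) : False := by
  have hs := P.odd_s K hab hn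
  obtain ⟨E, c, hE, hsq, hfix, -⟩ := K.exists_eight hj hab hs
  refine false_of_specIn (P := P) hE hsq (m := 2) (Or.inl rfl) fun u hu hu1 => ?_
  have hu0 := K.all_I0 (Or.inl hj) (hsq u hu) hu1
  have hcu : c ∈ fix u := hfix u hu
  obtain ⟨p, hp, hpc⟩ : ∃ p ∈ (fix u : Set Ω), p ≠ c := by
    by_contra hall
    have hsub : (fix u : Set Ω) ⊆ {c} := fun p hp => by
      by_contra hne
      exact hall ⟨p, hp, hne⟩
    have := Set.ncard_le_ncard hsub
    rw [P.hf u hu0, Set.ncard_singleton] at this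
    have := P.two_le_f hab
    omega
  have huF := P.hyp.mem_four_of_fix hpc.symm (hsq u hu) hcu hp
  have hline : P.hyp.fixFour hpc.symm = fix u := P.fixFour_eq_of_eq hfs.symm hpc.symm huF hu1
  set F := P.hyp.four hpc.symm with hFdef
  have hcomm : ∀ e ∈ E, e * u = u * e := fun e he =>
    comm_of_sq (hsq e he) (hsq u hu) (hsq _ (mul_mem he hu))
  have hcn : ∀ e ∈ E, e ∈ P.cn hpc.symm u := by
    intro e he
    refine (P.mem_cn hpc.symm).2 ⟨hcomm e he, fun v => ?_⟩
    have key : ∀ e ∈ E, ∀ v ∈ F, e * v * e⁻¹ ∈ F := fun e he v hv => by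
      refine (P.hyp.mem_four hpc.symm).2 ⟨mem_pst.2 ⟨?_, ?_⟩, ?_⟩
      · show (e * v * e⁻¹) • c = c
        rw [mul_smul, mul_smul, inv_of_sq (hsq e he), hfix e he, hv.1.1, hfix e he]
      · show (e * v * e⁻¹) • p = p
        have hp' : e⁻¹ • p ∈ P.hyp.fixFour hpc.symm := by
          rw [hline]
          exact fix_of_commute (show Commute e u from hcomm e he).inv_left hp
        rw [mul_smul, mul_smul, hp' v hv, smul_inv_smul]
      · rw [show e * v * e⁻¹ * (e * v * e⁻¹) = e * (v * v) * e⁻¹ by group, hv.2, mul_one, mul_inv_cancel]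
    refine ⟨key e he v, fun hv => ?_⟩
    have := key e⁻¹ (inv_mem he) _ hv
    simpa [mul_assoc] using this
  have hcard : Nat.card E ≤ 2 * Nat.card ↥(F ⊓ E) := by
    refine card_le_two_mul E (F ⊓ E) inf_le_right fun g hg k hk hgF hkF => ?_
    refine ⟨P.line_unique hpc.symm huF hu1 hs (hcn g hg) (hcn k hk) (fun e => hgF ⟨e, hg⟩)
      (fun e => hkF ⟨e, hk⟩) ?_ ?_ (P.hyp.left_mem_fixFour _) (hfix g hg) (hfix k hk),
      E.mul_mem (E.inv_mem hg) hk⟩
    · rw [hsq g hg]; exact one_mem F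
    · rw [hsq k hk]; exact one_mem F
  have hFE : F ≤ E := by
    have h4 : F ⊓ E = F := Subgroup.eq_of_le_of_card_ge inf_le_left (by
      rw [hFdef, P.hyp.card_four, ← hFdef]; omega)
    exact h4 ▸ inf_le_right
  have e : P.specIn E u = (F : Set G) \ {1, u} := by
    ext w
    constructor
    · rintro ⟨hw, x, y, h, h1, h2, h3, h4⟩
      refine ⟨?_, by simp [h3, h4]⟩
      have hxy := P.fixFour_eq_of_eq hfs.symm h h1 hu1
      have := P.hyp.four_eq h hpc.symm (by rw [hxy]; exact hcu) (by rw [hxy]; exact hp)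
      rw [hFdef, this]; exact h2
    · rintro ⟨hw, hw'⟩
      simp only [Set.mem_insert_iff, Set.mem_singleton_iff, not_or] at hw'
      exact ⟨hFE hw, c, p, hpc.symm, huF, hw, hw'⟩
  rw [e, Set.ncard_sdiff (by rintro w (rfl | rfl); exacts [one_mem _, huF]), ← Nat.card_coe_set_eq,
    SetLike.coe_sort_coe, hFdef, P.hyp.card_four, ncard_pair _ _ (Ne.symm hu1)]

/-- `f = s²`. -/
theorem Kind.false_fano_two (K : P.Kind j) (hj : j = 4) {a b : Ω} (hab : a ≠ b) (hn : Odd P.n)
    (hfs : P.f = P.s * P.s) : False := by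
  have hf := P.odd_f hab hn
  have hs := P.odd_s K hab hn
  obtain ⟨E, c, hE, hsq, hfix, -⟩ := K.exists_eight hj hab hs
  refine false_of_specIn (P := P) hE hsq (m := 4) (Or.inr rfl) fun u hu hu1 => ?_
  have hu0 := K.all_I0 (Or.inl hj) (hsq u hu) hu1
  have hcomm : ∀ e ∈ E, e * u = u * e := fun e he =>
    comm_of_sq (hsq e he) (hsq u hu) (hsq _ (mul_mem he hu))
  have hσ : ∀ x y : Ω, x ≠ y → u • x = x → u • y = y → (P.Ssw u x y).ncard = 2 := by
    intro x y h hx hy
    have h1 := P.two_mul_sub hu0 h hx hy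
    have h2 : 1 < P.s := P.two_le_s hab
    have h3 : P.s * (P.s - 1) + P.s = P.s * P.s := by
      rw [← Nat.mul_succ]; congr 1; omega
    refine Nat.eq_of_mul_eq_mul_right (show 0 < P.s * (P.s - 1) from Nat.mul_pos (by omega) (by omega)) ?_
    omega
  obtain ⟨p, hp, hpc⟩ : ∃ p ∈ (fix u : Set Ω), p ≠ c := by
    by_contra hall
    have hsub : (fix u : Set Ω) ⊆ {c} := fun p hp => by
      by_contra hne
      exact hall ⟨p, hp, hne⟩
    have := Set.ncard_le_ncard hsub
    rw [P.hf u hu0, Set.ncard_singleton] at this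
    have := P.two_le_f hab
    omega
  have hR := K.ncard_nonspec hj hf hu0 hpc.symm (hfix u hu) hp (hσ c p hpc.symm (hfix u hu) hp)
    (hfix u hu)
  let D : Set G := (E : Set G) \ {1, u}
  have hD : D.ncard = 6 := by
    rw [Set.ncard_sdiff (by rintro w (rfl | rfl); exacts [one_mem _, hu]), ← Nat.card_coe_set_eq,
      SetLike.coe_sort_coe, hE, ncard_pair _ _ (Ne.symm hu1)]
  let N : Set G := {w ∈ D | ¬ P.Spec u w}
  have hNle : N.ncard ≤ 2 := by
    rw [← hR]
    refine Set.ncard_le_ncard ?_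
    rintro w ⟨⟨hw, hw'⟩, hns⟩
    simp only [Set.mem_insert_iff, Set.mem_singleton_iff, not_or] at hw'
    exact ⟨hsq w hw, hw'.1, hw'.2, hcomm w hw, hns, hfix w hw⟩
  have hsplit : P.specIn E u = D \ N := by
    ext w
    constructor
    · rintro ⟨hw, hsp⟩
      refine ⟨⟨hw, ?_⟩, fun e => e.2 hsp⟩
      obtain ⟨-, -, -, -, -, h3, h4⟩ := hsp
      simp [h3, h4]
    · rintro ⟨hw, hN⟩
      exact ⟨hw.1, not_not.1 fun e => hN ⟨hw, e⟩⟩
  rw [hsplit, Set.ncard_sdiff (fun w hw => hw.1), hD]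
  suffices hNge : 2 ≤ N.ncard by omega
  obtain ⟨w, hwE, hwD, hws⟩ : ∃ w, w ∈ E ∧ w ∈ D ∧ P.Spec u w := by
    by_contra hall
    have : N = D := Set.Subset.antisymm (fun w hw => hw.1) fun w hw => ⟨hw, fun e => hall ⟨w, hw.1, hw, e⟩⟩
    rw [this, hD] at hNle
    omega
  obtain ⟨x, y, h, huF, hwF, hline⟩ := Spec.fix_eq hu1 hws
  simp only [D, Set.mem_sdiff, Set.mem_insert_iff, Set.mem_singleton_iff, not_or] at hwD
  have hFE : P.hyp.four h ≤ E := Spec.four_le (P := P) hu1 hu hwE h huF hwF hwD.2.1 hwD.2.2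
  obtain ⟨e, he, heF⟩ : ∃ e ∈ E, e ∉ P.hyp.four h := by
    by_contra hall
    have := Subgroup.card_le_of_le (fun e he => not_not.1 fun hne => hall ⟨e, he, hne⟩ :
      E ≤ P.hyp.four h)
    rw [hE, P.hyp.card_four] at this
    omega
  have hew : e * w = w * e := comm_of_sq (hsq e he) (hsq w hwE) (hsq _ (mul_mem he hwE))
  have heL : ∀ r ∈ P.hyp.fixFour h, e • r ∈ P.hyp.fixFour h := fun r hr => by
    rw [hline] at hr ⊢
    exact ⟨fix_of_commute (hcomm e he) hr.1, fix_of_commute hew hr.2⟩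
  obtain ⟨r, hr, her⟩ : ∃ r ∈ P.hyp.fixFour h, e • r ≠ r := by
    by_contra hall
    have hx : e • x = x := not_not.1 fun hne => hall ⟨x, P.hyp.left_mem_fixFour h, hne⟩
    have hy : e • y = y := not_not.1 fun hne => hall ⟨y, P.hyp.right_mem_fixFour h, hne⟩
    exact heF (P.hyp.mem_four_of_fix h (hsq e he) hx hy)
  have her' := P.hyp.four_eq h (Ne.symm her : r ≠ e • r) hr (heL r hr)
  have hrs : e ∈ swapSet G r (e • r) := ⟨hsq e he, rfl⟩
  have hswap : swapSet G r (e • r) ⊆ (E : Set G) := by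
    intro t ht
    obtain ⟨J, -, -, hall⟩ := P.hyp.exists_J (Ne.symm her) hrs (K.centralizing (by omega) (Ne.symm her) hrs)
    obtain ⟨v, hv, rfl⟩ := (hall t).1 ht
    obtain ⟨v', hv', e'⟩ := (hall e).1 hrs
    rw [her'] at hv hv'
    have hJ : J = e * v' := by rw [e', mul_assoc, hv'.2, mul_one]
    rw [hJ]
    exact mul_mem (mul_mem he (hFE hv')) (hFE hv)
  have hsub : swapSet G r (e • r) \ P.Ssw u r (e • r) ⊆ N := by
    rintro t ⟨ht, hts⟩
    refine ⟨⟨hswap ht, ?_⟩, fun e' => hts ⟨ht, e'⟩⟩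
    simp only [Set.mem_insert_iff, Set.mem_singleton_iff, not_or]
    refine ⟨ne_one_of_swap (Ne.symm her) ht, fun e' => her ?_⟩
    rw [← ht.2, e', hr u huF]
  have h2 := Set.ncard_le_ncard hsub
  rw [Set.ncard_sdiff (fun t ht => ht.1), K.card_swap (Ne.symm her), if_neg (by omega),
    hσ r (e • r) (Ne.symm her) (hr u huF) (heL r hr u huF)] at h2
  exact h2

end Par

end CfsgLib.TwoTransAFour
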