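import Cfsg.Agent.Lib.TwoTransAFour.Special
import Cfsg.Agent.Lib.PermGroup.Basic
import Mathlib.GroupTheory.Transfer

/-!
Six points give `A₆`; twenty-eight points do not occur.
-/

set_option autoImplicit false
set_option linter.unusedSectionVars false
set_option linter.style.haveILetI false

namespace CfsgLib.TwoTransAFour

open MulAction Subgroup

variable {G : Type*} [Group G] [Finite G] {Ω : Type*} [Finite Ω] [MulAction G Ω]

namespace Par

variable (P : Par G Ω) {j : ℕ}

include P in
theorem faithfulSMul : FaithfulSMul G Ω :=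
  ⟨fun {g k} h => by
    have := P.faithful (k⁻¹ * g) fun x => by rw [mul_smul, h x, inv_smul_smul]
    exact (inv_mul_eq_one.1 this).symm⟩

theorem card_dvd_of_normal {a b : Ω} (hab : a ≠ b) (N : Subgroup G) [N.Normal] (hN : N ≠ ⊥) :
    P.n ∣ Nat.card N := by
  haveI := P.faithfulSMul
  haveI : IsPreprimitive G Ω := isPreprimitive_of_is_two_pretransitive P.hyp.two
  haveI := CfsgLib.PermGroup.isPretransitive_of_normal (X := Ω) hN
  rw [P.n_eq, ← index_stabilizer_of_transitive N a]
  exact index_dvd_card _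

theorem iso_six {a b : Ω} (hab : a ≠ b) (hn : P.n = 6) :
    Nonempty (G ≃* alternatingGroup (Fin 6)) := by
  classical
  haveI := Fintype.ofFinite Ω
  have hG : Nat.card G = 360 := by rw [P.card_G hab, hn]
  let e : Ω ≃ Fin 6 := Fintype.equivFinOfCardEq (by rw [← Nat.card_eq_fintype_card, ← P.n_eq, hn])
  let φ : G →* Equiv.Perm (Fin 6) :=
    (e.permCongrHom : Equiv.Perm Ω ≃* Equiv.Perm (Fin 6)).toMonoidHom.comp (MulAction.toPermHom G Ω)
  have hinj : Function.Injective φ := by
    rw [← MonoidHom.ker_eq_bot_iff, eq_bot_iff]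
    intro g hg
    refine Subgroup.mem_bot.2 (P.faithful g fun x => ?_)
    have := congrArg e.symm (Equiv.ext_iff.1 (MonoidHom.mem_ker.1 hg) (e x))
    simpa [φ] using this
  have hidx : φ.range.index = 2 := by
    have h := φ.range.card_mul_index
    rw [← Nat.card_congr (MonoidHom.ofInjective hinj).toEquiv, hG, Nat.card_perm, Nat.card_fin] at h
    norm_num [Nat.factorial] at h
    omega
  exact ⟨(MonoidHom.ofInjective hinj).trans
    (MulEquiv.subgroupCongr (Equiv.Perm.eq_alternatingGroup_of_index_eq_two hidx))⟩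

variable {P}

theorem Kind.false_of_28 (K : P.Kind j) (hj : j = 6) {a b : Ω} (hab : a ≠ b) (hn : P.n = 28)
    (hf : P.f = 4) : False := by
  haveI : Fact (Nat.Prime 7) := ⟨by norm_num⟩
  have hG : Nat.card G = 9072 := by rw [P.card_G hab, hn]
  let Q : Sylow 7 G := default
  have hQ : Nat.card (Q : Subgroup G) = 7 := by
    obtain ⟨k, hk⟩ := IsPGroup.iff_card.1 Q.2
    have h1 : 7 ^ k ∣ 9072 := hG ▸ hk ▸ card_subgroup_dvd_card _
    have h2 : 7 ∣ Nat.card (Q : Subgroup G) := Q.dvd_card_of_dvd_card (by rw [hG]; norm_num)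
    rcases k with _ | _ | k
    · rw [hk] at h2; norm_num at h2
    · simpa using hk
    · have : 7 ^ 2 ∣ 9072 := (pow_dvd_pow 7 (by omega : 2 ≤ k + 1 + 1)).trans h1
      norm_num at this
  set N := normalizer ((Q : Subgroup G) : Set G)
  have hC : ¬ 2 ∣ Nat.card (centralizer ((Q : Subgroup G) : Set G)) := by
    intro h
    obtain ⟨u, hu⟩ := exists_prime_orderOf_dvd_card' 2 h
    rw [← Subgroup.orderOf_coe] at hu
    have hu2 : (u : G) * u = 1 := by rw [← pow_two, ← hu, pow_orderOf_eq_one]
    have hu1 : (u : G) ≠ 1 := fun e => by rw [e, orderOf_one] at hu; omega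
    have hle : (Q : Subgroup G) ≤ centralizer ({(u : G)} : Set G) := fun q hq =>
      mem_centralizer_singleton_iff.2 (mem_centralizer_iff.1 u.2 q hq)
    have := Subgroup.card_dvd_of_le hle
    rw [hQ, P.card_cent (K.all_I0 (Or.inr hj) hu2 hu1), hf] at this
    norm_num at this
  have hN4 : ¬ 4 ∣ Nat.card N := by
    intro h
    let φ := (Q : Subgroup G).normalizerMonoidHom
    have h1 : Nat.card φ.ker * Nat.card φ.range = Nat.card N := by
      rw [← Subgroup.index_ker, Subgroup.card_mul_index]
    have h2 : Nat.card φ.range ∣ 6 := by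
      haveI : IsCyclic (Q : Subgroup G) := isCyclic_of_prime_card hQ
      have := card_subgroup_dvd_card φ.range
      rwa [IsCyclic.card_mulAut, hQ, Nat.totient_prime (by norm_num : Nat.Prime 7)] at this
    have h3 : ¬ 2 ∣ Nat.card φ.ker := by
      intro h3
      refine hC (h3.trans ?_)
      rw [Subgroup.normalizerMonoidHom_ker]
      rw [Nat.card_congr (subgroupOfEquivOfLe (centralizer_le_normalizer _)).toEquiv]
    have h4 : Nat.Coprime 4 (Nat.card φ.ker) :=
      Nat.Coprime.pow_left 2 ((Nat.prime_two.coprime_iff_not_dvd).2 h3)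
    have := (h4.dvd_of_dvd_mul_left (h1 ▸ h)).trans h2
    norm_num at this
  have hidx : Nat.card (Sylow 7 G) = N.index := Q.card_eq_index_normalizer
  have hmul := N.card_mul_index
  rw [hG, ← hidx] at hmul
  have h1296 : Nat.card (Sylow 7 G) ∣ 1296 := by
    have := Q.card_dvd_index
    have h := (Q : Subgroup G).card_mul_index
    rw [hQ, hG] at h
    rwa [show (Q : Subgroup G).index = 1296 by omega] at this
  have hmod := card_sylow_modEq_one 7 G
  unfold Nat.ModEq at hmod
  have h8 : 8 ∣ Nat.card (Sylow 7 G) := by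
    by_contra h8
    obtain ⟨c, hc⟩ := h1296
    generalize Nat.card (Sylow 7 G) = d at hmul hc h8 ⊢
    apply hN4
    have hd : 8 ∣ Nat.card N * d := by rw [hmul]; norm_num
    by_cases hd4 : 4 ∣ d
    · obtain ⟨d', rfl⟩ := hd4
      have hd' : ¬ 2 ∣ d' := fun ⟨e, he⟩ => h8 ⟨e, by omega⟩
      have h16 : 16 ∣ Nat.card N * (4 * d') := by rw [hmul]; norm_num
      have h4 : 4 ∣ Nat.card N * d' := by
        obtain ⟨e, he⟩ := h16
        exact ⟨e, by linarith⟩
      exact Nat.Coprime.dvd_of_dvd_mul_right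
        (Nat.Coprime.pow_left 2 ((Nat.prime_two.coprime_iff_not_dvd).2 hd')) h4
    · have h16 : 16 ∣ Nat.card N * d := by rw [hmul]; norm_num
      by_cases hd2 : 2 ∣ d
      · obtain ⟨d', rfl⟩ := hd2
        have hd' : ¬ 2 ∣ d' := fun ⟨e, he⟩ => hd4 ⟨e, by omega⟩
        have h8' : 8 ∣ Nat.card N * d' := by
          obtain ⟨e, he⟩ := h16
          exact ⟨e, by linarith⟩
        exact Nat.Coprime.dvd_of_dvd_mul_right
          (Nat.Coprime.pow_left 2 ((Nat.prime_two.coprime_iff_not_dvd).2 hd'))
          ((by norm_num : 4 ∣ 8).trans h8')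
      · exact Nat.Coprime.dvd_of_dvd_mul_right
          (Nat.Coprime.pow_left 2 ((Nat.prime_two.coprime_iff_not_dvd).2 hd2))
          ((by norm_num : 4 ∣ 16).trans h16)
  have hcases : Nat.card (Sylow 7 G) = 8 ∨ Nat.card (Sylow 7 G) = 1296 := by
    obtain ⟨k, hk⟩ := h8
    rw [hk] at h1296 hmod ⊢
    have hk' : k ∣ 162 := Nat.dvd_of_mul_dvd_mul_left (by norm_num : 0 < 8) h1296
    have hle : k ≤ 162 := Nat.le_of_dvd (by norm_num) hk'
    rcases (show k ≤ 1 ∨ (1 < k ∧ k < 81) ∨ 81 ≤ k by omega) with h | ⟨h, h'⟩ | h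
    · interval_cases k
      · simp at hmod
      · left; rfl
    · interval_cases k <;> first
        | (norm_num at hk'; done)
        | omega
    · obtain ⟨c, hc⟩ := hk'
      have : c ≤ 2 := by nlinarith
      interval_cases c <;> omega
  rcases hcases with h | h
  · rw [h] at hmul
    let φ : G →* Equiv.Perm (Sylow 7 G) := MulAction.toPermHom G (Sylow 7 G)
    have hker : φ.ker ≤ N := fun g hg => by
      show g ∈ normalizer ((Q : Subgroup G) : Set G)
      exact Sylow.smul_eq_iff_mem_normalizer.1 (Equiv.ext_iff.1 (MonoidHom.mem_ker.1 hg) Q)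
    have hne : φ.ker ≠ ⊥ := by
      intro e
      have h1 := Subgroup.card_dvd_of_injective φ ((MonoidHom.ker_eq_bot_iff φ).1 e)
      rw [hG, Nat.card_perm, h] at h1
      norm_num [Nat.factorial] at h1
    have h28 := (P.card_dvd_of_normal hab φ.ker hne).trans (Subgroup.card_dvd_of_le hker)
    rw [hn, show Nat.card N = 1134 by omega] at h28
    norm_num at h28
  · rw [h] at hmul
    have hNQ : (Q : Subgroup G) = N := Subgroup.eq_of_le_of_card_ge Subgroup.le_normalizer
      (by rw [hQ]; omega)
    haveI : IsCyclic (Q : Subgroup G) := isCyclic_of_prime_card hQ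
    have hP : normalizer ((Q : Subgroup G) : Set G) ≤ centralizer ((Q : Subgroup G) : Set G) := by
      show N ≤ _
      rw [← hNQ, Subgroup.le_centralizer_iff_isMulCommutative]
      exact IsCyclic.isMulCommutative
    have hc := MonoidHom.ker_transferSylow_isComplement' Q hP
    have h1 := hc.card_mul
    rw [hQ, hG] at h1
    set M := (MonoidHom.transferSylow Q hP).ker
    have hM : M ≠ ⊥ := fun e => by rw [e, Subgroup.card_bot] at h1; omega
    have h28 := P.card_dvd_of_normal hab M hM
    rw [hn, show Nat.card M = 1296 by omega] at h28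
    norm_num at h28

end Par

end CfsgLib.TwoTransAFour
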