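import Cfsg.Agent.Lib.TwoTransAFour.OddDouble
import Cfsg.Agent.Lib.PGroup.MaximalClass
import Cfsg.Agent.Lib.TwoGroups85.MaxClass
import Cfsg.Agent.Lib.DGroup.RankOne
import Cfsg.Agent.Lib.TwoTransAFour.Small

/-!
`j = 6`, odd degree: dihedral Sylow 2-subgroups, and the degree is 15 with group `A₇`.
-/

set_option autoImplicit false
set_option linter.unusedSectionVars false
set_option linter.style.haveILetI false

namespace CfsgLib.TwoTransAFour

open MulAction Subgroup

universe u

theorem arith_six {c r f : ℕ} {q δ : ℤ} (hf : 3 ≤ f) (hr : 2 * r + 1 ≤ f) (hcr : c ∣ r) (hr0 : 0 < r)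
    (hc : 0 < c) (hδ : δ = 1 ∨ δ = -1)
    (h1 : (c : ℤ) * (q - δ) = 4 * ((f : ℤ) * ((f : ℤ) - 1)))
    (h2 : 2 * (3 * (4 * (f : ℤ) * f - 1)) = q * (q + δ)) : False := by
  have hle : (c : ℤ) ≤ r := by exact_mod_cast Nat.le_of_dvd hr0 hcr
  have hc' : (0 : ℤ) < c := by exact_mod_cast hc
  have hr' : 2 * (r : ℤ) + 1 ≤ f := by exact_mod_cast hr
  have hf' : (3 : ℤ) ≤ f := by exact_mod_cast hf
  have h3 : 8 * (f : ℤ) ≤ q - δ := by
    by_contra hlt
    have h4 : (c : ℤ) * (q - δ) < r * (8 * (f : ℤ)) := by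
      by_cases hq : 0 ≤ q - δ
      · calc (c : ℤ) * (q - δ) ≤ r * (q - δ) := mul_le_mul_of_nonneg_right hle hq
          _ < r * (8 * (f : ℤ)) := mul_lt_mul_of_pos_left (by omega) (by omega)
      · calc (c : ℤ) * (q - δ) ≤ 0 := by nlinarith
          _ < r * (8 * (f : ℤ)) := by positivity
    nlinarith
  rcases hδ with rfl | rfl <;> nlinarith

/-- The moved points of an element squaring to the identity on `Δ` come in pairs. -/
theorem even_ncard_moved' {G : Type*} [Group G] [Finite G] {Ω : Type*} [Finite Ω] [MulAction G Ω]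
    (Δ : Set Ω) {t : G} (hΔ : ∀ x ∈ Δ, t • x ∈ Δ) (hsq : ∀ x ∈ Δ, t • t • x = x) :
    Even {x ∈ Δ | t • x ≠ x}.ncard := by
  let σ : Equiv.Perm Δ :=
    { toFun := fun x => ⟨t • (x : Ω), hΔ x x.2⟩
      invFun := fun x => ⟨t • (x : Ω), hΔ x x.2⟩
      left_inv := fun x => Subtype.ext (hsq x x.2)
      right_inv := fun x => Subtype.ext (hsq x x.2) }
  have h := even_ncard_moved (G := Equiv.Perm Δ) (Ω := Δ) (Set.univ : Set Δ) (t := σ)
    (Equiv.ext fun x => Subtype.ext (hsq x x.2)) fun _ _ => Set.mem_univ _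
  convert h using 1
  rw [← Set.ncard_image_of_injective _ Subtype.val_injective]
  congr 1
  ext x
  constructor
  · rintro ⟨hx, hne⟩
    exact ⟨⟨x, hx⟩, ⟨trivial, fun e => hne (congrArg Subtype.val e)⟩, rfl⟩
  · rintro ⟨y, ⟨-, hne⟩, rfl⟩
    exact ⟨y.2, fun e => hne (Subtype.ext e)⟩

/-- Counting per point: `k` elements of a conjugation-invariant set per pair of `Δ`, each moving all but
one point of `Δ`, give `k` elements per point. -/
theorem ncard_point {G : Type*} [Group G] [Finite G] {Ω : Type*} [Finite Ω] [MulAction G Ω]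
    (H : Subgroup G) (Δ : Set Ω) (T : Set G) {k : ℕ} (hΔ : 2 ≤ Δ.ncard)
    (hT : ∀ g ∈ H, ∀ t ∈ T, g * t * g⁻¹ ∈ T) (hinv : ∀ t ∈ T, ∀ w ∈ Δ, t • w ∈ Δ)
    (hone : ∀ t ∈ T, {w ∈ Δ | t • w = w}.ncard = 1)
    (hpair : ∀ p ∈ pairs Δ, {t ∈ T | t • p.1 = p.2}.ncard = k)
    (htr : ∀ c ∈ Δ, ∀ w ∈ Δ, ∃ g ∈ H, g • c = w) {c : Ω} (hc : c ∈ Δ) :
    {t ∈ T | t • c = c}.ncard = k := by
  have h1 : T.ncard * (Δ.ncard - 1) = Δ.ncard * (Δ.ncard - 1) * k := by
    rw [← ncard_pairs]
    refine double_count T (pairs Δ) (fun t p => t • p.1 = p.2) (fun t ht => ?_) hpair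
    rw [ncard_swapped Δ (t := t) (hinv t ht)]
    have h2 := ncard_moved Δ t
    rw [hone t ht] at h2
    omega
  have hTk : T.ncard = Δ.ncard * k :=
    Nat.eq_of_mul_eq_mul_right (show 0 < Δ.ncard - 1 by omega) (h1.trans (by ring))
  have hfib : ∀ w ∈ Δ, {t ∈ T | t • w = w}.ncard = {t ∈ T | t • c = c}.ncard := by
    intro w hw
    obtain ⟨g, hg, rfl⟩ := htr c hc w hw
    refine (Set.ncard_congr (s := {t ∈ T | t • c = c}) (fun t _ => g * t * g⁻¹) ?_
      (fun s t _ _ e => mul_left_cancel (mul_right_cancel e)) ?_).symm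
    · rintro t ⟨ht, htc⟩
      refine ⟨hT g hg t ht, ?_⟩
      show (g * t * g⁻¹) • g • c = g • c
      rw [mul_smul, inv_smul_smul, mul_smul, htc]
    · rintro t ⟨ht, htw⟩
      refine ⟨g⁻¹ * t * g, ⟨by simpa using hT g⁻¹ (inv_mem hg) t ht, ?_⟩, by group⟩
      rw [mul_smul, mul_smul, htw, inv_smul_smul]
  have h2 := double_count T Δ (fun t w => t • w = w) (m := 1) hone hfib
  rw [hTk, mul_one] at h2
  exact (Nat.eq_of_mul_eq_mul_left (show 0 < Δ.ncard by omega) h2).symm

variable {G : Type u} [Group G] [Finite G] {Ω : Type*} [Finite Ω] [MulAction G Ω]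

namespace Par

variable {P : Par G Ω} {j : ℕ}

section Six

variable (K : P.Kind j) (hj : j = 6)
include K hj

theorem Kind.not_comm_six {p q : Ω} (h : p ≠ q) {z v t : G} (hz : z ∈ P.hyp.four h) (hv : v ∈ P.hyp.four h)
    (hz1 : z ≠ 1) (hv1 : v ≠ 1) (hzv : z ≠ v) (ht : t ∈ swapSet G p q) (htz : t * z = z * t) :
    t * v * t = z * v := by
  have hn := K.not_centralizing hj h ht
  have hne : t * v * t ≠ v := fun e => hn (P.hyp.centralizing_of_two h hz hv hz1 hv1 hzv htz (by
    calc t * v = t * v * (t * t) := by rw [ht.1, mul_one]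
      _ = t * v * t * t := by group
      _ = v * t := by rw [e]))
  rcases P.hyp.four_elems h hz hv hz1 hv1 hzv (P.hyp.swap_conj_four h ht hv) with e | e | e | e
  · exact absurd (by
      calc v = t * t * v * (t * t) := by rw [ht.1, one_mul, mul_one]
        _ = t * (t * v * t) * t := by group
        _ = 1 := by rw [e, mul_one, ht.1]) hv1
  · exact absurd (show z = v by
      calc z = t * t * z := by rw [ht.1, one_mul]
        _ = t * (t * v * t) * t * 1 := by rw [e, mul_assoc t z t, ← htz]; group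
        _ = t * t * v * (t * t) := by group
        _ = v := by rw [ht.1, one_mul, mul_one]) hzv
  · exact absurd e hne
  · exact e

/-- An element of `C(z)` centralising the four-group and acting as an involution is in it. -/
theorem Kind.mem_four_of_cent {x y : Ω} (h : x ≠ y) {z v g : G} (hz : z ∈ P.hyp.four h)
    (hv : v ∈ P.hyp.four h) (hz1 : z ≠ 1) (hv1 : v ≠ 1) (hzv : z ≠ v) (hgz : g * z = z * g)
    (hgv : g * v = v * g) (hgg : g * g ∈ P.hyp.four h) : g ∈ P.hyp.four h := by
  have hgn : g ∈ P.cn h z := P.mem_cn_of h hz hv hz1 hv1 hzv hgz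
    (Or.inl (by rw [hgv, mul_inv_cancel_right]))
  by_cases hfix : g • x = x ∧ g • y = y
  · exact P.hyp.cent_pst h hz hz1 hfix hgz.symm
  obtain ⟨p, hp, hgp⟩ : ∃ p ∈ P.hyp.fixFour h, g • p ≠ p := by
    by_contra hall
    exact hfix ⟨not_not.1 fun e => hall ⟨x, P.hyp.left_mem_fixFour h, e⟩,
      not_not.1 fun e => hall ⟨y, P.hyp.right_mem_fixFour h, e⟩⟩
  exfalso
  have hq := P.smul_mem_fixFour h hgn hp
  have hgq : g • g • p = p := by rw [← mul_smul]; exact hp _ hgg
  have hpq : p ≠ g • p := Ne.symm hgp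
  have e := P.hyp.four_eq h hpq hp hq
  have hz' : z ∈ P.hyp.four hpq := e.symm ▸ hz
  have hv' : v ∈ P.hyp.four hpq := e.symm ▸ hv
  obtain ⟨t, ht, htz⟩ := P.exists_swap_cent hpq hz' hz1
  obtain ⟨w, hw, hgw⟩ := P.swap_eq_mul hpq hz' hz1 ht htz hgz rfl hgq
  have h1 := K.not_comm_six hj hpq hz' hv' hz1 hv1 hzv ht htz
  have htv : t * v = v * t := by
    have ht' : t = g * w := by rw [hgw, mul_assoc, hw.2, mul_one]
    rw [ht', mul_assoc, P.hyp.four_comm hpq hw hv', ← mul_assoc, hgv, mul_assoc]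
  rw [htv, mul_assoc, ht.1, mul_one] at h1
  exact hz1 (mul_eq_right.1 h1.symm)

theorem Kind.mem_four_of_two {x y : Ω} (h : x ≠ y) {z v g : G} (hz : z ∈ P.hyp.four h)
    (hv : v ∈ P.hyp.four h) (hz1 : z ≠ 1) (hv1 : v ≠ 1) (hzv : z ≠ v) (hgz : g * z = z * g)
    (hgv : g * v = v * g) {k : ℕ} (hk : g ^ 2 ^ k = 1) : g ∈ P.hyp.four h := by
  by_contra hg
  obtain ⟨m, hm, hm2⟩ := exists_sq_mem (P.hyp.four h) hk hg
  exact hm (K.mem_four_of_cent hj h hz hv hz1 hv1 hzv (((show Commute g z from hgz).pow_left _).eq)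
    (((show Commute g v from hgv).pow_left _).eq) hm2)

/-- At most two elements with square `z` fix a given point. -/
theorem Kind.ncard_sq {z : G} (hz : P.hyp.I0 z) (hf : Odd P.f) {c : Ω} (hc : z • c = c) :
    {g : G | g * g = z ∧ g • c = c}.ncard = 2 := by
  have hcomm : ∀ g : G, g * g = z → g * z = z * g := fun g e => by rw [← e]; group
  have hf2 : 2 ≤ (fix z : Set Ω).ncard := by
    obtain ⟨x, y, h, -⟩ := hz.2.2
    have := P.two_le_f h
    rw [show (fix z : Set Ω).ncard = P.f from P.hf z hz]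
    exact this
  refine ncard_point (centralizer ({z} : Set G)) (fix z : Set Ω) {g : G | g * g = z} hf2 ?_ ?_ ?_ ?_ ?_ hc
  · intro g hg t ht
    show g * t * g⁻¹ * (g * t * g⁻¹) = z
    rw [show g * t * g⁻¹ * (g * t * g⁻¹) = g * (t * t) * g⁻¹ by group,
      show t * t = z from ht, mem_centralizer_singleton_iff.1 hg, mul_inv_cancel_right]
  · intro t ht w hw
    exact fix_of_commute (hcomm t ht) hw
  · intro t ht
    have h1 : {w ∈ (fix z : Set Ω) | t • w = w}.ncard ≤ 1 := by
      rw [Set.ncard_le_one]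
      intro p hp q hq
      by_contra hne
      have hzf := P.hyp.mem_four_of_fix hne hz.2.1 hp.1 hq.1
      have := P.hyp.cent_pst hne hzf hz.1 ⟨hp.2, hq.2⟩ (hcomm t ht).symm
      exact hz.1 ((show t * t = z from ht).symm.trans this.2)
    have h2 := ncard_moved (fix z : Set Ω) t
    have h3 := even_ncard_moved' (fix z : Set Ω) (fun w hw => fix_of_commute (hcomm t ht) hw)
      (fun w hw => by rw [← mul_smul, show t * t = z from ht]; exact hw)
    rw [show (fix z : Set Ω).ncard = P.f from P.hf z hz] at h2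
    obtain ⟨r, hr⟩ := hf
    obtain ⟨r', hr'⟩ := h3
    omega
  · rintro ⟨p, q⟩ ⟨hp, hq, hpq⟩
    have hzf := P.hyp.mem_four_of_fix hpq hz.2.1 hp hq
    obtain ⟨v, hv, hv1, hzv⟩ : ∃ v ∈ P.hyp.four hpq, v ≠ 1 ∧ z ≠ v := by
      obtain ⟨w, hw, -, -, hwf⟩ := P.hyp.exists_three hpq
      exact ⟨w * z * w⁻¹, (P.hyp.conj_four hpq hpq hw.1 hw.2).2 hzf,
        fun e => hz.1 (conj_eq_one_iff.1 e), (hwf z hzf hz.1).symm⟩
    obtain ⟨t, ht, htz⟩ := P.exists_swap_cent hpq hzf hz.1
    have hsq : ∀ u ∈ P.hyp.four hpq, u ≠ 1 → u ≠ z → t * u * (t * u) = z := by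
      intro u hu hu1 huz
      rw [show t * u * (t * u) = t * u * t * u by group,
        K.not_comm_six hj hpq hzf hu hz.1 hu1 huz.symm ht htz, mul_assoc, hu.2, mul_one]
    have e : {g ∈ {g : G | g * g = z} | g • p = q} =
        (fun u => t * u) '' ((P.hyp.four hpq : Set G) \ {1, z}) := by
      ext g
      constructor
      · rintro ⟨hg, hgp⟩
        have hgq : g • q = p := by rw [← hgp, ← mul_smul, show g * g = z from hg]; exact hp
        obtain ⟨u, hu, rfl⟩ := P.swap_eq_mul hpq hzf hz.1 ht htz (hcomm g hg) hgp hgq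
        refine ⟨u, ⟨hu, ?_⟩, rfl⟩
        simp only [Set.mem_insert_iff, Set.mem_singleton_iff, not_or]
        constructor <;> rintro rfl
        · exact hz.1 (hg.symm.trans (by rw [mul_one]; exact ht.1))
        · exact hz.1 (hg.symm.trans (by
            rw [show t * u * (t * u) = t * (u * t) * u by group, ← htz, ← mul_assoc, ht.1, one_mul, hz.2.1]))
      · rintro ⟨u, ⟨hu, hu'⟩, rfl⟩
        simp only [Set.mem_insert_iff, Set.mem_singleton_iff, not_or] at hu'
        refine ⟨hsq u hu hu'.1 hu'.2, ?_⟩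
        show (t * u) • p = q
        rw [mul_smul, hu.1.1, ht.2]
    rw [e, Set.ncard_image_of_injective _ (mul_right_injective t),
      Set.ncard_sdiff (by rintro w (rfl | rfl); exacts [one_mem _, hzf]), ← Nat.card_coe_set_eq,
      SetLike.coe_sort_coe, P.hyp.card_four, ncard_pair _ _ (Ne.symm hz.1)]
  · intro p hp q hq
    rcases eq_or_ne p q with rfl | hpq
    · exact ⟨1, one_mem _, one_smul G _⟩
    · obtain ⟨g, hg, e, -⟩ := P.hyp.exists_cent hz hpq hpq.symm hp hq hq hp
      exact ⟨g, mem_centralizer_singleton_iff.2 hg, e⟩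

/-- An odd number of points and `j = 6`: degree 15 and group `A₇`. -/
theorem Kind.iso_seven (hD : DihedralInput.{u}) {a b : Ω} (hab : a ≠ b) (hn : Odd P.n) :
    P.n = 15 ∧ Nonempty (G ≃* alternatingGroup (Fin 7)) := by
  haveI := Fact.mk Nat.prime_two
  obtain ⟨z, hz, hz1⟩ := P.hyp.exists_invol hab
  have hz0 := P.hyp.I0_of_mem hab hz hz1
  obtain ⟨v, hv, hv1, hzv⟩ : ∃ v ∈ P.hyp.four hab, v ≠ 1 ∧ z ≠ v := by
    obtain ⟨w, hw, -, -, hwf⟩ := P.hyp.exists_three hab
    exact ⟨w * z * w⁻¹, (P.hyp.conj_four hab hab hw.1 hw.2).2 hz,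
      fun e => hz1 (conj_eq_one_iff.1 e), (hwf z hz hz1).symm⟩
  have hf := P.odd_f hab hn
  have hs := P.odd_s K hab hn
  have hf2 := P.two_le_f hab
  have hs2 := P.two_le_s hab
  have hsf := P.s_le_f hab
  have hF4 : (P.hyp.four hab).toSubmonoid ≤ (centralizer ({z} : Set G)).toSubmonoid := fun g hg =>
    mem_centralizer_singleton_iff.2 (P.hyp.four_comm hab hg hz)
  have hC4 : P.hyp.four hab ≤ centralizer ({z} : Set G) := fun g hg => hF4 hg
  have hV2 : IsPGroup 2 (P.hyp.four hab) := IsPGroup.of_card (n := 2) (P.hyp.card_four hab)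
  -- degree and indices
  have hfn := P.f_lt_n hab
  have hnrel := K.n_rel hab
  rw [hj] at hnrel
  have hn' : P.n = P.f * (2 * P.f - 1) := by
    have h1 : P.f * (2 * P.f - 1) = P.f + 2 * (P.f * (P.f - 1)) := by
      obtain ⟨k, hk⟩ : ∃ k, P.f = k + 1 := ⟨P.f - 1, by omega⟩
      rw [hk, show 2 * (k + 1) - 1 = 2 * k + 1 by omega, show k + 1 - 1 = k by omega]; ring
    omega
  have hnZ : (P.n : ℤ) = (P.f : ℤ) * (2 * P.f - 1) := by
    rw [hn']; push_cast [Nat.cast_sub (show 1 ≤ 2 * P.f by omega)]; ring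
  have hidx : ((centralizer ({z} : Set G)).index : ℤ) = 3 * (4 * (P.f : ℤ) * P.f - 1) := by
    have h1 := (centralizer ({z} : Set G)).card_mul_index
    rw [P.card_cent hz0, P.card_G hab] at h1
    have h2 : ((4 * (P.f * (P.f - 1)) * (centralizer ({z} : Set G)).index : ℕ) : ℤ) =
        ((12 * (P.n * (P.n - 1)) : ℕ) : ℤ) := by rw [h1]
    push_cast [Nat.cast_sub (show 1 ≤ P.f by omega), Nat.cast_sub (show 1 ≤ P.n by omega)] at h2
    rw [hnZ] at h2
    refine mul_left_cancel₀ (show 4 * ((P.f : ℤ) * ((P.f : ℤ) - 1)) ≠ 0 from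
      mul_ne_zero (by norm_num) (mul_ne_zero (by omega) (by omega))) (h2.trans ?_)
    ring
  have hidxodd : ¬ 2 ∣ (centralizer ({z} : Set G)).index := by
    rintro ⟨k, hk⟩
    rw [hk] at hidx
    push_cast at hidx
    have : ((4 * (P.f : ℤ) * P.f)) = 4 * ((P.f : ℤ) * P.f) := by ring
    omega
  -- a Sylow subgroup of `G` inside `C(z)` containing the four-group
  obtain ⟨T, hT⟩ := ((hV2.comap_subtype : IsPGroup 2 ((P.hyp.four hab).subgroupOf (centralizer ({z} : Set G))))).exists_le_sylow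
  set S0 : Subgroup G := (T : Subgroup (centralizer ({z} : Set G))).map
    (centralizer ({z} : Set G)).subtype with hS0
  have hS0C : S0 ≤ centralizer ({z} : Set G) := map_subtype_le _
  have hS0idx : ¬ 2 ∣ S0.index := by
    rw [hS0, index_map_subtype]
    exact Nat.prime_two.not_dvd_mul T.not_dvd_index hidxodd
  let S : Sylow 2 G := IsPGroup.toSylow (T.2.map _ : IsPGroup 2 S0) hS0idx
  have hSeq : (S : Subgroup G) = S0 := rfl
  have h4S : P.hyp.four hab ≤ (S : Subgroup G) := fun g hg =>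
    hSeq.symm ▸ (⟨⟨g, hC4 hg⟩, hT (mem_subgroupOf.2 hg), rfl⟩ : g ∈ S0)
  have hSz : ∀ x ∈ (S : Subgroup G), x * z = z * x := fun x hx =>
    mem_centralizer_singleton_iff.1 (hS0C hx)
  have hSmem : ∀ g ∈ (S : Subgroup G), g * v = v * g → g ∈ P.hyp.four hab := fun g hg hgv => by
    obtain ⟨k, hk⟩ := S.2 ⟨g, hg⟩
    exact K.mem_four_of_two hj hab hz hv hz1 hv1 hzv (hSz g hg) hgv (k := k) (congrArg Subtype.val hk)
  -- the two-part of `cn`
  obtain ⟨Q⟩ : Nonempty (Sylow 2 (P.cn hab z)) := inferInstance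
  set Q' : Subgroup G := (Q : Subgroup (P.cn hab z)).map (P.cn hab z).subtype with hQ'
  have hQle : Q' ≤ P.cn hab z := map_subtype_le _
  have hQp : IsPGroup 2 Q' := Q.2.map _
  have hswapv : ∀ g ∈ P.cn hab z, g * v * g⁻¹ = v ∨ g * v * g⁻¹ = z * v := by
    intro g hg
    have hgz := ((P.mem_cn hab).1 hg).1
    have hgzz : g * z * g⁻¹ = z := by rw [hgz, mul_inv_cancel_right]
    rcases P.hyp.four_elems hab hz hv hz1 hv1 hzv ((((P.mem_cn hab).1 hg).2 v).1 hv) with e | e | e | e
    · exact absurd (conj_eq_one_iff.1 e) hv1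
    · exact absurd (mul_left_cancel (mul_right_cancel (e.trans hgzz.symm))) hzv.symm
    · exact Or.inl e
    · exact Or.inr e
  have hQ8 : Nat.card Q' ≤ 8 := by
    have hmem : ∀ g ∈ Q', g * v = v * g → g ∈ P.hyp.four hab := fun g hg hgv => by
      obtain ⟨k, hk⟩ := hQp ⟨g, hg⟩
      exact K.mem_four_of_two hj hab hz hv hz1 hv1 hzv ((P.mem_cn hab).1 (hQle hg)).1 hgv (k := k)
        (by simpa using congrArg Subtype.val hk)
    have h1 := card_le_two_mul Q' (P.hyp.four hab ⊓ Q') inf_le_right fun g hg k hk hgF hkF => by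
      refine ⟨hmem _ (Q'.mul_mem (Q'.inv_mem hg) hk) ?_, Q'.mul_mem (Q'.inv_mem hg) hk⟩
      have key : ∀ r ∈ Q', r ∉ P.hyp.four hab ⊓ Q' → r * v * r⁻¹ = z * v := fun r hr hrF =>
        (hswapv r (hQle hr)).resolve_left fun e =>
          hrF ⟨hmem r hr (mul_inv_eq_iff_eq_mul.1 e), hr⟩
      have eg := key g hg hgF
      have ek := key k hk hkF
      calc g⁻¹ * k * v = g⁻¹ * (k * v * k⁻¹) * k := by group
        _ = g⁻¹ * (g * v * g⁻¹) * k := by rw [ek, eg]
        _ = v * (g⁻¹ * k) := by group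
    have h2 : Nat.card ↥(P.hyp.four hab ⊓ Q') ≤ 4 :=
      P.hyp.card_four hab ▸ Subgroup.card_le_of_le inf_le_left
    omega
  have h16 : ¬ 16 ∣ Nat.card (P.cn hab z) := by
    intro h
    have h1 : 16 ∣ Nat.card (Q : Subgroup (P.cn hab z)) := Q.pow_dvd_card_of_pow_dvd_card (n := 4) h
    rw [← Subgroup.card_map_of_injective (P.cn hab z).subtype_injective, ← hQ'] at h1
    have := Nat.le_of_dvd Nat.card_pos h1
    omega
  rw [P.card_cn hab hz hz1] at h16
  obtain ⟨r, hr⟩ : ∃ r, P.s = 2 * r + 1 := hs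
  have hrodd : Odd r := by
    by_contra hre
    rw [Nat.not_odd_iff_even] at hre
    obtain ⟨k, hk⟩ := hre
    exact h16 ⟨P.s * k, by rw [show P.s - 1 = 4 * k by omega]; ring⟩
  -- `S` has order at least eight
  obtain ⟨m, hm⟩ := IsPGroup.iff_card.1 S.2
  have h8S : 8 ∣ Nat.card (S : Subgroup G) := by
    refine S.pow_dvd_card_of_pow_dvd_card (n := 3) ?_
    refine ((?_ : 2 ^ 3 ∣ Nat.card (P.cn hab z))).trans (card_subgroup_dvd_card _)
    rw [P.card_cn hab hz hz1, hr, show 2 * r + 1 - 1 = 2 * r by omega]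
    exact ⟨(2 * r + 1) * r, by ring⟩
  have hm3 : 3 ≤ m := by
    by_contra hlt
    have := Nat.le_of_dvd Nat.card_pos h8S
    rw [hm] at this
    have : 2 ^ m ≤ 2 ^ 2 := Nat.pow_le_pow_right (by norm_num) (by omega)
    omega
  -- maximal class
  set A := (P.hyp.four hab).subgroupOf (S : Subgroup G)
  have hA4 : Nat.card A = 2 ^ 2 := by
    rw [Nat.card_congr (subgroupOfEquivOfLe h4S).toEquiv, P.hyp.card_four hab]; norm_num
  have hAC : centralizer (A : Set (S : Subgroup G)) = A := by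
    ext g
    rw [mem_centralizer_iff, mem_subgroupOf]
    refine ⟨fun h => hSmem g g.2 ?_, fun h w hw => Subtype.ext ?_⟩
    · exact (congrArg Subtype.val (h ⟨v, h4S hv⟩ (mem_subgroupOf.2 hv))).symm
    · exact P.hyp.four_comm hab (mem_subgroupOf.1 hw) h
  have hclass := CfsgLib.MaxClass.class_of_selfCentralizing (p := 2) m _ hm A hA4 hAC
  have hcenter := (CfsgLib.MaxClass.center_of_class hm hm3 hclass).1
  set zS : (S : Subgroup G) := ⟨z, h4S hz⟩
  set vS : (S : Subgroup G) := ⟨v, h4S hv⟩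
  have hzc : zS ∈ center (S : Subgroup G) :=
    Subgroup.mem_center_iff.2 fun x => Subtype.ext (hSz x x.2)
  have hdih : ∃ k, 2 ≤ k ∧ Nonempty ((S : Subgroup G) ≃* DihedralGroup k) := by
    rcases CfsgLib.TwoGroups85.isDSQ_of_maximalClass hm3 hm hclass with
      ⟨i, ⟨e⟩⟩ | ⟨i, hcS', x, y, hx, hy, hrel⟩ | ⟨i, ⟨e⟩⟩
    · exact ⟨2 ^ (i + 2), le_trans (by norm_num) (Nat.pow_le_pow_right (by norm_num)
        (show 1 ≤ i + 2 by omega)), ⟨e⟩⟩
    · exfalso
      obtain ⟨c, hcF, hcS⟩ : ∃ c : Ω, z • c = c ∧ ∀ g ∈ (S : Subgroup G), g • c = c := by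
        letI : MulAction (S : Subgroup G) (fix z : Set Ω) :=
          MulAction.compHom _ ((P.fixHom z).comp (Subgroup.inclusion (show (S : Subgroup G) ≤ _ from hS0C)))
        obtain ⟨⟨c, hc⟩, hfix⟩ := S.2.nonempty_fixed_point_of_prime_not_dvd_card (fix z : Set Ω) (by
          rw [Nat.card_coe_set_eq, show (fix z : Set Ω).ncard = P.f from P.hf z hz0]
          obtain ⟨k, hk⟩ := hf
          omega)
        exact ⟨c, hc, fun g hg => congrArg Subtype.val (hfix ⟨g, hg⟩)⟩
      set N := 2 ^ (i + 2) with hN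
      have hN4 : 4 ≤ N := le_trans (by norm_num) (Nat.pow_le_pow_right (show 0 < 2 by norm_num)
        (show 2 ≤ i + 2 by omega))
      have hxo : orderOf x = 2 * N := by rw [hx, hN, ← pow_succ']
      have hxN : x ^ (2 * N) = 1 := by rw [← hxo]; exact pow_orderOf_eq_one x
      have hyy : y * y = 1 := by have := pow_orderOf_eq_one y; rwa [hy, pow_two] at this
      have hyx : ∀ n : ℕ, y * x ^ n * y⁻¹ = x ^ ((N - 1) * n) := fun n => by
        rw [← conj_pow, hrel, ← pow_mul]
      have hNc : x ^ N ∈ center (S : Subgroup G) := by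
        have hxy : y * x ^ N = x ^ N * y := by
          rw [← mul_inv_eq_iff_eq_mul, hyx]
          obtain ⟨k, hk⟩ : ∃ k, N = 2 * k + 2 := ⟨2 ^ (i + 1) - 1, by
            have : N = 2 * 2 ^ (i + 1) := by rw [hN, pow_succ']
            have : 1 ≤ 2 ^ (i + 1) := Nat.one_le_two_pow
            omega⟩
          rw [show (N - 1) * N = 2 * N * k + N by rw [hk, show 2 * k + 2 - 1 = 2 * k + 1 by omega]; ring,
            pow_add, pow_mul, hxN, one_pow, one_mul]
        have hgen : ∀ g : (S : Subgroup G), g ∈ zpowers x ∨ g * y ∈ zpowers x := by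
          intro g
          have hyn : y ∉ zpowers x := by
            intro hmem
            obtain ⟨k, rfl⟩ := mem_zpowers_iff.1 hmem
            rw [((Commute.refl x).zpow_left k).eq, mul_inv_cancel_right] at hrel
            have h1 : x ^ (N - 2) = 1 := by
              have : x ^ (N - 2) * x = 1 * x := by
                rw [one_mul, ← pow_succ, show N - 2 + 1 = N - 1 by omega]; exact hrel.symm
              exact mul_right_cancel this
            have := Nat.le_of_dvd (by omega) (orderOf_dvd_of_pow_eq_one h1)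
            omega
          have hidx2 : (zpowers x).index = 2 := by
            have h1 := (zpowers x).card_mul_index
            rw [Nat.card_zpowers, hxo] at h1
            have hcardS : Nat.card (S : Subgroup G) = 4 * N := by
              rw [hcS', hN]; ring
            rw [hcardS] at h1
            exact Nat.eq_of_mul_eq_mul_left (show 0 < 2 * N by omega) (h1.trans (by ring))
          by_cases hg : g ∈ zpowers x
          · exact Or.inl hg
          · exact Or.inr ((mul_mem_iff_of_index_two hidx2).2 (iff_of_false hg hyn))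
        refine Subgroup.mem_center_iff.2 fun g => ?_
        rcases hgen g with h | h <;> obtain ⟨k, hk⟩ := mem_zpowers_iff.1 h
        · rw [← hk]; exact (((Commute.refl x).zpow_left k).pow_right N).eq
        · have hg : g = x ^ k * y := by rw [hk, mul_assoc, hyy, mul_one]
          rw [hg]
          exact ((((Commute.refl x).zpow_left k).pow_right N).mul_left hxy).eq
      have hzN : x ^ N = zS := by
        by_contra hne
        have hsub : ({1, zS, x ^ N} : Set (S : Subgroup G)) ⊆ (center (S : Subgroup G) : Set _) := by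
          rintro w (rfl | rfl | rfl)
          exacts [one_mem _, hzc, hNc]
        have := Set.ncard_le_ncard hsub
        replace := this.trans_eq ((Nat.card_coe_set_eq _).symm.trans hcenter)
        have h1 : (1 : (S : Subgroup G)) ≠ zS := fun e => hz1 (congrArg Subtype.val e).symm
        have h2 : (1 : (S : Subgroup G)) ≠ x ^ N := fun e => by
          have := Nat.le_of_dvd (by omega) (orderOf_dvd_of_pow_eq_one e.symm)
          omega
        rw [Set.ncard_insert_of_notMem (by simp [h1, h2]), ncard_pair _ _ (Ne.symm hne)] at this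
        omega
      obtain ⟨M, hM⟩ : ∃ M, N = 2 * M := ⟨2 ^ (i + 1), by rw [hN, pow_succ']⟩
      have q1 : x ^ M * x ^ M = zS := by rw [← pow_add, ← two_mul, ← hM, hzN]
      have q2 : x ^ (3 * M) * x ^ (3 * M) = zS := by
        rw [← pow_add, show 3 * M + 3 * M = 2 * N + N by omega, pow_add, hxN, one_mul, hzN]
      have q3 : x * y * (x * y) = zS := by
        calc x * y * (x * y) = x * (y * x * y⁻¹) * (y * y) := by group
          _ = zS := by rw [hrel, hyy, mul_one, ← pow_succ', show N - 1 + 1 = N by omega, hzN]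
      have hxy : x * y ∉ zpowers x := fun hmem => by
        have hyn : y ∈ zpowers x := by
          have := mul_mem (inv_mem (mem_zpowers x)) hmem
          rwa [inv_mul_cancel_left] at this
        obtain ⟨k, rfl⟩ := mem_zpowers_iff.1 hyn
        rw [((Commute.refl x).zpow_left k).eq, mul_inv_cancel_right] at hrel
        have h1 : x ^ (N - 2) = 1 := by
          have : x ^ (N - 2) * x = 1 * x := by
            rw [one_mul, ← pow_succ, show N - 2 + 1 = N - 1 by omega]; exact hrel.symm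
          exact mul_right_cancel this
        have := Nat.le_of_dvd (by omega) (orderOf_dvd_of_pow_eq_one h1)
        omega
      have d12 : x ^ M ≠ x ^ (3 * M) := fun e => by
        have := pow_injOn_Iio_orderOf (show M ∈ Set.Iio (orderOf x) by rw [Set.mem_Iio, hxo]; omega)
          (show 3 * M ∈ Set.Iio (orderOf x) by rw [Set.mem_Iio, hxo]; omega) e
        omega
      have d13 : x ^ M ≠ x * y := fun e => hxy (e ▸ pow_mem (mem_zpowers x) M)
      have d23 : x ^ (3 * M) ≠ x * y := fun e => hxy (e ▸ pow_mem (mem_zpowers x) (3 * M))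
      have hsub : Subtype.val '' ({x ^ M, x ^ (3 * M), x * y} : Set (S : Subgroup G)) ⊆
          {g : G | g * g = z ∧ g • c = c} := by
        rintro _ ⟨w, hw, rfl⟩
        refine ⟨?_, hcS _ w.2⟩
        rcases hw with rfl | rfl | rfl
        exacts [congrArg Subtype.val q1, congrArg Subtype.val q2, congrArg Subtype.val q3]
      have := Set.ncard_le_ncard hsub
      rw [K.ncard_sq hj hz0 hf hcF, Set.ncard_image_of_injective _ Subtype.val_injective,
        Set.ncard_insert_of_notMem (by simp [d12, d13]), ncard_pair _ _ d23] at this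
      omega
    · exfalso
      have h1 := CfsgLib.DGroup.quaternion_involution (p := e zS) (q := e vS)
        (by rw [← map_mul, show zS * zS = 1 from Subtype.ext hz.2, map_one])
        (fun h => hz1 (congrArg Subtype.val (e.injective (h.trans (map_one e).symm))))
        (by rw [← map_mul, show vS * vS = 1 from Subtype.ext hv.2, map_one])
        (fun h => hv1 (congrArg Subtype.val (e.injective (h.trans (map_one e).symm))))
      exact hzv (congrArg Subtype.val (e.injective h1))
  obtain ⟨k, hk2, ⟨eS⟩⟩ := hdih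
  -- trivial core
  haveI := P.faithfulSMul
  have hO : Cfsg.oddCore G = ⊥ := by
    refine oddCore_eq_bot_of_degree P.hyp.two (by rw [← P.n_eq]; omega) ?_
    rw [← P.n_eq, hn']
    refine not_isPrimePow_mul hf2 (by omega) (Nat.Coprime.symm ?_)
    rw [show 2 * P.f - 1 = (P.f - 1) + P.f by omega, Nat.coprime_add_self_left]
    exact (Nat.coprime_self_sub_left (by omega)).2 (Nat.coprime_one_left _)
  have hzo : orderOf z = 2 := orderOf_eq_prime (by rw [pow_two]; exact hz.2) hz1
  have hone : ∀ w : G, orderOf w = 2 → ∃ g : G, g * z * g⁻¹ = w := fun w hw => by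
    refine P.hyp.isConj_I0 hz0 (K.all_I0 (Or.inr hj) ?_ fun e => ?_)
    · rw [← pow_two, ← hw, pow_orderOf_eq_one]
    · rw [e, orderOf_one] at hw; omega
  have hGc := P.card_G hab
  have h3 : 3 ∣ Nat.card G := hGc ▸ Dvd.dvd.mul_right (by norm_num) _
  have hns : ¬ Nat.card G ∣ 24 := fun h => by
    have h1 := Nat.le_of_dvd (by norm_num) h
    rw [hGc] at h1
    have : 3 * 2 ≤ P.n * (P.n - 1) := Nat.mul_le_mul (by omega) (by omega)
    omega
  have hf3 : 3 ≤ P.f := by
    obtain ⟨k, hk⟩ := hf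
    omega
  rcases hD hO S hk2 eS (h4S hz) hzo hSz hone h3 hns with
    ⟨q, c, δ, -, -, hδ, hcodd, hcd, h1, h2⟩ | ⟨h105, L, -, ⟨eL⟩⟩
  swap
  · rw [h105] at hidx
    have hf9 : P.f = 3 := by
      have : (P.f : ℤ) * P.f = 9 := by push_cast at hidx; linarith
      have h' : (P.f : ℤ) = 3 := by nlinarith
      exact_mod_cast h'
    have hn15 : P.n = 15 := by rw [hn', hf9]
    refine ⟨hn15, ?_⟩
    have hG : Nat.card G = 2520 := by rw [hGc, hn15]
    have hL : Nat.card L = Nat.card G := by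
      rw [Nat.card_congr eL.toEquiv, hG, nat_card_alternatingGroup, Nat.card_fin]
      norm_num [Nat.factorial]
    rw [Subgroup.eq_top_of_card_eq L hL] at eL
    exact ⟨(topEquiv).symm.trans eL⟩
  exfalso
  -- the centraliser of `S`
  obtain ⟨t, htS, htV, htn⟩ : ∃ t ∈ (S : Subgroup G), t ∉ P.hyp.four hab ∧ t ∈ P.cn hab z := by
    have hne : A ≠ ⊤ := fun e => by
      have h1 : Nat.card A = Nat.card (S : Subgroup G) := by rw [e, card_top]
      rw [hA4] at h1
      have := Nat.le_of_dvd Nat.card_pos h8S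
      omega
    haveI : Group.IsNilpotent (S : Subgroup G) := S.2.isNilpotent
    have hlt := Group.normalizerCondition_of_isNilpotent (G := (S : Subgroup G)) A (lt_top_iff_ne_top.2 hne)
    obtain ⟨⟨t, htS⟩, htn, htA⟩ := SetLike.exists_of_lt hlt
    refine ⟨t, htS, fun e => htA (mem_subgroupOf.2 e), ?_⟩
    have hconj := (Subgroup.mem_normalizer_iff.1 htn ⟨v, h4S hv⟩).1 (mem_subgroupOf.2 hv)
    rw [mem_subgroupOf] at hconj
    have htz := hSz t htS
    rcases P.hyp.four_elems hab hz hv hz1 hv1 hzv hconj with e | e | e | e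
    · exact absurd (conj_eq_one_iff.1 e) hv1
    · exact absurd (mul_left_cancel (mul_right_cancel (e.trans
        (by rw [htz, mul_inv_cancel_right] : z = t * z * t⁻¹)))) hzv.symm
    · exact P.mem_cn_of hab hz hv hz1 hv1 hzv htz (Or.inl e)
    · exact P.mem_cn_of hab hz hv hz1 hv1 hzv htz (Or.inr e)
  have htv : t * v ≠ v * t := fun e => htV (hSmem t htS e)
  obtain ⟨c₀, hc₀, htc₀⟩ := P.exists_fix_line hab ⟨r, hr⟩ (zpowers t)
    (S.2.to_le (zpowers_le.2 htS)) (zpowers_le.2 htn)
  have htc : t • c₀ = c₀ := htc₀ t (mem_zpowers t)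
  set B := P.cn hab z ⊓ stabilizer G c₀
  have hle : centralizer ((S : Subgroup G) : Set G) ≤ B ⊓ centralizer ({v} : Set G) := by
    intro g hg
    rw [mem_centralizer_iff] at hg
    have hgv : g * v = v * g := (hg v (h4S hv)).symm
    have hgz : g * z = z * g := (hg z (h4S hz)).symm
    have hgn : g ∈ P.cn hab z := P.mem_cn_of hab hz hv hz1 hv1 hzv hgz
      (Or.inl (by rw [hgv, mul_inv_cancel_right]))
    refine ⟨⟨hgn, P.fix_of_commute_action hab hz hz1 hgn htn htV hc₀ htc ?_⟩,
      mem_centralizer_singleton_iff.2 hgv⟩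
    rw [← hg t htS, mul_inv_cancel_right, inv_mul_cancel]
    exact one_mem _
  have hB : Nat.card B = 4 * (P.s - 1) := P.card_point_cn hab hz hz1 hc₀
  have hcdiv : c ∣ 4 * (2 * r) := by
    have h5 := hcd.trans ((Subgroup.card_dvd_of_le hle).trans (Subgroup.card_dvd_of_le inf_le_left))
    rwa [hB, hr, show 2 * r + 1 - 1 = 2 * r by omega] at h5
  have hcr : c ∣ r := by
    rw [← mul_assoc] at hcdiv
    exact Nat.Coprime.dvd_of_dvd_mul_left
      (Nat.Coprime.pow_right 3 ((Nat.coprime_two_right).2 hcodd)) hcdiv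
  rw [P.card_cent hz0] at h1
  push_cast [Nat.cast_sub (show 1 ≤ P.f by omega)] at h1
  rw [hidx] at h2
  exact arith_six hf3 (by omega) hcr (by obtain ⟨k, hk⟩ := hrodd; omega) hcodd.pos hδ h1 h2

end Six

end Par

end CfsgLib.TwoTransAFour
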