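import Cfsg.Agent.Lib.TwoTransAFour.OddBase
import Cfsg.Agent.Lib.TwoTransAFour.Sharp

/-!
Tools for an odd number of points.
-/

set_option autoImplicit false
set_option linter.unusedSectionVars false
set_option linter.style.haveILetI false

namespace CfsgLib.TwoTransAFour

open MulAction Subgroup

universe u

/-- The input on groups with dihedral Sylow 2-subgroups and one class of involutions. -/
def DihedralInput : Prop :=
  ∀ {X : Type u} [Group X] [Finite X] (_ : Cfsg.oddCore X = ⊥) (S : Sylow 2 X) {k : ℕ} (_ : 2 ≤ k)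
    (_ : (S : Subgroup X) ≃* DihedralGroup k) {z : X} (_ : z ∈ (S : Subgroup X)) (_ : orderOf z = 2)
    (_ : ∀ x ∈ (S : Subgroup X), x * z = z * x)
    (_ : ∀ u : X, orderOf u = 2 → ∃ g : X, g * z * g⁻¹ = u) (_ : 3 ∣ Nat.card X)
    (_ : ¬ Nat.card X ∣ 24),
  (∃ (q c : ℕ) (δ : ℤ), 5 ≤ q ∧ Odd q ∧ (δ = 1 ∨ δ = -1) ∧ Odd c ∧
      c ∣ Nat.card ↥(centralizer ((S : Subgroup X) : Set X)) ∧
      (c : ℤ) * ((q : ℤ) - δ) = Nat.card ↥(centralizer ({z} : Set X)) ∧
      2 * ((centralizer ({z} : Set X)).index : ℤ) = q * (q + δ)) ∨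
  ((centralizer ({z} : Set X)).index = 105 ∧ ∃ L : Subgroup X, L.Normal ∧ Nonempty (L ≃* alternatingGroup (Fin 7)))

theorem dihedral_two_of_exponent {X : Type*} [Group X] (h4 : Nat.card X = 4) (hsq : ∀ x : X, x * x = 1) :
    Nonempty (X ≃* DihedralGroup 2) := by
  haveI : Finite X := Nat.finite_of_card_ne_zero (by omega)
  haveI : Nontrivial X := Finite.one_lt_card_iff_nontrivial.1 (by omega)
  haveI : IsKleinFour X := ⟨h4, by
    have hd : Monoid.exponent X ∣ 2 := Monoid.exponent_dvd_of_forall_pow_eq_one fun x => by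
      rw [pow_two]; exact hsq x
    rcases (Nat.dvd_prime Nat.prime_two).1 hd with h | h
    · exact absurd (Monoid.exp_eq_one_iff.1 h) (not_subsingleton X)
    · exact h⟩
  exact IsKleinFour.nonempty_mulEquiv

/-- A subgroup in which any two elements outside a subgroup differ by an element of it. -/
theorem card_le_two_mul {G : Type*} [Group G] [Finite G] (Q F : Subgroup G) (hFQ : F ≤ Q)
    (h : ∀ g ∈ Q, ∀ k ∈ Q, g ∉ F → k ∉ F → g⁻¹ * k ∈ F) : Nat.card Q ≤ 2 * Nat.card F := by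
  by_cases hall : ∀ g ∈ Q, g ∈ F
  · calc Nat.card Q ≤ Nat.card F := Subgroup.card_le_of_le hall
      _ ≤ 2 * Nat.card F := Nat.le_mul_of_pos_left _ (by norm_num)
  · simp only [not_forall] at hall
    obtain ⟨g, hg, hgF⟩ := hall
    have hsub : (Q : Set G) ⊆ (F : Set G) ∪ (fun v => g * v) '' (F : Set G) := by
      intro k hk
      by_cases hkF : k ∈ F
      · exact Or.inl hkF
      · exact Or.inr ⟨g⁻¹ * k, h g hg k hk hgF hkF, mul_inv_cancel_left g k⟩
    have := (Set.ncard_le_ncard hsub).trans (Set.ncard_union_le _ _)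
    rw [Set.ncard_image_of_injective _ (mul_right_injective g), ← Nat.card_coe_set_eq,
      ← Nat.card_coe_set_eq] at this
    simp only [SetLike.coe_sort_coe] at this
    omega

/-- Inside a 2-subgroup an element outside `F` has a power outside `F` with square inside `F`. -/
theorem exists_sq_mem {G : Type*} [Group G] (F : Subgroup G) {g : G} {k : ℕ} (hk : g ^ 2 ^ k = 1)
    (hg : g ∉ F) : ∃ m : ℕ, g ^ 2 ^ m ∉ F ∧ g ^ 2 ^ m * g ^ 2 ^ m ∈ F := by
  have key : ∀ k, g ^ 2 ^ k ∈ F → ∃ m : ℕ, g ^ 2 ^ m ∉ F ∧ g ^ 2 ^ m * g ^ 2 ^ m ∈ F := by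
    intro k
    induction k with
    | zero => intro h; exact absurd (by simpa using h) hg
    | succ k ih =>
      intro h
      by_cases h' : g ^ 2 ^ k ∈ F
      · exact ih h'
      · exact ⟨k, h', by rw [← pow_add, ← two_mul, ← pow_succ']; exact h⟩
  exact key k (by rw [hk]; exact one_mem F)

variable {G : Type u} [Group G] [Finite G] {Ω : Type*} [Finite Ω] [MulAction G Ω]

namespace Par

variable (P : Par G Ω)

/-- Elements of `C(z)` normalise a four-group through `z` as soon as they commute with a second element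
of it modulo `z`. -/
theorem mem_cn_of {x y : Ω} (h : x ≠ y) {z w g : G} (hz : z ∈ P.hyp.four h) (hw : w ∈ P.hyp.four h)
    (hz1 : z ≠ 1) (hw1 : w ≠ 1) (hzw : z ≠ w) (hg : g * z = z * g)
    (hgw : g * w * g⁻¹ = w ∨ g * w * g⁻¹ = z * w) : g ∈ P.cn h z := by
  have hgz : g * z * g⁻¹ = z := by rw [hg, mul_inv_cancel_right]
  have hmem : g * w * g⁻¹ ∈ P.hyp.four h := by
    rcases hgw with e | e <;> rw [e]
    exacts [hw, mul_mem hz hw]
  have hmaps : ∀ v ∈ P.hyp.four h, g * v * g⁻¹ ∈ P.hyp.four h := by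
    intro v hv
    rcases P.hyp.four_elems h hz hw hz1 hw1 hzw hv with rfl | rfl | rfl | rfl
    · simp
    · rwa [hgz]
    · exact hmem
    · rw [show g * (z * w) * g⁻¹ = g * z * g⁻¹ * (g * w * g⁻¹) by group, hgz]
      exact mul_mem hz hmem
  refine (P.mem_cn h).2 ⟨hg, fun v => ⟨hmaps v, fun hv => ?_⟩⟩
  let f : P.hyp.four h → P.hyp.four h := fun u => ⟨g * u * g⁻¹, hmaps u u.2⟩
  have hf : Function.Surjective f := Finite.surjective_of_injective fun a b e =>
    Subtype.ext (mul_left_cancel (mul_right_cancel (congrArg Subtype.val e)))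
  obtain ⟨⟨u, hu⟩, e⟩ := hf ⟨_, hv⟩
  have : g * u * g⁻¹ = g * v * g⁻¹ := congrArg Subtype.val e
  rwa [← mul_left_cancel (mul_right_cancel this)]

/-- A 2-group inside `cn` fixes a point of the line. -/
theorem exists_fix_line {x y : Ω} (h : x ≠ y) {z : G} (hodd : Odd P.s) (Q : Subgroup G)
    (hQ : IsPGroup 2 Q) (hle : Q ≤ P.cn h z) : ∃ c ∈ P.hyp.fixFour h, ∀ q ∈ Q, q • c = c := by
  letI : MulAction Q (P.hyp.fixFour h) :=
    MulAction.compHom _ ((P.lineHom h z).comp (Subgroup.inclusion hle))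
  haveI := Fact.mk Nat.prime_two
  obtain ⟨⟨c, hc⟩, hfix⟩ := hQ.nonempty_fixed_point_of_prime_not_dvd_card (P.hyp.fixFour h) (by
    rw [P.card_line h]
    obtain ⟨r, hr⟩ := hodd
    omega)
  exact ⟨c, hc, fun q hq => congrArg Subtype.val (hfix ⟨q, hq⟩)⟩

/-- A swapper of a pair commuting with a given involution of its four-group. -/
theorem exists_swap_cent {x y : Ω} (h : x ≠ y) {z : G} (hz : z ∈ P.hyp.four h) (hz1 : z ≠ 1) :
    ∃ t ∈ swapSet G x y, t * z = z * t := by
  obtain ⟨t, ht, -⟩ := P.J0_nonempty h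
  obtain ⟨u, hu, hu1, htu⟩ := P.hyp.exists_cent_four h ht
  obtain ⟨c, hc, hcu⟩ := P.hyp.fuse_pst h hu hz hu1 hz1
  refine ⟨c * t * c⁻¹, ?_, ?_⟩
  · have := conj_mem_swapSet (g := c) ht
    rwa [hc.1, hc.2] at this
  · rw [← hcu]
    calc c * t * c⁻¹ * (c * u * c⁻¹) = c * (t * u) * c⁻¹ := by group
      _ = c * u * c⁻¹ * (c * t * c⁻¹) := by rw [htu]; group

/-- An element of `C(z)` interchanging two fixed points of `z` is a swapper times an element of the
four-group. -/
theorem swap_eq_mul {x y : Ω} (h : x ≠ y) {z t g : G} (hz : z ∈ P.hyp.four h) (hz1 : z ≠ 1)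
    (ht : t ∈ swapSet G x y) (htz : t * z = z * t) (hg : g * z = z * g) (hgx : g • x = y)
    (hgy : g • y = x) : ∃ v ∈ P.hyp.four h, g = t * v := by
  refine ⟨t * g, P.hyp.cent_pst h hz hz1 ?_ ?_, by rw [← mul_assoc, ht.1, one_mul]⟩
  · exact mem_pst.2 ⟨by rw [mul_smul, hgx, smul_right_of_swap ht], by rw [mul_smul, hgy, ht.2]⟩
  · exact ((show Commute z t from htz.symm).mul_right hg.symm).eq

theorem card_point_cn {x y : Ω} (h : x ≠ y) {z : G} (hz : z ∈ P.hyp.four h) (hz1 : z ≠ 1) {c : Ω}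
    (hc : c ∈ P.hyp.fixFour h) : Nat.card ↥(P.cn h z ⊓ stabilizer G c) = 4 * (P.s - 1) := by
  have h1 := card_of_pairs (P.cn h z) (P.hyp.fixFour h) h (P.hyp.left_mem_fixFour h)
    (P.hyp.right_mem_fixFour h) (fun g hg w hw => P.smul_mem_fixFour h hg hw)
    (fun x' hx' y' hy' h' => P.exists_cn h hz hz1 hx' hy' h')
  have horb : MulAction.orbit (P.cn h z) c = P.hyp.fixFour h := by
    ext p
    refine ⟨fun ⟨g, e⟩ => e ▸ P.smul_mem_fixFour h g.2 hc, fun hp => ?_⟩
    rcases eq_or_ne p c with rfl | hpc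
    · exact ⟨1, one_smul _ _⟩
    · obtain ⟨g, hg, e1, -⟩ := P.exists_cn h hz hz1 hc hp hpc.symm
      obtain ⟨g', hg', e1', -⟩ := P.exists_cn h hz hz1 hp hc hpc
      exact ⟨⟨g' * g⁻¹, mul_mem hg' (inv_mem hg)⟩, by
        show (g' * g⁻¹) • c = p
        rw [mul_smul, ← e1, inv_smul_smul, e1']⟩
  have hst : stabilizer (P.cn h z) c = (P.cn h z ⊓ stabilizer G c).subgroupOf (P.cn h z) := by
    ext g
    simp only [mem_stabilizer_iff, mem_subgroupOf, mem_inf, SetLike.coe_mem, true_and, Subgroup.smul_def]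
  have h2 := (stabilizer (P.cn h z) c).card_mul_index
  rw [MulAction.index_stabilizer, horb, P.hs, hst,
    Nat.card_congr (subgroupOfEquivOfLe inf_le_left).toEquiv, P.card_cn h hz hz1] at h2
  have := P.two_le_s h
  refine Nat.eq_of_mul_eq_mul_right (show 0 < P.s by omega) (h2.trans ?_)
  ring

/-- An element commuting, modulo the four-group, with an involutory action fixes its fixed point. -/
theorem fix_of_commute_action {x y : Ω} (h : x ≠ y) {z g t : G} (hz : z ∈ P.hyp.four h) (hz1 : z ≠ 1)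
    (hg : g ∈ P.cn h z) (ht : t ∈ P.cn h z) (htn : t ∉ P.hyp.four h) {c : Ω}
    (hc : c ∈ P.hyp.fixFour h) (htc : t • c = c) (hgt : t⁻¹ * (g * t * g⁻¹) ∈ P.hyp.four h) :
    g • c = c := by
  by_contra hne
  have hgc := P.smul_mem_fixFour h hg hc
  have e : (g * t * g⁻¹) • g • c = g • c := by rw [mul_smul, inv_smul_smul, mul_smul, htc]
  refine htn (P.mem_four_of_cn h hz hz1 ((P.mem_cn h).1 ht).1 hgc hc hne ?_ htc)
  rw [show g * t * g⁻¹ = t * (t⁻¹ * (g * t * g⁻¹)) by group, mul_smul, hgc _ hgt] at e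
  exact e

end Par

end CfsgLib.TwoTransAFour
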