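import Cfsg.Agent.Lib.TwoTransAFour.Types

/-!
Involutions having two common fixed points with a given involution: `f ∈ {s, s², s(2s-1)}`, and `j ≠ 1`.
-/

set_option autoImplicit false
set_option linter.unusedSectionVars false
set_option linter.style.haveILetI false

namespace CfsgLib.TwoTransAFour

open MulAction Subgroup

theorem even_ncard_left_mul {G : Type*} [Group G] [Finite G] {S : Set G} {z : G} (hz : z * z = 1)
    (hz1 : z ≠ 1) (hS : ∀ u ∈ S, z * u ∈ S) : Even S.ncard := by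
  have := even_ncard_moved (G := G) (Ω := G) S hz hS
  rwa [show {x ∈ S | z • x ≠ x} = S from Set.ext fun x =>
    ⟨fun h => h.1, fun h => ⟨h, fun e => hz1 (mul_eq_right.1 e)⟩⟩] at this

variable {G : Type*} [Group G] [Finite G] {Ω : Type*} [Finite Ω] [MulAction G Ω]

namespace Par

variable (P : Par G Ω)

/-- `u` and `z` are distinct involutions of the four-group of some pair. -/
def Spec (z u : G) : Prop :=
  ∃ x y : Ω, ∃ h : x ≠ y, z ∈ P.hyp.four h ∧ u ∈ P.hyp.four h ∧ u ≠ 1 ∧ u ≠ z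

variable {P}

theorem Spec.sq {z u : G} (hs : P.Spec z u) : u * u = 1 := by
  obtain ⟨x, y, h, -, hu, -⟩ := hs
  exact hu.2

theorem Spec.comm {z u : G} (hs : P.Spec z u) : u * z = z * u := by
  obtain ⟨x, y, h, hz, hu, -⟩ := hs
  exact P.hyp.four_comm h hu hz

theorem Spec.isI0 {z u : G} (hs : P.Spec z u) : P.hyp.I0 u := by
  obtain ⟨x, y, h, -, hu, hu1, -⟩ := hs
  exact P.hyp.I0_of_mem h hu hu1

theorem Spec.fix_eq {z u : G} (hz1 : z ≠ 1) (hs : P.Spec z u) :
    ∃ x y : Ω, ∃ h : x ≠ y, z ∈ P.hyp.four h ∧ u ∈ P.hyp.four h ∧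
      P.hyp.fixFour h = fix z ∩ fix u := by
  obtain ⟨x, y, h, hz, hu, hu1, huz⟩ := hs
  refine ⟨x, y, h, hz, hu, Set.Subset.antisymm (fun w hw => ⟨hw z hz, hw u hu⟩) ?_⟩
  rintro w ⟨hwz, hwu⟩ v hv
  rcases P.hyp.four_elems h hz hu hz1 hu1 huz.symm hv with rfl | rfl | rfl | rfl
  · exact one_smul G w
  · exact hwz
  · exact hwu
  · rw [mul_smul, show u • w = w from hwu, show z • w = w from hwz]

theorem spec_of_fix {z u : G} (hz2 : z * z = 1) (hu2 : u * u = 1) (hu1 : u ≠ 1) (huz : u ≠ z)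
    {x y : Ω} (h : x ≠ y) (hzx : z • x = x) (hzy : z • y = y) (hux : u • x = x) (huy : u • y = y) :
    P.Spec z u :=
  ⟨x, y, h, P.hyp.mem_four_of_fix h hz2 hzx hzy, P.hyp.mem_four_of_fix h hu2 hux huy, hu1, huz⟩

theorem Spec.conj {z u g : G} (hs : P.Spec z u) (hg : g * z = z * g) :
    P.Spec z (g * u * g⁻¹) := by
  obtain ⟨x, y, h, hz, hu, hu1, huz⟩ := hs
  have hgz : g * z * g⁻¹ = z := by rw [hg, mul_inv_cancel_right]
  have h' : g • x ≠ g • y := fun e => h (smul_left_cancel g e)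
  refine ⟨_, _, h', ?_, (P.hyp.conj_four h h' rfl rfl).2 hu, fun e => hu1 (conj_eq_one_iff.1 e),
    fun e => huz (mul_left_cancel (mul_right_cancel (e.trans hgz.symm)))⟩
  rw [← hgz]
  exact (P.hyp.conj_four h h' rfl rfl).2 hz

theorem Spec.mul {z u : G} (hz1 : z ≠ 1) (hs : P.Spec z u) : P.Spec z (z * u) := by
  obtain ⟨x, y, h, hz, hu, hu1, huz⟩ := hs
  refine ⟨x, y, h, hz, mul_mem hz hu, fun e => huz ?_, fun e => hu1 (mul_eq_left.1 e)⟩
  calc u = z * z * u := by rw [hz.2, one_mul]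
    _ = z := by rw [mul_assoc, e, mul_one]

variable (P)

/-- The special swappers. -/
def Ssw (z : G) (x y : Ω) : Set G := {u ∈ swapSet G x y | P.Spec z u}

theorem ncard_Ssw_eq {z : G} (hz : P.hyp.I0 z) {x y x' y' : Ω} (h : x ≠ y) (h' : x' ≠ y')
    (hx : z • x = x) (hy : z • y = y) (hx' : z • x' = x') (hy' : z • y' = y') :
    (P.Ssw z x y).ncard = (P.Ssw z x' y').ncard := by
  obtain ⟨g, hg, rfl, rfl⟩ := P.hyp.exists_cent hz h h' hx hy hx' hy'
  refine Set.ncard_congr (fun u _ => g * u * g⁻¹) (fun u hu => ⟨conj_mem_swapSet hu.1, hu.2.conj hg⟩)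
    (fun s t _ _ e => mul_left_cancel (mul_right_cancel e)) fun u hu => ⟨g⁻¹ * u * g, ⟨?_, ?_⟩, by group⟩
  · have := conj_mem_swapSet (g := g⁻¹) hu.1
    simpa using this
  · have hg' : g⁻¹ * z = z * g⁻¹ := (show Commute g z from hg).inv_left
    simpa using hu.2.conj hg'

theorem even_Ssw {z : G} (hz1 : z ≠ 1) (hz2 : z * z = 1) {x y : Ω} (hy : z • y = y) :
    Even (P.Ssw z x y).ncard := by
  refine even_ncard_left_mul hz2 hz1 fun u hu => ?_
  refine ⟨⟨?_, ?_⟩, hu.2.mul hz1⟩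
  · rw [show z * u * (z * u) = z * (u * z) * u by group, hu.2.comm, ← mul_assoc, hz2, one_mul, hu.1.1]
  · rw [mul_smul, hu.1.2, hy]

/-- The number of special involutions of `z`. -/
theorem ncard_spec {z : G} (hz : P.hyp.I0 z) :
    {u | P.Spec z u}.ncard * (P.s * (P.s - 1)) = P.f * (P.f - 1) * 2 := by
  rw [← P.hf z hz, ← ncard_pairs]
  refine double_count {u | P.Spec z u} (pairs (fix z))
    (fun u p => u • p.1 = p.1 ∧ u • p.2 = p.2) (fun u hu => ?_) fun p hp => ?_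
  · obtain ⟨x, y, h, -, -, e⟩ := Spec.fix_eq (P := P) hz.1 hu
    rw [← P.hs x y h, e, ← ncard_pairs]
    congr 1
    ext p
    exact ⟨fun hp => ⟨⟨hp.1.1, hp.2.1⟩, ⟨hp.1.2.1, hp.2.2⟩, hp.1.2.2⟩,
      fun hp => ⟨⟨hp.1.1, hp.2.1.1, hp.2.2⟩, hp.1.2, hp.2.1.2⟩⟩
  · obtain ⟨hp1, hp2, hp12⟩ := hp
    have hzf := P.hyp.mem_four_of_fix hp12 hz.2.1 hp1 hp2
    have e : {u ∈ {u | P.Spec z u} | u • p.1 = p.1 ∧ u • p.2 = p.2} =
        (P.hyp.four hp12 : Set G) \ {1, z} := by
      ext u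
      constructor
      · rintro ⟨hu, h1, h2⟩
        refine ⟨P.hyp.mem_four_of_fix hp12 (Spec.sq (P := P) hu) h1 h2, ?_⟩
        obtain ⟨-, -, -, -, -, h3, h4⟩ := hu
        simp [h3, h4]
      · rintro ⟨hu, h3⟩
        simp only [Set.mem_insert_iff, Set.mem_singleton_iff, not_or] at h3
        exact ⟨⟨_, _, hp12, hzf, hu, h3⟩, hu.1.1, hu.1.2⟩
    rw [e, Set.ncard_sdiff (by rintro u (rfl | rfl); exacts [one_mem _, hzf]), ← Nat.card_coe_set_eq,
      SetLike.coe_sort_coe, P.hyp.card_four, ncard_pair _ _ (Ne.symm hz.1)]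

theorem ncard_spec_swap {z : G} (hz : P.hyp.I0 z) {x y : Ω} (h : x ≠ y) (hx : z • x = x)
    (hy : z • y = y) :
    {u | P.Spec z u}.ncard * (P.f - P.s) = P.f * (P.f - 1) * (P.Ssw z x y).ncard := by
  rw [← P.hf z hz, ← ncard_pairs]
  refine double_count {u | P.Spec z u} (pairs (fix z)) (fun u p => u • p.1 = p.2) (fun u hu => ?_)
    fun p hp => ?_
  · rw [ncard_swapped (fix z : Set Ω) (t := u) fun w hw => fix_of_commute (Spec.comm (P := P) hu) hw]
    have h1 := ncard_moved (fix z : Set Ω) u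
    obtain ⟨x', y', h', -, -, e⟩ := Spec.fix_eq (P := P) hz.1 hu
    have h2 : {w ∈ (fix z : Set Ω) | u • w = w} = P.hyp.fixFour h' := by rw [e]; rfl
    rw [h2, P.hs] at h1
    simp only [fix] at h1 ⊢
    omega
  · rw [P.ncard_Ssw_eq hz h hp.2.2 hx hy hp.1 hp.2.1]
    congr 1
    ext u
    exact ⟨fun hu => ⟨⟨Spec.sq (P := P) hu.1, hu.2⟩, hu.1⟩, fun hu => ⟨hu.2, hu.1.2⟩⟩

/-- The basic relation. -/
theorem two_mul_sub {z : G} (hz : P.hyp.I0 z) {x y : Ω} (h : x ≠ y) (hx : z • x = x) (hy : z • y = y) :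
    2 * (P.f - P.s) = (P.Ssw z x y).ncard * (P.s * (P.s - 1)) := by
  have h1 := P.ncard_spec hz
  have h2 := P.ncard_spec_swap hz h hx hy
  have hf := P.two_le_f h
  have hpos : 0 < P.f * (P.f - 1) := Nat.mul_pos (by omega) (by omega)
  refine Nat.eq_of_mul_eq_mul_left hpos ?_
  calc P.f * (P.f - 1) * (2 * (P.f - P.s)) = P.f * (P.f - 1) * 2 * (P.f - P.s) := by ring
    _ = {u | P.Spec z u}.ncard * (P.f - P.s) * (P.s * (P.s - 1)) := by rw [← h1]; ring
    _ = P.f * (P.f - 1) * ((P.Ssw z x y).ncard * (P.s * (P.s - 1))) := by rw [h2]; ring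

variable {P} {j : ℕ}

theorem Kind.Ssw_le (K : P.Kind j) {z : G} {x y : Ω} (h : x ≠ y) :
    (P.Ssw z x y).ncard ≤ j :=
  K.card x y h ▸ Set.ncard_le_ncard fun _ hu => ⟨hu.1, hu.2.isI0⟩

theorem Kind.Ssw_six (K : P.Kind j) (hj : j = 6) {z : G} (hz : P.hyp.I0 z) {x y : Ω} (h : x ≠ y)
    (hx : z • x = x) (hy : z • y = y) : (P.Ssw z x y).ncard ≤ 2 := by
  rcases (P.Ssw z x y).eq_empty_or_nonempty with e | ⟨t, ht⟩
  · simp [e]
  · calc (P.Ssw z x y).ncard ≤ ({t, t * z} : Set G).ncard := Set.ncard_le_ncard fun u hu =>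
          P.hyp.swap_pair h ht.1 hu.1 (K.not_centralizing hj h ht.1)
            (P.hyp.mem_four_of_fix h hz.2.1 hx hy) hz.1 ht.2.comm hu.2.comm
      _ ≤ 2 := Set.ncard_insert_le _ _ |>.trans (by rw [Set.ncard_singleton])

/-- The three possible relations between `f` and `s`. -/
theorem Kind.f_cases (K : P.Kind j) {a b : Ω} (hab : a ≠ b) :
    P.f = P.s ∨ ((j = 3 ∨ j = 4 ∨ j = 6) ∧ P.f = P.s * P.s) ∨
      (j = 4 ∧ P.f + P.s = 2 * (P.s * P.s)) := by
  obtain ⟨z, hz, hz1⟩ := P.hyp.exists_invol hab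
  have hz0 := P.hyp.I0_of_mem hab hz hz1
  have h1 := P.two_mul_sub hz0 hab hz.1.1 hz.1.2
  have h2 := P.even_Ssw hz1 hz.2 (x := a) hz.1.2
  have h3 := P.s_le_f hab
  have h4 : P.s * (P.s - 1) + P.s = P.s * P.s := by
    rw [← Nat.mul_succ]
    congr 1
    have := P.two_le_s hab
    omega
  have hle := K.Ssw_le (z := z) hab
  have h6 : j = 6 → (P.Ssw z a b).ncard ≤ 2 := fun hj => K.Ssw_six hj hz0 hab hz.1.1 hz.1.2
  obtain ⟨r, hr⟩ := h2
  rw [hr] at h1 hle h6
  have hj := K.j_cases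
  rcases hj with rfl | rfl | rfl | rfl
  · obtain rfl : r = 0 := by omega
    omega
  · obtain rfl | rfl : r = 0 ∨ r = 1 := by omega
    · omega
    · right; left; omega
  · obtain rfl | rfl | rfl : r = 0 ∨ r = 1 ∨ r = 2 := by omega
    · omega
    · right; left; omega
    · right; right; omega
  · have := h6 rfl
    obtain rfl | rfl : r = 0 ∨ r = 1 := by omega
    · omega
    · right; left; omega

theorem Kind.n_rel (K : P.Kind j) {a b : Ω} (hab : a ≠ b) :
    3 * P.n = 3 * P.f + j * (P.f * (P.f - 1)) := by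
  have := K.moved hab
  have := P.f_lt_n hab
  omega

theorem Kind.j_ne_one (K : P.Kind j) {a b : Ω} (hab : a ≠ b) : j ≠ 1 := by
  rintro rfl
  have hsf : P.f = P.s := (K.f_cases hab).resolve_right (by omega)
  have hn := K.n_rel hab
  have hf := P.two_le_f hab
  obtain ⟨w, hw⟩ : ∃ w : Ω, w ∉ P.hyp.fixFour hab := by
    by_contra hall
    have : P.hyp.fixFour hab = Set.univ := Set.eq_univ_of_forall fun w => not_not.1 (not_exists.1 hall w)
    have h1 := P.hs a b hab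
    rw [this, ← P.n_eq_univ] at h1
    have := P.f_lt_n hab
    omega
  let L := P.hyp.fixFour hab
  have hne : ∀ x ∈ L, w ≠ x := fun x hx e => hw (e ▸ hx)
  have key : L.ncard * (P.f - 1) ≤ P.n - 1 := by
    classical
    haveI := Fintype.ofFinite Ω
    rw [Set.ncard_eq_toFinset_card' L]
    let B : Ω → Finset Ω := fun x =>
      if hx : w ≠ x then (P.hyp.fixFour hx).toFinset.erase w else ∅
    have hB : ∀ x ∈ L.toFinset, (B x).card = P.f - 1 := by
      intro x hx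
      simp only [B, dif_pos (hne x (Set.mem_toFinset.1 hx))]
      rw [Finset.card_erase_of_mem (Set.mem_toFinset.2 (P.hyp.left_mem_fixFour _)),
        ← Set.ncard_eq_toFinset_card', P.hs, hsf]
    have hd : (L.toFinset : Set Ω).PairwiseDisjoint B := by
      intro x hx x' hx' hxx'
      rw [Finset.mem_coe, Set.mem_toFinset] at hx hx'
      simp only [Function.onFun, B, dif_pos (hne x hx), dif_pos (hne x' hx'), Finset.disjoint_left,
        Finset.mem_erase, Set.mem_toFinset]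
      rintro p ⟨hpw, hp⟩ ⟨-, hp'⟩
      have e1 := P.hyp.four_eq (hne x hx) hpw.symm (P.hyp.left_mem_fixFour _) hp
      have e2 := P.hyp.four_eq (hne x' hx') hpw.symm (P.hyp.left_mem_fixFour _) hp'
      have e3 : x' ∈ P.hyp.fixFour (hne x hx) := fun v hv => by
        rw [← e1, e2] at hv
        exact P.hyp.right_mem_fixFour (hne x' hx') v hv
      have e4 : P.hyp.four hab = P.hyp.four hxx' := (P.hyp.four_eq hab hxx' hx hx').symm
      have e5 := P.hyp.four_eq (hne x hx) hxx' (P.hyp.right_mem_fixFour _) e3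
      exact hw fun v hv => by
        rw [e4, e5] at hv
        exact P.hyp.left_mem_fixFour (hne x hx) v hv
    calc L.toFinset.card * (P.f - 1) = (L.toFinset.biUnion B).card := by
          rw [Finset.card_biUnion hd, Finset.sum_const_nat hB]
      _ ≤ (Finset.univ.erase w).card := Finset.card_le_card fun p hp => by
          obtain ⟨x, hx, hp⟩ := Finset.mem_biUnion.1 hp
          simp only [B, dif_pos (hne x (Set.mem_toFinset.1 hx))] at hp
          exact Finset.mem_erase.2 ⟨(Finset.mem_erase.1 hp).1, Finset.mem_univ _⟩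
      _ = P.n - 1 := by
          rw [Finset.card_erase_of_mem (Finset.mem_univ w), Finset.card_univ, P.n_eq,
            Nat.card_eq_fintype_card]
  rw [P.hs a b hab, ← hsf] at key
  have : 2 ≤ P.f * (P.f - 1) := Nat.le_trans hf (Nat.le_mul_of_pos_right _ (by omega))
  have h5 : 2 * (P.f - 1) ≤ P.f * (P.f - 1) := Nat.mul_le_mul_right _ hf
  omega

/-- The involutions commuting with `z` but not special, fixing a given point, when `j = 4` and each pair
has two special swappers. -/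
theorem Kind.ncard_nonspec (K : P.Kind j) (hj : j = 4) (hodd : Odd P.f) {z : G} (hz : P.hyp.I0 z)
    {x y : Ω} (h : x ≠ y) (hx : z • x = x) (hy : z • y = y) (hS : (P.Ssw z x y).ncard = 2)
    {c : Ω} (hc : z • c = c) :
    {u : G | u * u = 1 ∧ u ≠ 1 ∧ u ≠ z ∧ u * z = z * u ∧ ¬ P.Spec z u ∧ u • c = c}.ncard = 2 := by
  let R : Set G := {u | u * u = 1 ∧ u ≠ 1 ∧ u ≠ z ∧ u * z = z * u ∧ ¬ P.Spec z u}
  have hone : ∀ u ∈ R, {w ∈ (fix z : Set Ω) | u • w = w}.ncard = 1 := by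
    rintro u ⟨hu2, hu1, huz, huc, hus⟩
    have h1 : {w ∈ (fix z : Set Ω) | u • w = w}.ncard ≤ 1 := by
      rw [Set.ncard_le_one]
      intro p hp q hq
      by_contra hne
      exact hus (spec_of_fix hz.2.1 hu2 hu1 huz hne hp.1 hq.1 hp.2 hq.2)
    have h2 := ncard_moved (fix z : Set Ω) u
    have h3 := even_ncard_moved (fix z : Set Ω) hu2 fun w hw => fix_of_commute huc hw
    rw [P.hf z hz] at h2
    obtain ⟨r, hr⟩ := hodd
    obtain ⟨r', hr'⟩ := h3
    omega
  have hpair : ∀ p ∈ pairs (fix z : Set Ω), {u ∈ R | u • p.1 = p.2}.ncard = 2 := by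
    rintro ⟨p, q⟩ ⟨hp, hq, hpq⟩
    have e : {u ∈ R | u • p = q} = swapSet G p q \ P.Ssw z p q := by
      ext u
      constructor
      · rintro ⟨hu, hpq'⟩
        exact ⟨⟨hu.1, hpq'⟩, fun e => hu.2.2.2.2 e.2⟩
      · rintro ⟨hu, hus⟩
        have hu1 : u ≠ 1 := ne_one_of_swap hpq hu
        refine ⟨⟨hu.1, hu1, fun e => hpq ?_, ?_, fun e => hus ⟨hu, e⟩⟩, hu.2⟩
        · rw [← hu.2, e]; exact hp.symm
        · exact K.centralizing (by omega) hpq hu z (P.hyp.mem_four_of_fix hpq hz.2.1 hp hq)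
    rw [e, Set.ncard_sdiff (fun u hu => hu.1), K.card_swap hpq, if_neg (by omega),
      ← P.ncard_Ssw_eq hz h hpq hx hy hp hq, hS]
  have hR : R.ncard * (P.f - 1) = P.f * (P.f - 1) * 2 := by
    rw [← P.hf z hz, ← ncard_pairs]
    refine double_count R (pairs (fix z : Set Ω)) (fun u p => u • p.1 = p.2) (fun u hu => ?_) hpair
    rw [ncard_swapped (fix z : Set Ω) (t := u) fun w hw => fix_of_commute hu.2.2.2.1 hw]
    have h2 := ncard_moved (fix z : Set Ω) u
    rw [hone u hu] at h2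
    simp only [fix] at h2 ⊢
    omega
  have hf2 := P.two_le_f h
  have hR2 : R.ncard = P.f * 2 :=
    Nat.eq_of_mul_eq_mul_right (show 0 < P.f - 1 by omega) (hR.trans (by ring))
  have hfib : ∀ w ∈ (fix z : Set Ω), {u ∈ R | u • w = w}.ncard = {u ∈ R | u • c = c}.ncard := by
    intro w hw
    rcases eq_or_ne c w with rfl | hcw
    · rfl
    obtain ⟨g, hg, rfl, -⟩ := P.hyp.exists_cent hz hcw hcw.symm hc hw hw hc
    have hmem : ∀ g : G, g * z = z * g → ∀ u ∈ R, g * u * g⁻¹ ∈ R := by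
      rintro g hg u ⟨h2, h1, h3, h4, h5⟩
      have hgz : g * z * g⁻¹ = z := by rw [hg, mul_inv_cancel_right]
      refine ⟨?_, fun e => h1 (conj_eq_one_iff.1 e),
        fun e => h3 (mul_left_cancel (mul_right_cancel (e.trans hgz.symm))), ?_, fun e => h5 ?_⟩
      · rw [show g * u * g⁻¹ * (g * u * g⁻¹) = g * (u * u) * g⁻¹ by group, h2, mul_one, mul_inv_cancel]
      · calc g * u * g⁻¹ * z = g * u * g⁻¹ * (g * z * g⁻¹) := by rw [hgz]
          _ = g * (u * z) * g⁻¹ := by group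
          _ = g * z * g⁻¹ * (g * u * g⁻¹) := by rw [h4]; group
          _ = z * (g * u * g⁻¹) := by rw [hgz]
      · have := e.conj (g := g⁻¹) (show Commute g z from hg).inv_left
        simpa [mul_assoc] using this
    refine (Set.ncard_congr (s := {u ∈ R | u • c = c}) (fun u _ => g * u * g⁻¹) ?_
      (fun s t _ _ e => mul_left_cancel (mul_right_cancel e)) ?_).symm
    · rintro u ⟨hu, huc⟩
      exact ⟨hmem g hg u hu, by simp [mul_smul, huc]⟩
    · rintro u ⟨hu, huw⟩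
      refine ⟨g⁻¹ * u * g, ⟨?_, ?_⟩, by group⟩
      · simpa using hmem g⁻¹ (show Commute g z from hg).inv_left u hu
      · rw [mul_smul, mul_smul, huw, inv_smul_smul]
  have := double_count R (fix z : Set Ω) (fun u w => u • w = w) (m := 1) hone hfib
  rw [hR2, mul_one, P.hf z hz] at this
  rw [← Nat.eq_of_mul_eq_mul_left (show 0 < P.f by omega) this.symm]
  congr 1
  ext u
  exact ⟨fun ⟨a1, a2, a3, a4, a5, a6⟩ => ⟨⟨a1, a2, a3, a4, a5⟩, a6⟩,
    fun ⟨⟨a1, a2, a3, a4, a5⟩, a6⟩ => ⟨a1, a2, a3, a4, a5, a6⟩⟩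

end Par

end CfsgLib.TwoTransAFour
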