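import Cfsg.Agent.Lib.TwoTransAFour.Basic

/-!
The involutions interchanging the two points of a pair: either they centralise the four-group of the
pair (four of them, one central in the stabiliser of the pair) or none does (six, all conjugate).
-/

set_option autoImplicit false
set_option linter.unusedSectionVars false
set_option linter.style.haveILetI false

namespace CfsgLib.TwoTransAFour

open MulAction Subgroup

variable {G : Type*} [Group G] {Ω : Type*} [MulAction G Ω]

/-- The involutions interchanging `x` and `y`. -/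
def swapSet (G : Type*) [Group G] {Ω : Type*} [MulAction G Ω] (x y : Ω) : Set G :=
  {t | t * t = 1 ∧ t • x = y}

theorem mem_swapSet {t : G} {x y : Ω} : t ∈ swapSet G x y ↔ t * t = 1 ∧ t • x = y := Iff.rfl

theorem inv_of_sq {t : G} (ht : t * t = 1) : t⁻¹ = t := inv_eq_of_mul_eq_one_right ht

theorem smul_right_of_swap {t : G} {x y : Ω} (ht : t ∈ swapSet G x y) : t • y = x := by
  rw [← ht.2, ← mul_smul, ht.1, one_smul]

theorem ne_one_of_swap {t : G} {x y : Ω} (h : x ≠ y) (ht : t ∈ swapSet G x y) : t ≠ 1 :=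
  fun e => h (by rw [← ht.2, e, one_smul])

theorem conj_mem_swapSet {t g : G} {x y : Ω} (ht : t ∈ swapSet G x y) :
    g * t * g⁻¹ ∈ swapSet G (g • x) (g • y) := by
  refine ⟨?_, by simp [mul_smul, ht.2]⟩
  rw [show g * t * g⁻¹ * (g * t * g⁻¹) = g * (t * t) * g⁻¹ by group, ht.1, mul_one, mul_inv_cancel]

theorem ncard_pair {α : Type*} [Finite α] (a b : α) (h : a ≠ b) : ({a, b} : Set α).ncard = 2 :=
  Set.ncard_pair h

namespace Hyp

variable (hyp : Hyp G Ω)
include hyp

theorem swap_conj_pst {t : G} {x y : Ω} (ht : t ∈ swapSet G x y) {g : G} (hg : g ∈ pst G x y) :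
    t * g * t⁻¹ ∈ pst G x y := by
  rw [mem_pst] at hg ⊢
  constructor <;> simp only [mul_smul, inv_of_sq ht.1]
  · rw [ht.2, hg.2, smul_right_of_swap ht]
  · rw [smul_right_of_swap ht, hg.1, ht.2]

theorem swap_conj_four {t : G} {x y : Ω} (h : x ≠ y) (ht : t ∈ swapSet G x y) {v : G}
    (hv : v ∈ hyp.four h) : t * v * t ∈ hyp.four h := by
  refine ⟨by simpa [inv_of_sq ht.1] using hyp.swap_conj_pst ht hv.1, ?_⟩
  rw [show t * v * t * (t * v * t) = t * v * (t * t) * v * t by group, ht.1, mul_one,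
    mul_assoc t v v, hv.2, mul_one, ht.1]

theorem swap_mul_mem {t t' : G} {x y : Ω} (ht : t ∈ swapSet G x y) (ht' : t' ∈ swapSet G x y) :
    t * t' ∈ pst G x y :=
  mem_pst.2 ⟨by rw [mul_smul, ht'.2, smul_right_of_swap ht],
   by rw [mul_smul, smul_right_of_swap ht', ht.2]⟩

theorem exists_eq_mul {t t' : G} {x y : Ω} (ht : t ∈ swapSet G x y) (ht' : t' ∈ swapSet G x y) :
    ∃ h ∈ pst G x y, t' = t * h :=
  ⟨t * t', hyp.swap_mul_mem ht ht', by rw [← mul_assoc, ht.1, one_mul]⟩

theorem exists_cent_four {t : G} {x y : Ω} (h : x ≠ y) (ht : t ∈ swapSet G x y) :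
    ∃ u ∈ hyp.four h, u ≠ 1 ∧ t * u = u * t := by
  obtain ⟨z, hz, hz1⟩ := hyp.exists_invol h
  by_cases hc : t * z = z * t
  · exact ⟨z, hz, hz1, hc⟩
  have hw := hyp.swap_conj_four h ht hz
  refine ⟨z * (t * z * t), mul_mem hz hw, fun e => hc ?_, ?_⟩
  · have : t * z * t = z := by
      calc t * z * t = z * (z * (t * z * t)) := by rw [← mul_assoc z z, hz.2, one_mul]
        _ = z := by rw [e, mul_one]
    calc t * z = t * z * (t * t) := by rw [ht.1, mul_one]
      _ = t * z * t * t := by group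
      _ = z * t := by rw [this]
  · have hcom := hyp.four_comm h hz hw
    calc t * (z * (t * z * t)) = t * (z * (t * z * t)) * (t * t) := by rw [ht.1, mul_one]
      _ = (t * z * t) * (z * (t * t)) * t := by group
      _ = (t * z * t) * z * t := by rw [ht.1, mul_one]
      _ = z * (t * z * t) * t := by rw [hcom]

/-- Every element of the four-group is centralised by the involution. -/
def Centralizing {x y : Ω} (h : x ≠ y) (t : G) : Prop := ∀ v ∈ hyp.four h, t * v = v * t

theorem centralizing_of_two [Finite G] {t : G} {x y : Ω} (h : x ≠ y) {u v : G}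
    (hu : u ∈ hyp.four h) (hv : v ∈ hyp.four h) (hu1 : u ≠ 1) (hv1 : v ≠ 1) (huv : u ≠ v)
    (htu : t * u = u * t) (htv : t * v = v * t) : hyp.Centralizing h t := by
  intro w hw
  rcases hyp.four_elems h hu hv hu1 hv1 huv hw with rfl | rfl | rfl | rfl
  · rw [mul_one, one_mul]
  · exact htu
  · exact htv
  · exact ((show Commute t u from htu).mul_right htv).eq

theorem centralizing_iff [Finite G] {t t' : G} {x y : Ω} (h : x ≠ y) (ht : t ∈ swapSet G x y)
    (ht' : t' ∈ swapSet G x y) : hyp.Centralizing h t → hyp.Centralizing h t' := by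
  intro hc
  obtain ⟨g, hg, rfl⟩ := hyp.exists_eq_mul ht ht'
  obtain ⟨u, hu, hu1, hcu⟩ := hyp.exists_cent_four h ht'
  have : g * u = u * g := by
    have h1 : t * (g * u) = t * (u * g) := by
      rw [← mul_assoc, hcu, ← mul_assoc t u g, hc u hu, mul_assoc]
    exact mul_left_cancel h1
  have hg4 := hyp.cent_pst h hu hu1 hg this.symm
  intro v hv
  rw [mul_assoc, hyp.four_comm h hg4 hv, ← mul_assoc, hc v hv, mul_assoc]

/-- The four swappers of the first kind: a central involution `J` and its products with the four-group. -/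
theorem exists_J [Finite G] {t : G} {x y : Ω} (h : x ≠ y) (ht : t ∈ swapSet G x y)
    (hc : hyp.Centralizing h t) :
    ∃ J ∈ swapSet G x y, (∀ g ∈ pst G x y, J * g = g * J) ∧
      ∀ t' : G, t' ∈ swapSet G x y ↔ ∃ v ∈ hyp.four h, t' = J * v := by
  obtain ⟨p, hp, hp2, hp3, hpf⟩ := hyp.exists_three h
  have hmem : ∀ v ∈ hyp.four h, t * v ∈ swapSet G x y := fun v hv =>
    ⟨by rw [show t * v * (t * v) = t * v * t * v by group, hc v hv, mul_assoc v t t, ht.1, mul_one,
      hv.2], by rw [mul_smul, hv.1.1, ht.2]⟩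
  have hall : ∀ t' ∈ swapSet G x y, ∃ v ∈ hyp.four h, t' = t * v := by
    intro t' ht'
    obtain ⟨g, hg, rfl⟩ := hyp.exists_eq_mul ht ht'
    obtain ⟨u, hu, hu1, hcu⟩ := hyp.exists_cent_four h ht'
    refine ⟨g, hyp.cent_pst h hu hu1 hg ?_, rfl⟩
    have h1 : t * (g * u) = t * (u * g) := by
      rw [← mul_assoc, hcu, ← mul_assoc t u g, hc u hu, mul_assoc]
    exact (mul_left_cancel h1).symm
  obtain ⟨w, hw, hwe⟩ := hall (p * t * p⁻¹) (by
    have := conj_mem_swapSet (g := p) ht
    rwa [hp.1, hp.2] at this)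
  have hpmem : ∀ v ∈ hyp.four h, p * v * p⁻¹ ∈ hyp.four h := fun v hv =>
    (hyp.conj_four h h hp.1 hp.2).2 hv
  let f : hyp.four h → hyp.four h := fun v => v * ⟨p * v * p⁻¹, hpmem v v.2⟩
  have hf : Function.Surjective f := by
    refine Finite.surjective_of_injective fun a b e => Subtype.ext ?_
    have e' : (a : G) * (p * a * p⁻¹) = b * (p * b * p⁻¹) := congrArg Subtype.val e
    by_contra hne
    refine hpf _ (mul_mem a.2 b.2) (fun e1 => hne ?_) ?_
    · calc (a : G) = a * (b * b) := by rw [b.2.2, mul_one]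
        _ = b := by rw [← mul_assoc, e1, one_mul]
    · have hc1 := hyp.four_comm h b.2 (hpmem a a.2)
      calc p * ((a : G) * b) * p⁻¹ = (a * a) * ((p * a * p⁻¹) * (p * b * p⁻¹)) := by
            rw [a.2.2, one_mul]; group
        _ = a * (a * (p * a * p⁻¹)) * (p * b * p⁻¹) := by group
        _ = a * (b * (p * b * p⁻¹)) * (p * b * p⁻¹) := by rw [e']
        _ = a * b * ((p * b * p⁻¹) * (p * b * p⁻¹)) := by group
        _ = a * b := by rw [(hpmem b b.2).2, mul_one]
  obtain ⟨v, hv⟩ := hf ⟨w, hw⟩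
  have hv' : (v : G) * (p * v * p⁻¹) = w := congrArg Subtype.val hv
  refine ⟨t * v, hmem v v.2, ?_, fun t' => ⟨fun ht' => ?_, ?_⟩⟩
  · have hJp : (t * v) * p = p * (t * v) := by
      calc t * v * p = t * (v * (p * v * p⁻¹) * (p * v * p⁻¹)) * p := by
            rw [mul_assoc (v : G), (hpmem v v.2).2, mul_one]
        _ = (p * t * p⁻¹) * (p * v * p⁻¹) * p := by rw [hv', hwe]; group
        _ = p * (t * v) := by group
    have hJv : ∀ u ∈ hyp.four h, (t * v) * u = u * (t * v) := fun u hu => by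
      rw [mul_assoc, hyp.four_comm h v.2 hu, ← mul_assoc, hc u hu, mul_assoc]
    let C : Subgroup G := pst G x y ⊓ centralizer ({t * (v : G)} : Set G)
    have hp' : p ∈ C := ⟨hp, mem_centralizer_singleton_iff.2 hJp.symm⟩
    have h4 : hyp.four h ≤ C := fun u hu => ⟨hu.1, mem_centralizer_singleton_iff.2 (hJv u hu).symm⟩
    have h12 : 12 ∣ Nat.card C := by
      have h3 : orderOf p = 3 := orderOf_eq_prime (by rw [pow_succ, pow_two]; exact hp3)
        (fun e => hp2 (by rw [e, one_mul]))
      exact Nat.Coprime.mul_dvd_of_dvd_of_dvd (m := 4) (n := 3) (by norm_num)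
        (hyp.card_four h ▸ card_dvd_of_le h4) (h3 ▸ Subgroup.orderOf_dvd_natCard C hp')
    have hCeq : C = pst G x y := Subgroup.eq_of_le_of_card_ge inf_le_left (by
      rw [hyp.card_pst h]; exact Nat.le_of_dvd Nat.card_pos h12)
    intro g hg
    exact (mem_centralizer_singleton_iff.1 ((hCeq.symm ▸ hg : g ∈ C)).2).symm
  · obtain ⟨u, hu, rfl⟩ := hall t' ht'
    exact ⟨v * u, mul_mem v.2 hu, by rw [mul_assoc t, ← mul_assoc (v : G), v.2.2, one_mul]⟩
  · rintro ⟨u, hu, rfl⟩
    rw [mul_assoc]
    exact hmem _ (mul_mem v.2 hu)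

/-- In the second kind each involution of the four-group commutes with exactly two swappers. -/
theorem swap_pair [Finite G] {t t' : G} {x y : Ω} (h : x ≠ y) (ht : t ∈ swapSet G x y)
    (ht' : t' ∈ swapSet G x y) (hn : ¬ hyp.Centralizing h t) {u : G} (hu : u ∈ hyp.four h)
    (hu1 : u ≠ 1) (htu : t * u = u * t) (ht'u : t' * u = u * t') : t' = t ∨ t' = t * u := by
  obtain ⟨g, hg, rfl⟩ := hyp.exists_eq_mul ht ht'
  have hg4 : g ∈ hyp.four h := by
    refine hyp.cent_pst h hu hu1 hg ?_
    have h1 : t * (g * u) = t * (u * g) := by rw [← mul_assoc, ht'u, ← mul_assoc t u g, htu, mul_assoc]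
    exact (mul_left_cancel h1).symm
  have htg : t * g = g * t := by
    have h1 : t * g * t = g := by
      calc t * g * t = t * g * t * (g * g) := by rw [hg4.2, mul_one]
        _ = t * g * (t * g) * g := by group
        _ = g := by rw [ht'.1, one_mul]
    calc t * g = t * g * (t * t) := by rw [ht.1, mul_one]
      _ = t * g * t * t := by group
      _ = g * t := by rw [h1]
  rcases eq_or_ne g 1 with rfl | hg1
  · exact Or.inl (mul_one t)
  rcases eq_or_ne g u with rfl | hgu
  · exact Or.inr rfl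
  exact absurd (hyp.centralizing_of_two h hu hg4 hu1 hg1 hgu.symm htu htg) hn

theorem mul_mem_swap {t : G} {x y : Ω} (h : x ≠ y) (ht : t ∈ swapSet G x y) {u : G}
    (hu : u ∈ hyp.four h) (htu : t * u = u * t) : t * u ∈ swapSet G x y :=
  ⟨by rw [show t * u * (t * u) = t * u * t * u by group, htu, mul_assoc u t t, ht.1, mul_one, hu.2],
   by rw [mul_smul, hu.1.1, ht.2]⟩

/-- The swappers of the second kind are conjugate under the stabiliser of the pair. -/
theorem swap_fuse [Finite G] {t t' : G} {x y : Ω} (h : x ≠ y) (ht : t ∈ swapSet G x y)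
    (ht' : t' ∈ swapSet G x y) (hn : ¬ hyp.Centralizing h t) :
    ∃ c ∈ pst G x y, c * t * c⁻¹ = t' := by
  obtain ⟨u, hu, hu1, htu⟩ := hyp.exists_cent_four h ht
  obtain ⟨u', hu', hu'1, htu'⟩ := hyp.exists_cent_four h ht'
  obtain ⟨c, hc, hcu⟩ := hyp.fuse_pst h hu hu' hu1 hu'1
  have h1 : c * t * c⁻¹ ∈ swapSet G x y := by
    have := conj_mem_swapSet (g := c) ht
    rwa [hc.1, hc.2] at this
  have hn' : ¬ hyp.Centralizing h (c * t * c⁻¹) := fun e => hn (hyp.centralizing_iff h h1 ht e)
  have hcc : c * t * c⁻¹ * u' = u' * (c * t * c⁻¹) := by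
    rw [← hcu]
    calc c * t * c⁻¹ * (c * u * c⁻¹) = c * (t * u) * c⁻¹ := by group
      _ = c * u * c⁻¹ * (c * t * c⁻¹) := by rw [htu]; group
  rcases hyp.swap_pair h h1 ht' hn' hu' hu'1 hcc htu' with e | e
  · exact ⟨c, hc, e.symm⟩
  obtain ⟨v, hv, hv1⟩ : ∃ v ∈ hyp.four h, (c * t * c⁻¹) * v ≠ v * (c * t * c⁻¹) := by
    simpa [Centralizing] using hn'
  set T := c * t * c⁻¹ with hT
  have hne1 : v ≠ 1 := fun e => hv1 (by rw [e, mul_one, one_mul])
  have hw := hyp.swap_conj_four h h1 hv
  have hz : T * v * T * v = u' := by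
    have hmem := mul_mem hw hv
    have hcT : T * (T * v * T * v) = (T * v * T * v) * T := by
      have hcom := hyp.four_comm h hv hw
      calc T * (T * v * T * v) = T * T * v * T * v := by group
        _ = v * T * v * (T * T) := by rw [h1.1, one_mul, mul_one]
        _ = v * (T * v * T) * T := by group
        _ = (T * v * T) * v * T := by rw [hcom]
    have hne : T * v * T * v ≠ 1 := fun e' => hv1 (by
      have : T * v * T = v := by
        calc T * v * T = T * v * T * (v * v) := by rw [hv.2, mul_one]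
          _ = (T * v * T * v) * v := by group
          _ = v := by rw [e', one_mul]
      calc T * v = T * v * (T * T) := by rw [h1.1, mul_one]
        _ = T * v * T * T := by group
        _ = v * T := by rw [this])
    by_contra hne'
    exact hn' (hyp.centralizing_of_two h hu' hmem hu'1 hne (Ne.symm hne') hcc hcT)
  refine ⟨v * c, mul_mem hv.1 hc, ?_⟩
  rw [e, ← hz]
  have hvi : v⁻¹ = v := inv_of_sq hv.2
  calc v * c * t * (v * c)⁻¹ = v * T * v⁻¹ := by rw [hT]; group
    _ = (T * T) * v * T * v := by rw [h1.1, hvi, one_mul]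
    _ = T * (T * v * T * v) := by group

theorem card_swap_six [Finite G] {t : G} {x y : Ω} (h : x ≠ y) (ht : t ∈ swapSet G x y)
    (hn : ¬ hyp.Centralizing h t) : (swapSet G x y).ncard = 6 := by
  classical
  have hbase : ∀ u ∈ hyp.four h, u ≠ 1 →
      ({t' ∈ swapSet G x y | t' * u = u * t'}).ncard = 2 := by
    intro u hu hu1
    obtain ⟨u₀, hu₀, hu₀1, htu₀⟩ := hyp.exists_cent_four h ht
    obtain ⟨c, hc, hcu⟩ := hyp.fuse_pst h hu₀ hu hu₀1 hu1
    have h1 : c * t * c⁻¹ ∈ swapSet G x y := by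
      have := conj_mem_swapSet (g := c) ht
      rwa [hc.1, hc.2] at this
    have hn' : ¬ hyp.Centralizing h (c * t * c⁻¹) := fun e => hn (hyp.centralizing_iff h h1 ht e)
    have hcc : c * t * c⁻¹ * u = u * (c * t * c⁻¹) := by
      rw [← hcu]
      calc c * t * c⁻¹ * (c * u₀ * c⁻¹) = c * (t * u₀) * c⁻¹ := by group
        _ = c * u₀ * c⁻¹ * (c * t * c⁻¹) := by rw [htu₀]; group
    have hset : {t' ∈ swapSet G x y | t' * u = u * t'} = {c * t * c⁻¹, c * t * c⁻¹ * u} := by
      ext t'
      constructor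
      · rintro ⟨ht', hc'⟩
        exact hyp.swap_pair h h1 ht' hn' hu hu1 hcc hc'
      · rintro (rfl | rfl)
        · exact ⟨h1, hcc⟩
        · exact ⟨hyp.mul_mem_swap h h1 hu hcc,
            ((show Commute (c * t * c⁻¹) u from hcc).mul_left (Commute.refl u)).eq⟩
    rw [hset]
    exact ncard_pair _ _ fun e => hu1 (mul_left_cancel (a := c * t * c⁻¹) (by rw [mul_one]; exact e.symm))
  haveI := Fintype.ofFinite G
  let F : Finset G := Finset.univ.filter fun u => u ∈ hyp.four h ∧ u ≠ 1
  have hF : F.card = 3 := by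
    have e : (hyp.four h : Set G).toFinset = insert 1 F := by
      ext g; simp only [Set.mem_toFinset, SetLike.mem_coe, Finset.mem_insert, F, Finset.mem_filter,
        Finset.mem_univ, true_and]
      constructor
      · exact fun hg => (eq_or_ne g 1).imp id fun h1 => ⟨hg, h1⟩
      · rintro (rfl | ⟨hg, -⟩)
        · exact one_mem _
        · exact hg
    have := congrArg Finset.card e
    rw [Finset.card_insert_of_notMem (by simp [F]), ← Set.ncard_eq_toFinset_card',
      ← Nat.card_coe_set_eq, SetLike.coe_sort_coe, hyp.card_four h] at this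
    omega
  have e : (swapSet G x y).toFinset =
      F.biUnion fun u => ({t' ∈ swapSet G x y | t' * u = u * t'}).toFinset := by
    ext t'
    simp only [Set.mem_toFinset, Finset.mem_biUnion, F, Finset.mem_filter, Finset.mem_univ, true_and,
      Set.mem_ofPred_eq]
    constructor
    · intro ht'
      obtain ⟨u, hu, hu1, hc⟩ := hyp.exists_cent_four h ht'
      exact ⟨u, ⟨hu, hu1⟩, ht', hc⟩
    · rintro ⟨u, -, ht', -⟩; exact ht'
  rw [Set.ncard_eq_toFinset_card', e, Finset.card_biUnion]
  · rw [Finset.sum_const_nat (m := 2) fun u hu => by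
      rw [← Set.ncard_eq_toFinset_card']
      exact hbase u (Finset.mem_filter.1 hu).2.1 (Finset.mem_filter.1 hu).2.2, hF]
  · intro u hu v hv huv
    simp only [F, Finset.coe_filter, Finset.mem_univ, true_and, Set.mem_ofPred_eq] at hu hv
    simp only [Function.onFun, Finset.disjoint_left, Set.mem_toFinset, Set.mem_ofPred_eq]
    rintro t' ⟨ht', h1⟩ ⟨-, h2⟩
    exact hn (hyp.centralizing_iff h ht' ht
      (hyp.centralizing_of_two h hu.1 hv.1 hu.2 hv.2 huv h1 h2))

end Hyp

end CfsgLib.TwoTransAFour
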