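import Cfsg.Agent.Lib.TwoTransAFour.Count

/-!
The two kinds of pairs and the number `j ∈ {1, 3, 4, 6}` of swappers with two fixed points.
-/

set_option autoImplicit false
set_option linter.unusedSectionVars false
set_option linter.style.haveILetI false

namespace CfsgLib.TwoTransAFour

open MulAction Subgroup

variable {G : Type*} [Group G] [Finite G] {Ω : Type*} [Finite Ω] [MulAction G Ω]

namespace Par

variable (P : Par G Ω)

/-- The swappers of a pair with two fixed points. -/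
def J0 (x y : Ω) : Set G := {t ∈ swapSet G x y | P.hyp.I0 t}

theorem mem_J0 {x y : Ω} {t : G} : t ∈ P.J0 x y ↔ (t * t = 1 ∧ t • x = y) ∧ P.hyp.I0 t := Iff.rfl

theorem I0_conj_iff {t g : G} : P.hyp.I0 (g * t * g⁻¹) ↔ P.hyp.I0 t :=
  ⟨fun h => by simpa [mul_assoc] using P.hyp.I0_conj h g⁻¹, fun h => P.hyp.I0_conj h g⟩

theorem conj_mem_J0 {t g : G} {x y : Ω} :
    g * t * g⁻¹ ∈ P.J0 (g • x) (g • y) ↔ t ∈ P.J0 x y := by
  simp only [mem_J0, P.I0_conj_iff]
  refine and_congr_left' (and_congr ?_ ?_)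
  · rw [show g * t * g⁻¹ * (g * t * g⁻¹) = g * (t * t) * g⁻¹ by group, conj_eq_one_iff]
  · simp [mul_smul]

include P in
theorem exists_moved {t : G} (ht : t ≠ 1) : ∃ x : Ω, t • x ≠ x := by
  by_contra h
  exact ht (P.faithful t fun x => not_not.1 (not_exists.1 h x))

theorem J0_nonempty {x y : Ω} (h : x ≠ y) : (P.J0 x y).Nonempty := by
  obtain ⟨z, hz, hz1⟩ := P.hyp.exists_invol h
  obtain ⟨w, hw⟩ := P.exists_moved hz1
  obtain ⟨g, hgx, hgy⟩ := P.hyp.exists_map hw.symm h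
  refine ⟨g * z * g⁻¹, ?_⟩
  rw [← hgx, ← hgy, P.conj_mem_J0]
  exact ⟨⟨hz.2, rfl⟩, P.hyp.I0_of_mem h hz hz1⟩

theorem ncard_J0 {x y x' y' : Ω} (h : x ≠ y) (h' : x' ≠ y') :
    (P.J0 x y).ncard = (P.J0 x' y').ncard := by
  obtain ⟨g, rfl, rfl⟩ := P.hyp.exists_map h h'
  refine Set.ncard_congr (fun t _ => g * t * g⁻¹) (fun t ht => P.conj_mem_J0.2 ht)
    (fun s t _ _ e => mul_left_cancel (mul_right_cancel e)) fun t ht => ⟨g⁻¹ * t * g, ?_, by group⟩
  rw [← P.conj_mem_J0 (g := g)]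
  simpa [mul_assoc] using ht

theorem centralizing_conj {x y x' y' : Ω} (h : x ≠ y) (h' : x' ≠ y') {g : G} (hgx : g • x = x')
    (hgy : g • y = y') {t : G} (ht : P.hyp.Centralizing h t) :
    P.hyp.Centralizing h' (g * t * g⁻¹) := by
  intro v hv
  have hu : g⁻¹ * v * g ∈ P.hyp.four h :=
    (P.hyp.conj_four h h' hgx hgy).1 (by simpa [mul_assoc] using hv)
  calc g * t * g⁻¹ * v = g * (t * (g⁻¹ * v * g)) * g⁻¹ := by group
    _ = v * (g * t * g⁻¹) := by rw [ht _ hu]; group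

/-- All pairs are of the same kind. -/
theorem centralizing_uniform {x y : Ω} (h : x ≠ y) {t : G} (ht : t ∈ swapSet G x y)
    (hc : P.hyp.Centralizing h t) {x' y' : Ω} (h' : x' ≠ y') {t' : G} (ht' : t' ∈ swapSet G x' y') :
    P.hyp.Centralizing h' t' := by
  obtain ⟨g, hgx, hgy⟩ := P.hyp.exists_map h h'
  refine P.hyp.centralizing_iff h' ?_ ht' (P.centralizing_conj h h' hgx hgy hc)
  have := conj_mem_swapSet (g := g) ht
  rwa [hgx, hgy] at this

/-- `j` swappers of each pair fix two points. -/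
structure Kind (j : ℕ) : Prop where
  card : ∀ x y : Ω, x ≠ y → (P.J0 x y).ncard = j
  kind : (j = 6 ∧ ∀ x y : Ω, ∀ h : x ≠ y, ∀ t ∈ swapSet G x y, ¬ P.hyp.Centralizing h t) ∨
    ((j = 1 ∨ j = 3 ∨ j = 4) ∧ ∀ x y : Ω, ∀ h : x ≠ y, ∀ t ∈ swapSet G x y, P.hyp.Centralizing h t)

theorem exists_kind {a b : Ω} (hab : a ≠ b) : ∃ j, P.Kind j := by
  obtain ⟨t, ht, ht0⟩ := P.J0_nonempty hab
  refine ⟨(P.J0 a b).ncard, fun x y h => P.ncard_J0 h hab, ?_⟩
  by_cases hc : P.hyp.Centralizing hab t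
  · right
    refine ⟨?_, fun x y h s hs => P.centralizing_uniform hab ht hc h hs⟩
    obtain ⟨J, hJ, hJc, hall⟩ := P.hyp.exists_J hab ht hc
    have hmem : ∀ v ∈ P.hyp.four hab, J * v ∈ swapSet G a b := fun v hv => (hall _).2 ⟨v, hv, rfl⟩
    have hconj : ∀ u ∈ P.hyp.four hab, ∀ v ∈ P.hyp.four hab, u ≠ 1 → v ≠ 1 →
        P.hyp.I0 (J * u) → P.hyp.I0 (J * v) := by
      intro u hu v hv hu1 hv1 h0
      obtain ⟨c, hc1, hcv⟩ := P.hyp.fuse_pst hab hu hv hu1 hv1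
      rw [show J * v = c * (J * u) * c⁻¹ by
        rw [← hcv, ← mul_assoc c J u, ← hJc c hc1]; group]
      exact P.hyp.I0_conj h0 c
    have hinj : ∀ S : Set G, ((fun v => J * v) '' S).ncard = S.ncard := fun S =>
      Set.ncard_image_of_injective S (mul_right_injective J)
    have h4 : (P.hyp.four hab : Set G).ncard = 4 := by
      rw [← Nat.card_coe_set_eq]; exact P.hyp.card_four hab
    obtain ⟨u, hu, hu1⟩ := P.hyp.exists_invol hab
    by_cases h3 : P.hyp.I0 (J * u)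
    · by_cases hJ0 : P.hyp.I0 J
      · right; right
        rw [← h4, ← hinj (P.hyp.four hab : Set G)]
        congr 1
        ext s
        constructor
        · rintro ⟨hs, -⟩
          obtain ⟨v, hv, rfl⟩ := (hall s).1 hs
          exact ⟨v, hv, rfl⟩
        · rintro ⟨v, hv, rfl⟩
          refine ⟨hmem v hv, ?_⟩
          rcases eq_or_ne v 1 with rfl | hv1
          · simpa using hJ0
          · exact hconj u hu v hv hu1 hv1 h3
      · right; left
        have e : P.J0 a b = (fun v => J * v) '' ((P.hyp.four hab : Set G) \ {1}) := by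
          ext s
          constructor
          · rintro ⟨hs, hs0⟩
            obtain ⟨v, hv, rfl⟩ := (hall s).1 hs
            exact ⟨v, ⟨hv, fun e => hJ0 (by simpa [Set.mem_singleton_iff.1 e] using hs0)⟩, rfl⟩
          · rintro ⟨v, ⟨hv, hv1⟩, rfl⟩
            exact ⟨hmem v hv, hconj u hu v hv hu1 hv1 h3⟩
        rw [e, hinj, Set.ncard_sdiff_singleton_of_mem (one_mem _), h4]
    · left
      rw [Set.ncard_eq_one]
      refine ⟨J, Set.eq_singleton_iff_unique_mem.2 ?_⟩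
      have key : ∀ s ∈ P.J0 a b, s = J := by
        rintro s ⟨hs, hs0⟩
        obtain ⟨v, hv, rfl⟩ := (hall s).1 hs
        rcases eq_or_ne v 1 with rfl | hv1
        · exact mul_one J
        · exact absurd (hconj v hv u hu hv1 hu1 hs0) h3
      exact ⟨key t ⟨ht, ht0⟩ ▸ ⟨ht, ht0⟩, key⟩
  · left
    have hn : ∀ x y : Ω, ∀ h : x ≠ y, ∀ s ∈ swapSet G x y, ¬ P.hyp.Centralizing h s :=
      fun x y h s hs e => hc (P.centralizing_uniform h hs e hab ht)
    refine ⟨?_, hn⟩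
    rw [← P.hyp.card_swap_six hab ht hc]
    congr 1
    refine Set.Subset.antisymm (fun s hs => hs.1) fun s hs => ⟨hs, ?_⟩
    obtain ⟨c, -, rfl⟩ := P.hyp.swap_fuse hab ht hs hc
    exact P.hyp.I0_conj ht0 c

variable {P} {j : ℕ}

theorem Kind.j_cases (K : P.Kind j) : j = 1 ∨ j = 3 ∨ j = 4 ∨ j = 6 := by
  rcases K.kind with ⟨h, -⟩ | ⟨h, -⟩ <;> omega

theorem Kind.not_centralizing (K : P.Kind j) (hj : j = 6) {x y : Ω} (h : x ≠ y) {t : G}
    (ht : t ∈ swapSet G x y) : ¬ P.hyp.Centralizing h t := by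
  rcases K.kind with ⟨-, hk⟩ | ⟨hk, -⟩
  · exact hk x y h t ht
  · omega

theorem Kind.centralizing (K : P.Kind j) (hj : j ≠ 6) {x y : Ω} (h : x ≠ y) {t : G}
    (ht : t ∈ swapSet G x y) : P.hyp.Centralizing h t := by
  rcases K.kind with ⟨hk, -⟩ | ⟨-, hk⟩
  · exact absurd hk hj
  · exact hk x y h t ht

theorem Kind.card_swap (K : P.Kind j) {x y : Ω} (h : x ≠ y) :
    (swapSet G x y).ncard = if j = 6 then 6 else 4 := by
  obtain ⟨t, ht, -⟩ := P.J0_nonempty h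
  split_ifs with hj
  · exact P.hyp.card_swap_six h ht (K.not_centralizing hj h ht)
  · obtain ⟨J, -, -, hall⟩ := P.hyp.exists_J h ht (K.centralizing hj h ht)
    rw [show swapSet G x y = (fun v => J * v) '' (P.hyp.four h : Set G) from Set.ext fun s =>
        (hall s).trans ⟨fun ⟨v, hv, e⟩ => ⟨v, hv, e.symm⟩, fun ⟨v, hv, e⟩ => ⟨v, hv, e.symm⟩⟩,
      Set.ncard_image_of_injective _ (mul_right_injective J), ← Nat.card_coe_set_eq]
    exact P.hyp.card_four h

theorem Kind.moved (K : P.Kind j) {a b : Ω} (hab : a ≠ b) :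
    3 * (P.n - P.f) = j * (P.f * (P.f - 1)) :=
  P.moved_eq hab K.card

/-- With `j = 4` or `j = 6` all involutions have two fixed points. -/
theorem Kind.all_I0 (K : P.Kind j) (hj : j = 4 ∨ j = 6) {t : G} (ht : t * t = 1) (ht1 : t ≠ 1) :
    P.hyp.I0 t := by
  obtain ⟨x, hx⟩ := P.exists_moved ht1
  have e : P.J0 x (t • x) = swapSet G x (t • x) := Set.eq_of_subset_of_ncard_le (fun s hs => hs.1) (by
    rw [K.card x _ hx.symm, K.card_swap hx.symm]
    split_ifs <;> omega)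
  have : t ∈ P.J0 x (t • x) := by rw [e]; exact ⟨ht, rfl⟩
  exact this.2

/-- With `j = 3` exactly one swapper of a pair has at most one fixed point, and it is central in the
stabiliser of the pair. -/
theorem Kind.exists_unique_J (K : P.Kind j) (hj : j = 3) {x y : Ω} (h : x ≠ y) :
    ∃ J ∈ swapSet G x y, ¬ P.hyp.I0 J ∧ (∀ g ∈ pst G x y, J * g = g * J) ∧
      ∀ t ∈ swapSet G x y, ¬ P.hyp.I0 t → t = J := by
  obtain ⟨t, ht, -⟩ := P.J0_nonempty h
  obtain ⟨J, hJ, hJc, hall⟩ := P.hyp.exists_J h ht (K.centralizing (by omega) h ht)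
  have hd : (swapSet G x y \ P.J0 x y).ncard = 1 := by
    rw [Set.ncard_sdiff (fun s hs => hs.1), K.card x y h, K.card_swap h, if_neg (by omega), hj]
  obtain ⟨r, hr⟩ := Set.ncard_eq_one.1 hd
  have huniq : ∀ s ∈ swapSet G x y, ¬ P.hyp.I0 s → s = r := fun s hs hs0 =>
    Set.mem_singleton_iff.1 (hr ▸ ⟨hs, fun e => hs0 e.2⟩)
  suffices hJ0 : ¬ P.hyp.I0 J from
    ⟨J, hJ, hJ0, hJc, fun s hs hs0 => (huniq s hs hs0).trans (huniq J hJ hJ0).symm⟩
  intro hJ0
  obtain ⟨hr1, hr0⟩ : r ∈ swapSet G x y ∧ r ∉ P.J0 x y := (hr ▸ rfl : r ∈ swapSet G x y \ P.J0 x y)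
  obtain ⟨v, hv, rfl⟩ := (hall r).1 hr1
  have hv1 : v ≠ 1 := fun e => hr0 ⟨hr1, by rw [e, mul_one]; exact hJ0⟩
  obtain ⟨p, hp, -, -, hpf⟩ := P.hyp.exists_three h
  have hv' : p * v * p⁻¹ ∈ P.hyp.four h := (P.hyp.conj_four h h hp.1 hp.2).2 hv
  refine hpf v hv hv1 (mul_left_cancel (huniq _ ((hall _).2 ⟨_, hv', rfl⟩) fun e => hr0 ⟨hr1, ?_⟩))
  have := P.hyp.I0_conj e p⁻¹
  rwa [show p⁻¹ * (J * (p * v * p⁻¹)) * p⁻¹⁻¹ = p⁻¹ * J * p * v by group, mul_assoc p⁻¹ J p,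
    hJc p hp, ← mul_assoc, inv_mul_cancel, one_mul] at this

end Par

end CfsgLib.TwoTransAFour
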